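import Cfsg.Agent.Lib.CoverPSL.Pair

/-!
# Products of conjugates of a matrix

`Cov m A B`: `B` is a product of `m` matrices similar to `A`.  `CovS` asks for conjugators of
determinant one, `CovNE` that the factors have no common eigenvector.
-/

set_option autoImplicit false

namespace Cfsg.Agent.CoverPSL

open Matrix Cfsg.Agent.Classical.Thompson

variable {F : Type*} [Field F] {ι : Type*} [Fintype ι] [DecidableEq ι]

/-- `B` is a product of `m` conjugates of `A`. -/
def Cov (m : ℕ) (A B : Matrix ι ι F) : Prop :=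
  ∃ l : List (Matrix ι ι F), l.length = m ∧ (∀ X ∈ l, Sim X A) ∧ l.prod = B

/-- `B` is a product of `m` conjugates of `A` by matrices of determinant one. -/
def CovS (m : ℕ) (A B : Matrix ι ι F) : Prop :=
  ∃ l : List (Matrix ι ι F), l.length = m ∧ (∀ X ∈ l, SimD 1 X A) ∧ l.prod = B

/-- `B` is a product of `m` conjugates of `A` without common eigenvector. -/
def CovNE (m : ℕ) (A B : Matrix ι ι F) : Prop :=
  ∃ l : List (Matrix ι ι F), l.length = m ∧ (∀ X ∈ l, Sim X A) ∧ l.prod = B ∧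
    ∀ y : ι → F, y ≠ 0 → ∃ X ∈ l, ∀ c : F, X *ᵥ y ≠ c • y

/-- Every determinant occurs in the centralizer of `A`. -/
def CentFull (A : Matrix ι ι F) : Prop :=
  ∀ t : F, t ≠ 0 → ∃ Z : Matrix ι ι F, Z.det = t ∧ Z * A = A * Z

theorem exists_simD {X A : Matrix ι ι F} (h : Sim X A) : ∃ δ : F, δ ≠ 0 ∧ SimD δ X A := by
  obtain ⟨P, Q, hPQ, rfl⟩ := h
  refine ⟨P.det, ?_, P, rfl, ?_⟩
  · intro h0
    have := congrArg Matrix.det hPQ
    rw [det_mul, h0, zero_mul, det_one] at this
    exact zero_ne_one this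
  · rw [Matrix.mul_assoc, mul_eq_one_comm.1 hPQ, Matrix.mul_one]

theorem CentFull.simD_one {X A : Matrix ι ι F} (hA : CentFull A) (h : Sim X A) : SimD 1 X A := by
  obtain ⟨δ, hδ, P, hP, e⟩ := exists_simD h
  obtain ⟨Z, hZ, hZA⟩ := hA δ⁻¹ (inv_ne_zero hδ)
  refine ⟨P * Z, by rw [det_mul, hP, hZ, mul_inv_cancel₀ hδ], ?_⟩
  rw [← Matrix.mul_assoc, e, Matrix.mul_assoc P A Z, ← hZA, Matrix.mul_assoc]

theorem CentFull.sim {A A' : Matrix ι ι F} (hA : CentFull A) (h : Sim A' A) : CentFull A' := by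
  intro t ht
  obtain ⟨Z, hZ, hZA⟩ := hA t ht
  obtain ⟨P, Q, hPQ, rfl⟩ := h
  have hQP : Q * P = 1 := mul_eq_one_comm.1 hPQ
  refine ⟨P * Z * Q, by rw [det_mul, det_mul, hZ, mul_right_comm, ← det_mul, hPQ, det_one, one_mul], ?_⟩
  calc P * Z * Q * (P * A * Q) = P * (Z * (Q * P) * A) * Q := by simp only [Matrix.mul_assoc]
    _ = P * (A * (Q * P) * Z) * Q := by simp [hQP, hZA]
    _ = _ := by simp only [Matrix.mul_assoc]

theorem SimD.det_eq {δ : F} (hδ : δ ≠ 0) {X A : Matrix ι ι F} (h : SimD δ X A) : X.det = A.det :=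
  (h.sim hδ).det_eq

theorem CovS.cov {m : ℕ} {A B : Matrix ι ι F} (h : CovS m A B) : Cov m A B := by
  obtain ⟨l, hl, hX, hp⟩ := h
  exact ⟨l, hl, fun X hXl => (hX X hXl).sim one_ne_zero, hp⟩

theorem CovNE.cov {m : ℕ} {A B : Matrix ι ι F} (h : CovNE m A B) : Cov m A B := by
  obtain ⟨l, hl, hX, hp, -⟩ := h
  exact ⟨l, hl, hX, hp⟩

/-- Without eigenvalues there is never a common eigenvector. -/
theorem Cov.covNE {m : ℕ} (hm : 1 ≤ m) {A B : Matrix ι ι F} (h : Cov m A B)
    (hA : ∀ y : ι → F, y ≠ 0 → ∀ c : F, A *ᵥ y ≠ c • y) : CovNE m A B := by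
  obtain ⟨l, hl, hX, hp⟩ := h
  refine ⟨l, hl, hX, hp, fun y hy => ?_⟩
  obtain ⟨X, hXl⟩ := List.exists_mem_of_length_pos (l := l) (by omega)
  refine ⟨X, hXl, fun c hc => ?_⟩
  obtain ⟨P, Q, hPQ, rfl⟩ := hX X hXl
  have hQP : Q * P = 1 := mul_eq_one_comm.1 hPQ
  refine hA (Q *ᵥ y) (fun h0 => hy ?_) c ?_
  · have := congrArg (P *ᵥ ·) h0
    simpa [mulVec_mulVec, hPQ] using this
  · have := congrArg (Q *ᵥ ·) hc
    simpa [mulVec_mulVec, ← Matrix.mul_assoc, hQP, mulVec_smul] using this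

theorem CentFull.covS {m : ℕ} {A B : Matrix ι ι F} (hA : CentFull A) (h : Cov m A B) : CovS m A B := by
  obtain ⟨l, hl, hX, hp⟩ := h
  exact ⟨l, hl, fun X hXl => hA.simD_one (hX X hXl), hp⟩

theorem Cov.det_eq {m : ℕ} {A B : Matrix ι ι F} (h : Cov m A B) : B.det = A.det ^ m := by
  obtain ⟨l, rfl, hX, rfl⟩ := h
  induction l with
  | nil => simp
  | cons X l ih =>
    rw [List.prod_cons, det_mul, (hX X List.mem_cons_self).det_eq,
      ih fun Y hY => hX Y (List.mem_cons_of_mem _ hY), List.length_cons, pow_succ, mul_comm]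

theorem Cov.single {A X : Matrix ι ι F} (h : Sim X A) : Cov 1 A X := ⟨[X], rfl, by simpa using h, by simp⟩

theorem CovS.single {A X : Matrix ι ι F} (h : SimD 1 X A) : CovS 1 A X := ⟨[X], rfl, by simpa using h, by simp⟩

theorem Cov.add {m k : ℕ} {A B C : Matrix ι ι F} (h : Cov m A B) (h' : Cov k A C) :
    Cov (m + k) A (B * C) := by
  obtain ⟨l, rfl, hX, rfl⟩ := h
  obtain ⟨l', rfl, hX', rfl⟩ := h'
  exact ⟨l ++ l', List.length_append, fun X hXl => (List.mem_append.1 hXl).elim (hX X) (hX' X), List.prod_append⟩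

theorem CovS.add {m k : ℕ} {A B C : Matrix ι ι F} (h : CovS m A B) (h' : CovS k A C) :
    CovS (m + k) A (B * C) := by
  obtain ⟨l, rfl, hX, rfl⟩ := h
  obtain ⟨l', rfl, hX', rfl⟩ := h'
  exact ⟨l ++ l', List.length_append, fun X hXl => (List.mem_append.1 hXl).elim (hX X) (hX' X), List.prod_append⟩

theorem prod_conj (P Q : Matrix ι ι F) (hPQ : P * Q = 1) (l : List (Matrix ι ι F)) :
    (l.map fun X => P * X * Q).prod = P * l.prod * Q := by
  have hQP : Q * P = 1 := mul_eq_one_comm.1 hPQ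
  induction l with
  | nil => simp [hPQ]
  | cons X l ih =>
    rw [List.map_cons, List.prod_cons, ih, List.prod_cons]
    calc P * X * Q * (P * l.prod * Q) = P * X * (Q * P) * l.prod * Q := by simp only [Matrix.mul_assoc]
      _ = _ := by rw [hQP, Matrix.mul_one]; simp only [Matrix.mul_assoc]

theorem Cov.conj {m : ℕ} {A B B' : Matrix ι ι F} (h : Cov m A B) (hB : Sim B' B) : Cov m A B' := by
  obtain ⟨l, rfl, hX, rfl⟩ := h
  obtain ⟨P, Q, hPQ, rfl⟩ := hB
  refine ⟨l.map fun X => P * X * Q, List.length_map _, fun Y hY => ?_, prod_conj P Q hPQ l⟩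
  obtain ⟨X, hXl, rfl⟩ := List.mem_map.1 hY
  exact Sim.trans ⟨P, Q, hPQ, rfl⟩ (hX X hXl)

theorem CovS.conj {m : ℕ} {A B B' : Matrix ι ι F} (h : CovS m A B) (hB : SimD 1 B' B) : CovS m A B' := by
  obtain ⟨l, rfl, hX, rfl⟩ := h
  obtain ⟨P, hP, e⟩ := hB
  have hu : IsUnit P.det := by rw [hP]; exact isUnit_one
  have hB' : B' = P * l.prod * P⁻¹ := by rw [← e, Matrix.mul_assoc, mul_nonsing_inv _ hu, Matrix.mul_one]
  refine ⟨l.map fun X => P * X * P⁻¹, List.length_map _, fun Y hY => ?_,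
    (prod_conj P P⁻¹ (mul_nonsing_inv _ hu) l).trans hB'.symm⟩
  obtain ⟨X, hXl, rfl⟩ := List.mem_map.1 hY
  have h1 : SimD 1 (P * X * P⁻¹) X :=
    ⟨P, hP, by rw [Matrix.mul_assoc (P * X), nonsing_inv_mul _ hu, Matrix.mul_one]⟩
  simpa using h1.trans (hX X hXl)

theorem Cov.congr {m : ℕ} {A A' B : Matrix ι ι F} (h : Cov m A B) (hA : Sim A A') : Cov m A' B := by
  obtain ⟨l, hl, hX, hp⟩ := h
  exact ⟨l, hl, fun X hXl => (hX X hXl).trans hA, hp⟩

theorem CovS.congr {m : ℕ} {A A' B : Matrix ι ι F} (h : CovS m A B) (hA : SimD 1 A A') : CovS m A' B := by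
  obtain ⟨l, hl, hX, hp⟩ := h
  exact ⟨l, hl, fun X hXl => by simpa using (hX X hXl).trans hA, hp⟩

/-- A non-scalar class of invertible matrices has two members that are not proportional. -/
theorem exists_conj_not_smul {n : ℕ} (hn : 3 ≤ n) {A : Matrix (Fin n) (Fin n) F} (hA : A.det ≠ 0)
    (hns : ∀ a : F, A ≠ a • 1) :
    ∃ X : Matrix (Fin n) (Fin n) F, SimD 1 X A ∧ ∀ c : F, X ≠ c • A := by
  classical
  by_contra hall
  push Not at hall
  have hcomm : ∀ i j : Fin n, i ≠ j → Matrix.single i j (1 : F) * A = A * Matrix.single i j 1 := by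
    intro i j hij
    have hinv : transvection i j (1 : F) * transvection i j (-1) = 1 := by
      rw [transvection_mul_transvection_same _ _ hij, add_neg_cancel, transvection_zero]
    have hdet := det_transvection_of_ne i j hij (1 : F)
    obtain ⟨c, hc⟩ := hall (transvection i j 1 * A * transvection i j (-1))
      ⟨transvection i j 1, hdet, by
        rw [Matrix.mul_assoc _ (transvection i j (-1)), mul_eq_one_comm.1 hinv, Matrix.mul_one]⟩
    have e : transvection i j (1 : F) * A = c • (A * transvection i j 1) := by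
      rw [← Matrix.smul_mul, ← hc, Matrix.mul_assoc _ (transvection i j (-1)), mul_eq_one_comm.1 hinv,
        Matrix.mul_one]
    rw [transvection, Matrix.add_mul, Matrix.one_mul, Matrix.mul_add, Matrix.mul_one, smul_add] at e
    by_cases hc1 : c = 1
    · subst hc1
      simpa using e
    · exfalso
      have e' : (1 - c) • A = c • (A * Matrix.single i j 1) - Matrix.single i j 1 * A := by
        rw [sub_smul, one_smul, eq_sub_iff_add_eq, sub_add_eq_add_sub, sub_eq_iff_eq_add, e, add_comm]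
      obtain ⟨l, hl⟩ : ∃ l : Fin n, l ≠ i ∧ l ≠ j := by
        have h : ({i, j} : Finset (Fin n)).card < (Finset.univ : Finset (Fin n)).card :=
          lt_of_le_of_lt Finset.card_le_two (by simp; omega)
        obtain ⟨l, -, hl⟩ := Finset.exists_mem_notMem_of_card_lt_card h
        exact ⟨l, by simpa using hl⟩
      have hcol : ∀ r : Fin n, r ≠ i → A r l = 0 := fun r hr => by
        have := congrFun (congrFun e' r) l
        simp [Matrix.mul_single_apply_of_ne, Matrix.single_mul_apply_of_ne, hr, hl.2, sub_ne_zero.2 (Ne.symm hc1)] at this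
        exact this
      have hrow : ∀ r : Fin n, r ≠ j → A l r = 0 := fun r hr => by
        have := congrFun (congrFun e' l) r
        simp [Matrix.mul_single_apply_of_ne, Matrix.single_mul_apply_of_ne, hl.1, hr, sub_ne_zero.2 (Ne.symm hc1)] at this
        exact this
      refine hA (det_eq_zero_of_column_eq_zero l fun r => ?_)
      by_cases hr : r = i
      · subst hr
        have := congrFun (congrFun e' r) l
        simp [Matrix.mul_single_apply_of_ne, hl.2, hrow l hl.2, sub_ne_zero.2 (Ne.symm hc1),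
          Matrix.single_mul_apply_same, hcol j (Ne.symm hij)] at this
        exact this
      · exact hcol r hr
  obtain ⟨a, ha⟩ := Matrix.mem_range_scalar_of_commute_single (fun i j hij => hcomm i j hij)
  exact hns a (by rw [← ha, smul_one_eq_diagonal]; rfl)

/-- Padding: if all non-scalar matrices are products of `m` conjugates, all are products of `m + 1`. -/
theorem CovS.pad {n m : ℕ} (hn : 3 ≤ n) {A : Matrix (Fin n) (Fin n) F} (hA : A.det ≠ 0)
    (hns : ∀ a : F, A ≠ a • 1)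
    (h : ∀ B : Matrix (Fin n) (Fin n) F, B.det = A.det ^ m → (∀ a : F, B ≠ a • 1) → CovS m A B)
    {B : Matrix (Fin n) (Fin n) F} (hB : B.det = A.det ^ (m + 1)) : CovS (m + 1) A B := by
  classical
  obtain ⟨X, hX, hXA⟩ := exists_conj_not_smul hn hA hns
  have key : ∀ Y : Matrix (Fin n) (Fin n) F, SimD 1 Y A → (∀ a : F, B * Y⁻¹ ≠ a • 1) → CovS (m + 1) A B := by
    intro Y hY hne
    have hYd : Y.det = A.det := hY.det_eq one_ne_zero
    have hYu : IsUnit Y.det := by rw [hYd]; exact isUnit_iff_ne_zero.2 hA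
    have h1 := (h (B * Y⁻¹) (by
      rw [det_mul, hB, det_nonsing_inv, Ring.inverse_eq_inv, hYd, pow_succ, mul_assoc, mul_inv_cancel₀ hA,
        mul_one]) hne).add (CovS.single hY)
    rwa [Matrix.mul_assoc, nonsing_inv_mul _ hYu, Matrix.mul_one] at h1
  by_cases h1 : ∀ a : F, B * A⁻¹ ≠ a • 1
  · exact key A (SimD.refl A) h1
  · push Not at h1
    obtain ⟨a, ha⟩ := h1
    refine key X hX fun b hb => ?_
    have hAu : IsUnit A.det := isUnit_iff_ne_zero.2 hA
    have hXu : IsUnit X.det := by rw [hX.det_eq one_ne_zero]; exact hAu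
    have e1 : B = a • A := by
      have := congrArg (· * A) ha
      simpa [Matrix.mul_assoc, nonsing_inv_mul _ hAu] using this
    have e2 : B = b • X := by
      have := congrArg (· * X) hb
      simpa [Matrix.mul_assoc, nonsing_inv_mul _ hXu] using this
    have hb0 : b ≠ 0 := by
      rintro rfl
      haveI : Nonempty (Fin n) := ⟨⟨0, by omega⟩⟩
      rw [e2, zero_smul, det_zero] at hB
      exact pow_ne_zero _ hA hB.symm
    refine hXA (b⁻¹ * a) ?_
    rw [← smul_smul, ← e1, e2, smul_smul, inv_mul_cancel₀ hb0, one_smul]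

/-- Some conjugate `X` of `A` leaves a non-scalar quotient `B * X⁻¹`. -/
theorem exists_quotient_not_scalar {n : ℕ} (hn : 3 ≤ n) {A : Matrix (Fin n) (Fin n) F} (hA : A.det ≠ 0)
    (hns : ∀ a : F, A ≠ a • 1) {B : Matrix (Fin n) (Fin n) F} (hB : B.det ≠ 0) :
    ∃ X : Matrix (Fin n) (Fin n) F, SimD 1 X A ∧ ∀ a : F, B * X⁻¹ ≠ a • 1 := by
  haveI : Nonempty (Fin n) := ⟨⟨0, by omega⟩⟩
  have expand : ∀ (Y : Matrix (Fin n) (Fin n) F), Y.det = A.det → ∀ a : F, B * Y⁻¹ = a • 1 → B = a • Y := by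
    intro Y hY a ha
    have hYu : IsUnit Y.det := by rw [hY]; exact isUnit_iff_ne_zero.2 hA
    have := congrArg (· * Y) ha
    simpa [Matrix.mul_assoc, nonsing_inv_mul _ hYu] using this
  by_cases h1 : ∀ a : F, B * A⁻¹ ≠ a • 1
  · exact ⟨A, SimD.refl A, h1⟩
  · push Not at h1
    obtain ⟨a, ha⟩ := h1
    obtain ⟨X, hX, hXA⟩ := exists_conj_not_smul hn hA hns
    refine ⟨X, hX, fun b hb => ?_⟩
    have e1 := expand A rfl a ha
    have e2 := expand X (hX.det_eq one_ne_zero) b hb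
    have hb0 : b ≠ 0 := by
      rintro rfl
      exact hB (by rw [e2, zero_smul, det_zero])
    refine hXA (b⁻¹ * a) ?_
    rw [← smul_smul, ← e1, e2, smul_smul, inv_mul_cancel₀ hb0, one_smul]

/-- Padding for factorisations without common eigenvector. -/
theorem CovNE.pad {n m : ℕ} (hn : 3 ≤ n) {A : Matrix (Fin n) (Fin n) F} (hA : A.det ≠ 0)
    (hns : ∀ a : F, A ≠ a • 1)
    (h : ∀ B : Matrix (Fin n) (Fin n) F, B.det = A.det ^ m → (∀ a : F, B ≠ a • 1) → CovNE m A B)
    {B : Matrix (Fin n) (Fin n) F} (hB : B.det = A.det ^ (m + 1)) : CovNE (m + 1) A B := by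
  obtain ⟨X, hX, hne⟩ := exists_quotient_not_scalar hn hA hns (B := B) (by rw [hB]; exact pow_ne_zero _ hA)
  have hXd : X.det = A.det := hX.det_eq one_ne_zero
  have hXu : IsUnit X.det := by rw [hXd]; exact isUnit_iff_ne_zero.2 hA
  obtain ⟨l, hl, hls, hlp, hle⟩ := h (B * X⁻¹) (by
    rw [det_mul, hB, det_nonsing_inv, Ring.inverse_eq_inv, hXd, pow_succ, mul_assoc, mul_inv_cancel₀ hA, mul_one]) hne
  refine ⟨l ++ [X], by simp [hl], fun Y hY => ?_, by simp [hlp, Matrix.mul_assoc, nonsing_inv_mul _ hXu], fun y hy => ?_⟩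
  · rcases List.mem_append.1 hY with hY | hY
    · exact hls Y hY
    · rw [List.mem_singleton.1 hY]; exact hX.sim one_ne_zero
  · obtain ⟨Y, hY, hYy⟩ := hle y hy
    exact ⟨Y, List.mem_append_left _ hY, hYy⟩

/-- Every `k > m` works, scalar targets included. -/
theorem CovS.pad_le {n m k : ℕ} (hn : 3 ≤ n) {A : Matrix (Fin n) (Fin n) F} (hA : A.det ≠ 0)
    (hns : ∀ a : F, A ≠ a • 1)
    (h : ∀ B : Matrix (Fin n) (Fin n) F, B.det = A.det ^ m → (∀ a : F, B ≠ a • 1) → CovS m A B)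
    (hk : m < k) {B : Matrix (Fin n) (Fin n) F} (hB : B.det = A.det ^ k) : CovS k A B := by
  induction k, hk using Nat.le_induction generalizing B with
  | base => exact CovS.pad hn hA hns h hB
  | succ j _ ih => exact CovS.pad hn hA hns (fun B' hB' _ => ih hB') hB

end Cfsg.Agent.CoverPSL
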