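import Cfsg.Agent.Lib.CoverPSL.Line

/-!
# An eigenvector with a wide quotient
-/

set_option autoImplicit false

namespace Cfsg.Agent.CoverPSL

open Matrix Cfsg.Agent.Classical.Thompson

variable {F : Type*} [Field F] {n m : ℕ}

/-- The two kinds of four-dimensional classes without a wide quotient: `diag (k, k, k', k')` and
`J₂ ⊕ J₂`. -/
def Special (A : Matrix (Fin n) (Fin n) F) : Prop :=
  n = 4 ∧ ((∃ k k' : F, k ≠ k' ∧ (A - k • 1).rank = 2 ∧ (A - k' • 1).rank = 2) ∨
    ∃ k : F, (A - k • 1).rank = 2 ∧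
      LinearMap.ker (A - k • 1).mulVecLin ≤ LinearMap.range (A - k • 1).mulVecLin)

theorem unique_two (hn : 4 ≤ n) {A : Matrix (Fin n) (Fin n) F} (hs : ¬ Special A) {k k' : F}
    (h : (A - k • 1).rank = 2) (h' : (A - k' • 1).rank = 2) : k = k' := by
  by_contra hne
  refine hs ⟨?_, Or.inl ⟨k, k', hne, h, h'⟩⟩
  have hdisj : LinearMap.ker (A - k • 1).mulVecLin ⊓ LinearMap.ker (A - k' • 1).mulVecLin = ⊥ := by
    refine (Submodule.eq_bot_iff _).2 fun x hx => ?_
    obtain ⟨h1, h2⟩ := hx
    have e1 : A *ᵥ x = k • x := by simpa [sub_mulVec, smul_mulVec, sub_eq_zero] using h1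
    have e2 : A *ᵥ x = k' • x := by simpa [sub_mulVec, smul_mulVec, sub_eq_zero] using h2
    have e3 : (k - k') • x = 0 := by rw [sub_smul, ← e1, ← e2, sub_self]
    exact (smul_eq_zero.1 e3).resolve_left (sub_ne_zero.2 hne)
  have h1 := Submodule.finrank_sup_add_finrank_inf_eq (LinearMap.ker (A - k • 1).mulVecLin)
    (LinearMap.ker (A - k' • 1).mulVecLin)
  rw [hdisj, finrank_bot] at h1
  have h2 := Submodule.finrank_le
    (LinearMap.ker (A - k • 1).mulVecLin ⊔ LinearMap.ker (A - k' • 1).mulVecLin)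
  have h3 := LinearMap.finrank_range_add_finrank_ker (A - k • 1).mulVecLin
  have h4 := LinearMap.finrank_range_add_finrank_ker (A - k' • 1).mulVecLin
  rw [← Matrix.rank, Module.finrank_pi, Fintype.card_fin] at h3 h4
  rw [Module.finrank_pi, Fintype.card_fin] at h2
  omega

/-- A good vector. -/
theorem exists_goodVec [Fintype F] (h3 : 3 ≤ Fintype.card F) (hn : 4 ≤ n) {A : Matrix (Fin n) (Fin n) F}
    (hw : Wide A) (hs : ¬ Special A) : ∃ u, GoodVec A u := by
  classical
  have hns : ∀ k : F, A ≠ k • 1 := fun k h => by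
    have := hw k
    rw [h, sub_self, rank_zero] at this
    omega
  -- a non-eigenvector is good unless it lies in the image of some `A - k` of rank two
  have good : ∀ u, (∀ k : F, A *ᵥ u ≠ k • u) →
      (∀ k : F, (A - k • 1).rank = 2 → u ∉ LinearMap.range (A - k • 1).mulVecLin) → GoodVec A u := by
    intro u hu hout
    refine ⟨hu, fun k => ?_⟩
    by_contra hall
    push Not at hall
    have hle : LinearMap.range (A - k • 1).mulVecLin ≤ Submodule.span F (Set.range ![u, A *ᵥ u]) := by
      rintro _ ⟨x, rfl⟩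
      simpa [sub_mulVec, smul_mulVec] using hall x
    have hu0 : u ≠ 0 := fun h => hu 0 (by simp [h])
    have h2 := finrank_span_eq_card (pair_indep hu0 hu)
    rw [Fintype.card_fin] at h2
    have h1 := Submodule.finrank_mono hle
    have h2' : (A - k • 1).rank = 2 := le_antisymm (h1.trans h2.le) (hw k)
    refine hout k h2' ?_
    rw [Submodule.eq_of_le_of_finrank_eq hle (by rw [h2]; exact h2')]
    exact (pair_mem u (A *ᵥ u)).1
  obtain ⟨u₀, hu₀⟩ := exists_not_eigen hns
  by_cases hk : ∃ k : F, (A - k • 1).rank = 2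
  · obtain ⟨k, hk⟩ := hk
    set R := LinearMap.range (A - k • 1).mulVecLin with hR
    have hout : ∀ u, u ∉ R → ∀ k' : F, (A - k' • 1).rank = 2 → u ∉ LinearMap.range (A - k' • 1).mulVecLin :=
      fun u hu k' hk' => by rw [← unique_two hn hs hk hk']; exact hu
    by_cases h0 : u₀ ∈ R
    · obtain ⟨z, hz⟩ : ∃ z, z ∉ R := by
        by_contra hall
        push Not at hall
        have h1 : (A - k • 1).rank = n := by
          rw [Matrix.rank, ← hR, Submodule.eq_top_iff'.2 hall, finrank_top, Module.finrank_pi, Fintype.card_fin]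
        omega
      obtain ⟨t, ht0, ht1⟩ := exists_ne_zero_one h3
      have hzt : ∀ s : F, s ≠ 0 → u₀ + s • z ∉ R := fun s hs' hm => hz (by
        have := R.sub_mem hm h0
        rwa [add_sub_cancel_left, R.smul_mem_iff hs'] at this)
      have heig : ∀ s : F, s ≠ 0 → ∀ a : F, A *ᵥ (u₀ + s • z) = a • (u₀ + s • z) → a = k := fun s hs' a ha => by
        by_contra hne
        refine hzt s hs' ?_
        rw [← inv_smul_smul₀ (sub_ne_zero.2 hne) (u₀ + s • z)]
        refine R.smul_mem _ ⟨u₀ + s • z, ?_⟩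
        simp [sub_mulVec, smul_mulVec, ha, sub_smul]
        abel
      by_cases h1 : ∀ a : F, A *ᵥ (u₀ + (1 : F) • z) ≠ a • (u₀ + (1 : F) • z)
      · exact ⟨_, good _ h1 (hout _ (hzt 1 one_ne_zero))⟩
      · push Not at h1
        obtain ⟨a, ha⟩ := h1
        obtain rfl := heig 1 one_ne_zero a ha
        refine ⟨u₀ + t • z, good _ (fun b hb => ?_) (hout _ (hzt t ht0))⟩
        obtain rfl := heig t ht0 b hb
        -- both `u₀` and `z` would be eigenvectors
        have hz' : A *ᵥ z = b • z := by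
          rw [mulVec_add, mulVec_smul] at ha hb
          have e : (1 - t) • (A *ᵥ z) = (1 - t) • (b • z) := by
            linear_combination (norm := module) ha - hb
          exact smul_right_injective _ (sub_ne_zero.2 (Ne.symm ht1)) e
        refine hu₀ b ?_
        rw [mulVec_add, mulVec_smul, hz', one_smul, one_smul, smul_add, add_left_inj] at ha
        exact ha
    · exact ⟨u₀, good u₀ hu₀ (hout u₀ h0)⟩
  · push Not at hk
    exact ⟨u₀, good u₀ hu₀ fun k hk' => absurd hk' (hk k)⟩

/-- the projection to the last `m` coordinates -/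
def botProj (m : ℕ) : (Fin 1 ⊕ Fin m → F) →ₗ[F] (Fin m → F) := LinearMap.funLeft F F Sum.inr

theorem rank_corner (c : F) (a : Fin m → F) (B : Matrix (Fin m) (Fin m) F) :
    (corner c a B).rank ≤ B.rank + 1 ∧
      (B.rank < (corner c a B).rank →
        (Pi.single (Sum.inl 0) 1 : Fin 1 ⊕ Fin m → F) ∈ LinearMap.range (corner c a B).mulVecLin) := by
  classical
  set R := LinearMap.range (corner c a B).mulVecLin with hR
  let f := (botProj (F := F) m).domRestrict R
  have hrange : LinearMap.range f = LinearMap.range B.mulVecLin := by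
    refine le_antisymm ?_ ?_
    · rintro _ ⟨⟨_, x, rfl⟩, rfl⟩
      exact ⟨x ∘ Sum.inr, (corner_mulVec_inr c a B x).symm⟩
    · rintro _ ⟨x, rfl⟩
      exact ⟨⟨_, Sum.elim 0 x, rfl⟩, (corner_mulVec_inr c a B (Sum.elim 0 x)).trans rfl⟩
  have h1 := LinearMap.finrank_range_add_finrank_ker f
  rw [hrange, ← Matrix.rank] at h1
  have hline : ∀ x : R, f x = 0 → (x : Fin 1 ⊕ Fin m → F) = (x : Fin 1 ⊕ Fin m → F) (Sum.inl 0) • Pi.single (Sum.inl 0) 1 := by
    intro x hx
    funext i
    rcases i with i | i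
    · rw [Subsingleton.elim i 0]; simp
    · simpa [f, botProj] using congrFun hx i
  have hker : Module.finrank F (LinearMap.ker f) ≤ 1 := by
    refine le_trans (LinearMap.finrank_le_finrank_of_injective (f := (R.subtype.comp (LinearMap.ker f).subtype).codRestrict
      (Submodule.span F {(Pi.single (Sum.inl 0) 1 : Fin 1 ⊕ Fin m → F)}) fun x => ?_) ?_) ?_
    · rw [LinearMap.comp_apply, Submodule.subtype_apply, Submodule.subtype_apply, hline x.1 x.2]
      exact Submodule.smul_mem _ _ (Submodule.mem_span_singleton_self _)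
    · intro x y h
      exact Subtype.ext (Subtype.ext (by simpa using congrArg Subtype.val h))
    · rw [finrank_span_singleton (by simp)]
  have hr : (corner c a B).rank = Module.finrank F R := rfl
  refine ⟨by rw [hr]; omega, fun hlt => ?_⟩
  obtain ⟨x, hx, hx0⟩ : ∃ x : R, f x = 0 ∧ x ≠ 0 := by
    by_contra hall
    push Not at hall
    have : LinearMap.ker f = ⊥ := (Submodule.eq_bot_iff _).2 fun x hx => hall x hx
    rw [this, finrank_bot] at h1
    rw [hr] at hlt
    omega
  have hne : (x : Fin 1 ⊕ Fin m → F) (Sum.inl 0) ≠ 0 := fun h => hx0 (Subtype.ext (by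
    rw [hline x hx, h, zero_smul]; rfl))
  have hxe := hline x hx
  set t := (x : Fin 1 ⊕ Fin m → F) (Sum.inl 0)
  have h2 : t • (Pi.single (Sum.inl 0) 1 : Fin 1 ⊕ Fin m → F) ∈ R := hxe ▸ x.2
  exact (R.smul_mem_iff hne).1 h2

theorem rank_sim {ι : Type*} [Fintype ι] [DecidableEq ι] {M N : Matrix ι ι F} (h : Sim M N) :
    M.rank = N.rank := by
  obtain ⟨P, Q, hPQ, rfl⟩ := h
  have hQ : IsUnit Q.det := IsUnit.of_mul_eq_one_right _ (by rw [← det_mul, hPQ, det_one])
  have hP : IsUnit P.det := IsUnit.of_mul_eq_one _ (by rw [← det_mul, hPQ, det_one])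
  rw [rank_mul_eq_left_of_isUnit_det _ _ hQ, rank_mul_eq_right_of_isUnit_det _ _ hP]

/-- A first column turning `v` into an eigenvector. -/
theorem exists_corner (hm : 2 ≤ m) {A : Matrix (Fin (1 + m)) (Fin (1 + m)) F} {c : F}
    {v : Fin (1 + m) → F} (hv : v ≠ 0) (hAv : A *ᵥ v = c • v) :
    ∃ (P : Matrix (Fin (1 + m)) (Fin (1 + m)) F) (a : Fin m → F) (A' : Matrix (Fin m) (Fin m) F),
      P.det = 1 ∧ P *ᵥ Pi.single (finSumFinEquiv (Sum.inl 0)) 1 = v ∧
      P⁻¹ * A * P = (corner c a A').reindex finSumFinEquiv finSumFinEquiv := by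
  classical
  let i1 : Fin (1 + m) := ⟨1, by omega⟩
  set e := finSumFinEquiv (m := 1) (n := m)
  have hi : i1 ≠ e (Sum.inl 0) := fun h => by simpa [i1, e] using congrArg Fin.val h
  obtain ⟨z, hz⟩ : ∃ z, z ∉ Submodule.span F {v} := by
    by_contra hall
    push Not at hall
    have h1 := finrank_span_singleton (K := F) hv
    rw [Submodule.eq_top_iff'.2 hall, finrank_top, Module.finrank_pi, Fintype.card_fin] at h1
    omega
  obtain ⟨P, hP, hPe, -⟩ := exists_pair_map (by omega)
    (a := Pi.single (e (Sum.inl 0)) 1) (b := Pi.single i1 1)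
    (pair_indep (by simp) fun t h => by simpa [hi] using congrFun h i1)
    (pair_indep hv fun t h => hz (Submodule.mem_span_singleton.2 ⟨t, h.symm⟩))
  have hu : IsUnit P.det := by rw [hP]; exact isUnit_one
  set M := (P⁻¹ * A * P).reindex e.symm e.symm with hM
  refine ⟨P, fun j => M (Sum.inl 0) (Sum.inr j), M.toBlocks₂₂, hP, hPe, ?_⟩
  have hcol : ∀ i, M i (Sum.inl 0) = (c • (Pi.single (e (Sum.inl 0)) 1 : Fin (1 + m) → F)) (e i) := by
    intro i
    have h1 : (P⁻¹ * A * P) *ᵥ Pi.single (e (Sum.inl 0)) 1 = c • Pi.single (e (Sum.inl 0)) 1 := by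
      rw [← mulVec_mulVec, hPe, ← mulVec_mulVec, hAv, mulVec_smul, ← hPe, mulVec_mulVec,
        nonsing_inv_mul _ hu, one_mulVec]
    rw [← h1]; simp [M]
  have hcorner : M = corner c (fun j => M (Sum.inl 0) (Sum.inr j)) M.toBlocks₂₂ := by
    ext (i | i) (j | j)
    · rw [Subsingleton.elim i 0, Subsingleton.elim j 0, hcol]; simp [corner]
    · rw [Subsingleton.elim i 0]; simp [corner]
    · rw [Subsingleton.elim j 0, hcol]; simp [corner]
    · simp [corner, toBlocks₂₂]
  rw [← hcorner, hM]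
  ext i j; simp

theorem reindex_sub {ι κ : Type*} [Fintype ι] [DecidableEq ι] [Fintype κ] [DecidableEq κ] (e : ι ≃ κ)
    (M : Matrix ι ι F) (k : F) : M.reindex e e - k • 1 = (M - k • 1).reindex e e := by
  ext i j; simp [Matrix.one_apply]

/-- A class with an eigenvalue, not special, has an eigenvector with a wide quotient. -/
theorem exists_split (hm : 3 ≤ m) {A : Matrix (Fin (1 + m)) (Fin (1 + m)) F} (hw : Wide A)
    (hs : ¬ Special A) {c₀ : F} {v₀ : Fin (1 + m) → F} (hv₀ : v₀ ≠ 0) (hAv₀ : A *ᵥ v₀ = c₀ • v₀) :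
    ∃ (c : F) (a : Fin m → F) (A' : Matrix (Fin m) (Fin m) F), Wide A' ∧
      SimD 1 A ((corner c a A').reindex finSumFinEquiv finSumFinEquiv) := by
  classical
  obtain ⟨c, v, hv, hAv, hgood⟩ : ∃ (c : F) (v : Fin (1 + m) → F), v ≠ 0 ∧ A *ᵥ v = c • v ∧
      ∀ k : F, (A - k • 1).rank = 2 → v ∉ LinearMap.range (A - k • 1).mulVecLin := by
    by_cases hk : ∃ k : F, (A - k • 1).rank = 2
    · obtain ⟨k, hk⟩ := hk
      obtain ⟨v, hvk, hvr⟩ : ∃ v, v ∈ LinearMap.ker (A - k • 1).mulVecLin ∧
          v ∉ LinearMap.range (A - k • 1).mulVecLin := by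
        by_contra hall
        push Not at hall
        refine hs ⟨?_, Or.inr ⟨k, hk, hall⟩⟩
        have h1 := Submodule.finrank_mono (show LinearMap.ker (A - k • 1).mulVecLin ≤ _ from hall)
        have h2 := LinearMap.finrank_range_add_finrank_ker (A - k • 1).mulVecLin
        rw [← Matrix.rank, Module.finrank_pi, Fintype.card_fin] at h2
        rw [← Matrix.rank] at h1
        omega
      refine ⟨k, v, fun h => hvr (by rw [h]; exact zero_mem _), ?_, fun k' hk' => ?_⟩
      · simpa [sub_mulVec, smul_mulVec, sub_eq_zero] using hvk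
      · rw [← unique_two (by omega) hs hk hk']; exact hvr
    · push Not at hk
      exact ⟨c₀, v₀, hv₀, hAv₀, fun k hk' => absurd hk' (hk k)⟩
  obtain ⟨P, a, A', hP, hPe, hform⟩ := exists_corner (by omega) hv hAv
  have hu : IsUnit P.det := by rw [hP]; exact isUnit_one
  set e := finSumFinEquiv (m := 1) (n := m)
  have hsim : SimD 1 A ((corner c a A').reindex e e) :=
    ⟨P, hP, by rw [← hform, ← Matrix.mul_assoc, ← Matrix.mul_assoc, mul_nonsing_inv _ hu, Matrix.one_mul]⟩
  refine ⟨c, a, A', fun k => ?_, hsim⟩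
  have hk : (A - k • 1) * P = P * ((corner (c - k) a (A' - k • 1)).reindex e e) := by
    have e1 : (corner c a A').reindex e e - k • 1 = (corner (c - k) a (A' - k • 1)).reindex e e := by
      rw [reindex_sub]
      congr 2
      ext (i | i) (j | j) <;> simp [corner, Matrix.one_apply, Fin.fin_one_eq_zero]
    rw [← e1, ← hform, Matrix.sub_mul, Matrix.mul_sub, ← Matrix.mul_assoc, ← Matrix.mul_assoc,
      mul_nonsing_inv _ hu, Matrix.one_mul, Matrix.smul_mul, Matrix.one_mul, Matrix.mul_smul, Matrix.mul_one]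
  have hrank : (A - k • 1).rank = (corner (c - k) a (A' - k • 1)).rank := by
    rw [← rank_mul_eq_left_of_isUnit_det P (A - k • 1) hu, hk, rank_mul_eq_right_of_isUnit_det P _ hu,
      reindex_apply, rank_submatrix]
  obtain ⟨h1, h2⟩ := rank_corner (c - k) a (A' - k • 1)
  by_contra hlt
  have hw' := hw k
  have hA2 : (A - k • 1).rank = 2 := by omega
  obtain ⟨x, hx⟩ := h2 (by omega)
  refine hgood k hA2 ⟨P *ᵥ (x ∘ e.symm), ?_⟩
  rw [mulVecLin_apply, mulVec_mulVec, hk, ← mulVec_mulVec, ← hPe]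
  congr 1
  rw [reindex_apply, submatrix_mulVec_equiv, Equiv.symm_symm]
  funext i
  obtain ⟨i, rfl⟩ := e.surjective i
  have := congrFun hx i
  simp only [mulVecLin_apply] at this
  simp only [Function.comp_apply, Equiv.symm_apply_apply, Function.comp_assoc, Equiv.symm_comp_self, Function.comp_id]
  rw [this]
  simp [Pi.single_apply, e.injective.eq_iff]

end Cfsg.Agent.CoverPSL
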