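import Cfsg.Agent.Lib.CoverPSL.CyclicSquare
import Cfsg.Agent.Lib.CoverPSL.Split

/-!
# Cyclic matrices

`Cyc A`: some vector lies in no proper invariant subspace.  Such a matrix is conjugate to a companion
matrix, and an extension of a cyclic matrix with one-dimensional eigenspaces is cyclic.
-/

set_option autoImplicit false

namespace Cfsg.Agent.CoverPSL

open Matrix Polynomial Cfsg.Agent.Classical.Thompson

variable {F : Type*} [Field F] {n m : ℕ}

/-- some vector generates the space under `A` -/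
def Cyc {ι : Type*} [Fintype ι] (A : Matrix ι ι F) : Prop :=
  ∃ v : ι → F, ∀ S : Submodule F (ι → F), v ∈ S → (∀ x ∈ S, A *ᵥ x ∈ S) → S = ⊤

/-- the subspace generated by a vector under `A` -/
def krySpace {ι : Type*} [Fintype ι] [DecidableEq ι] (A : Matrix ι ι F) (v : ι → F) :
    Submodule F (ι → F) :=
  Submodule.span F (Set.range fun i : ℕ => (A ^ i) *ᵥ v)

theorem krySpace_self {ι : Type*} [Fintype ι] [DecidableEq ι] (A : Matrix ι ι F) (v : ι → F) :
    v ∈ krySpace A v := Submodule.subset_span ⟨0, by simp⟩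

theorem krySpace_inv {ι : Type*} [Fintype ι] [DecidableEq ι] (A : Matrix ι ι F) (v : ι → F) :
    ∀ x ∈ krySpace A v, A *ᵥ x ∈ krySpace A v := by
  intro x hx
  induction hx using Submodule.span_induction with
  | mem y hy =>
    obtain ⟨i, rfl⟩ := hy
    exact Submodule.subset_span ⟨i + 1, by
      show (A ^ (i + 1)) *ᵥ v = A *ᵥ ((A ^ i) *ᵥ v)
      rw [mulVec_mulVec, ← pow_succ']⟩
  | zero => rw [mulVec_zero]; exact zero_mem _
  | add y z _ _ hy hz => rw [mulVec_add]; exact add_mem hy hz
  | smul t y _ hy => rw [mulVec_smul]; exact Submodule.smul_mem _ t hy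

theorem Cyc.sim {ι : Type*} [Fintype ι] [DecidableEq ι] {A B : Matrix ι ι F} (h : Cyc A) (hs : Sim B A) :
    Cyc B := by
  obtain ⟨P, Q, hPQ, rfl⟩ := hs
  have hQP : Q * P = 1 := mul_eq_one_comm.1 hPQ
  obtain ⟨v, hv⟩ := h
  refine ⟨P *ᵥ v, fun S hS hinv => ?_⟩
  have h1 := hv (S.comap P.mulVecLin) hS fun x hx => by
    rw [Submodule.mem_comap, mulVecLin_apply] at hx ⊢
    have h2 := hinv _ hx
    rwa [mulVec_mulVec, Matrix.mul_assoc, hQP, Matrix.mul_one, ← mulVec_mulVec] at h2
  refine Submodule.eq_top_iff'.2 fun x => ?_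
  have h2 : Q *ᵥ x ∈ S.comap P.mulVecLin := h1 ▸ Submodule.mem_top
  rw [Submodule.mem_comap, mulVecLin_apply, mulVec_mulVec, hPQ, one_mulVec] at h2
  exact h2

/-- A cyclic matrix is conjugate to the companion matrix of its characteristic polynomial. -/
theorem Cyc.simD {A : Matrix (Fin n) (Fin n) F} (hn : 1 ≤ n) (h : Cyc A) :
    ∃ (δ : F) (f : F[X]) (hf : f.Monic) (hd : f.natDegree = n), δ ≠ 0 ∧
      SimD δ A (compMat f hf hd) := by
  classical
  obtain ⟨v, hv⟩ := h
  have hf : A.charpoly.Monic := A.charpoly_monic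
  have hd : A.charpoly.natDegree = n := by rw [Matrix.charpoly_natDegree_eq_dim, Fintype.card_fin]
  let w : Fin n → (Fin n → F) := fun i => (A ^ i.val) *ᵥ v
  have hne : A.charpoly ≠ 1 := fun h1 => by rw [h1, natDegree_one] at hd; omega
  have htop : Submodule.span F (Set.range w) = ⊤ := by
    rw [← hv (krySpace A v) (krySpace_self A v) (krySpace_inv A v)]
    refine le_antisymm (Submodule.span_le.2 ?_) (Submodule.span_le.2 ?_)
    · rintro _ ⟨i, rfl⟩
      exact Submodule.subset_span ⟨i.val, rfl⟩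
    · rintro _ ⟨i, rfl⟩
      have hlt : (X ^ i %ₘ A.charpoly).natDegree < n := by
        have := natDegree_modByMonic_lt (X ^ i) hf hne
        rwa [hd] at this
      have e : A ^ i = ∑ j ∈ Finset.range n, (X ^ i %ₘ A.charpoly).coeff j • A ^ j := by
        rw [← aeval_eq_sum_range' hlt, modByMonic_eq_sub_mul_div, map_sub, map_mul,
          Matrix.aeval_self_charpoly, zero_mul, sub_zero, map_pow, aeval_X]
      show (A ^ i) *ᵥ v ∈ Submodule.span F (Set.range w)
      rw [e, sum_mulVec]
      refine Submodule.sum_mem _ fun j hj => ?_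
      rw [smul_mulVec]
      exact Submodule.smul_mem _ _ (Submodule.subset_span ⟨⟨j, Finset.mem_range.1 hj⟩, rfl⟩)
  have hli : LinearIndependent F w := linearIndependent_of_top_le_span_of_card_eq_finrank htop.ge (by simp)
  let b : Module.Basis (Fin n) F (Fin n → F) := Module.Basis.mk hli htop.ge
  have hb : ∀ i : Fin n, b i = (A ^ i.val) *ᵥ v := fun i => Module.Basis.mk_apply _ _ _
  set C := LinearMap.toMatrix b b (Matrix.toLin' A) with hC
  have hcol : ∀ i j : Fin n, ∀ (hj : j.val + 1 < n), C i j = if i.val = j.val + 1 then 1 else 0 := by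
    intro i j hj
    rw [hC, LinearMap.toMatrix_apply, Matrix.toLin'_apply, hb, mulVec_mulVec, ← pow_succ',
      show (A ^ (j.val + 1)) *ᵥ v = b ⟨j.val + 1, hj⟩ from (hb ⟨j.val + 1, hj⟩).symm, Module.Basis.repr_self,
      Finsupp.single_apply]
    simp [Fin.ext_iff, eq_comm]
  have hH : IsHessS C := fun i j =>
    ⟨fun hij => by rw [hcol i j (by omega), if_neg (by omega)],
     fun hij => by rw [hcol i j (by omega), if_pos hij.symm]; exact one_ne_zero⟩
  have hsim : Sim A C := sim_toMatrix A b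
  obtain ⟨δ, hδ, hsimD⟩ := exists_simD hsim
  exact ⟨δ * weight C, A.charpoly, hf, hd, mul_ne_zero hδ (weight_ne_zero hH),
    hsimD.trans (hessS_simD hH _ hf hd (Sim.charpoly_eq hsim).symm)⟩

/-- An extension of a cyclic matrix with one-dimensional eigenspaces is cyclic. -/
theorem cyc_ext {c : F} {a : Fin m → F} {A' : Matrix (Fin m) (Fin m) F} (hg : Geom1 (corner c a A'))
    (h : Cyc A') : Cyc (corner c a A') := by
  classical
  set M := corner c a A' with hM
  obtain ⟨w, hw⟩ := h
  set e0 : Fin 1 ⊕ Fin m → F := Pi.single (Sum.inl 0) 1 with he0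
  set u : Fin 1 ⊕ Fin m → F := Sum.elim 0 w with hu
  have he : M *ᵥ e0 = c • e0 := by
    funext i
    rcases i with i | i <;> simp [hM, e0, corner, Matrix.one_apply, Fin.fin_one_eq_zero]
  -- an invariant subspace containing a lift of `w` and `e0` is everything
  have top : ∀ S : Submodule F (Fin 1 ⊕ Fin m → F), (∀ x ∈ S, M *ᵥ x ∈ S) →
      (∃ x ∈ S, botProj m x = w) → e0 ∈ S → S = ⊤ := by
    intro S hS hx he0S
    obtain ⟨x, hxS, hx⟩ := hx
    have h1 := hw (S.map (botProj m)) ⟨x, hxS, hx⟩ (by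
      rintro _ ⟨y, hy, rfl⟩
      exact ⟨M *ᵥ y, hS y hy, corner_mulVec_inr c a A' y⟩)
    refine Submodule.eq_top_iff'.2 fun z => ?_
    obtain ⟨y, hy, hyz⟩ : botProj m z ∈ S.map (botProj m) := h1 ▸ Submodule.mem_top
    have hline : z - y = (z - y) (Sum.inl 0) • e0 := by
      funext i
      rcases i with i | i
      · simp [e0, Fin.fin_one_eq_zero]
      · have := congrFun hyz i
        simp [botProj] at this
        simp [e0, this]
    rw [show z = y + (z - y) by abel, hline]
    exact S.add_mem hy (S.smul_mem _ he0S)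
  set T := krySpace M u with hT
  by_cases he0T : e0 ∈ T
  · refine ⟨u, fun S hS hinv => top S hinv ⟨u, hS, rfl⟩ ?_⟩
    have hle : T ≤ S := Submodule.span_le.2 fun _ ⟨i, hi⟩ => hi ▸ by
      clear hi
      induction i with
      | zero => simpa using hS
      | succ i ih =>
        show (M ^ (i + 1)) *ᵥ u ∈ S
        rw [pow_succ', ← mulVec_mulVec]; exact hinv _ ih
    exact hle he0T
  -- otherwise `M - c` is onto on the complement `T`
  let f : T →ₗ[F] T := (M - c • 1).mulVecLin.restrict fun x hx => by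
    rw [mulVecLin_apply, sub_mulVec, smul_mulVec, one_mulVec]
    exact T.sub_mem (krySpace_inv M u x hx) (T.smul_mem c hx)
  have hinj : Function.Injective f := by
    refine (injective_iff_map_eq_zero f).2 fun x hx => ?_
    have h1 : M *ᵥ (x : Fin 1 ⊕ Fin m → F) = c • (x : Fin 1 ⊕ Fin m → F) := by
      have := congrArg Subtype.val hx
      simpa [f, sub_mulVec, smul_mulVec, sub_eq_zero] using this
    by_contra hx0
    obtain ⟨t, ht⟩ := hg c _ e0 h1 he (fun h => hx0 (Subtype.ext h))
    exact he0T (ht ▸ T.smul_mem t x.2)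
  refine ⟨u + e0, fun S hS hinv => ?_⟩
  have hsurj := LinearMap.injective_iff_surjective.1 hinj
  let S' : Submodule F (Fin 1 ⊕ Fin m → F) := S.comap (M - c • 1).mulVecLin
  have hle : T ≤ S' := Submodule.span_le.2 fun _ ⟨i, hi⟩ => hi ▸ by
    clear hi
    show (M - c • 1) *ᵥ ((M ^ i) *ᵥ u) ∈ S
    induction i with
    | zero =>
      have h1 : (M - c • 1) *ᵥ (u + e0) = (M - c • 1) *ᵥ u := by
        rw [mulVec_add, add_eq_left, sub_mulVec, smul_mulVec, one_mulVec, he, sub_self]
      rw [pow_zero, one_mulVec, ← h1, sub_mulVec, smul_mulVec, one_mulVec]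
      exact S.sub_mem (hinv _ hS) (S.smul_mem _ hS)
    | succ i ih =>
      have e : (M - c • 1) *ᵥ ((M ^ (i + 1)) *ᵥ u) = M *ᵥ ((M - c • 1) *ᵥ ((M ^ i) *ᵥ u)) := by
        rw [pow_succ', ← mulVec_mulVec, mulVec_mulVec, mulVec_mulVec _ M (M - c • 1)]
        congr 1
        simp [Matrix.sub_mul, Matrix.mul_sub]
      rw [e]
      exact hinv _ ih
  obtain ⟨y, hy⟩ := hsurj ⟨u, krySpace_self M u⟩
  have huS : u ∈ S := by
    have := hle y.2
    rw [Submodule.mem_comap] at this
    rwa [show (M - c • 1).mulVecLin (y : Fin 1 ⊕ Fin m → F) = u from congrArg Subtype.val hy] at this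
  refine top S hinv ⟨u, huS, rfl⟩ ?_
  simpa using S.sub_mem hS huS

end Cfsg.Agent.CoverPSL
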