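import Cfsg.Agent.Lib.CoverPSL.SplitPair

/-!
# The square of a cyclic class contains a split cyclic matrix

`exists_twist`: a cyclic class times a cyclic class contains a matrix whose eigenspaces are lines,
with any prescribed eigenvalues (the first one simple), the determinants of both conjugating
matrices being prescribed as well.
-/

set_option autoImplicit false

namespace Cfsg.Agent.CoverPSL

open Matrix Polynomial Cfsg.Agent.Classical.Thompson

variable {F : Type*} [Field F] {k : ℕ}

/-- A Hessenberg matrix with non-zero subdiagonal is conjugate to its companion matrix. -/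
theorem hessS_simD {M : Matrix (Fin k) (Fin k) F} (hM : IsHessS M) (f : F[X]) (hf : f.Monic)
    (hd : f.natDegree = k) (hfM : M.charpoly = f) : SimD (weight M) M (compMat f hf hd) := by
  classical
  let D : ℕ → F := fun i => ∏ j ∈ Finset.range i, sub M j
  have hD : ∀ i, D i ≠ 0 := fun i => Finset.prod_ne_zero_iff.2 fun j _ => sub_ne_zero' hM j
  let A : Matrix (Fin k) (Fin k) F := Matrix.of fun i j => M i j * D j.val / D i.val
  let Dm : Matrix (Fin k) (Fin k) F := diagonal fun i => D i.val
  have hA : IsHess A := by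
    intro i j
    refine ⟨fun h => by simp [A, (hM i j).1 h], fun h => ?_⟩
    have e : D i.val = D j.val * M i j := by
      simp only [D, ← h, Finset.prod_range_succ]
      congr 1
      rw [sub, dif_pos (by omega)]
      congr 1
      exact Fin.ext h
    simp only [A, Matrix.of_apply, e]
    field_simp [hD j.val, (hM i j).2 h]
  have h1 : SimD (weight M) M A := ⟨Dm, by simp [Dm, D, weight], by
    ext i j
    simp only [Dm, A, mul_diagonal, diagonal_mul, Matrix.of_apply]
    field_simp [hD i.val]⟩
  have h2 : A.charpoly = f := by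
    rw [← hfM, Sim.charpoly_eq (h1.sim (weight_ne_zero hM))]
  simpa using h1.trans (hess_simD hA f hf hd h2)

/-- The inverse of a companion shape is again cyclic. -/
theorem compShape_inv (hk : 2 ≤ k) {H : Matrix (Fin k) (Fin k) F} (hH : IsHessS H)
    (hHc : ∀ i j : Fin k, i.val ≠ 0 → i.val ≠ j.val + 1 → H i j = 0) (hdet : H.det ≠ 0)
    (f : F[X]) (hf : f.Monic) (hd : f.natDegree = k) (hfH : H⁻¹.charpoly = f) :
    ∃ δ : F, δ ≠ 0 ∧ SimD δ H⁻¹ (compMat f hf hd) := by
  classical
  have hu : IsUnit H.det := isUnit_iff_ne_zero.2 hdet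
  -- the rows above the last one of the inverse
  have hrow : ∀ (i i' j : Fin k), i.val + 1 = i'.val →
      H i' i * H⁻¹ i j = if i' = j then 1 else 0 := by
    intro i i' j hii
    have h := congrFun (congrFun (Matrix.mul_nonsing_inv _ hu) i') j
    rw [Matrix.mul_apply, Finset.sum_eq_single i, Matrix.one_apply] at h
    · exact h
    · intro l _ hl
      rw [hHc i' l (by omega) (fun h' => hl (Fin.ext (by omega))), zero_mul]
    · simp
  let N : Matrix (Fin k) (Fin k) F := H⁻¹.submatrix Fin.revPerm Fin.revPerm
  have hN : IsHessS N := by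
    intro i j
    have hv : ∀ x : Fin k, (Fin.revPerm x).val = k - (x.val + 1) := fun x => by simp
    refine ⟨fun h => ?_, fun h => ?_⟩
    · have h1 := hrow (Fin.revPerm i) ⟨(Fin.revPerm i).val + 1, by rw [hv]; omega⟩ (Fin.revPerm j) rfl
      rw [if_neg (fun h' => by have := congrArg Fin.val h'; simp only [hv] at this; omega)] at h1
      exact (mul_eq_zero.1 h1).resolve_left ((hH _ _).2 rfl)
    · have h1 := hrow (Fin.revPerm i) ⟨(Fin.revPerm i).val + 1, by rw [hv]; omega⟩ (Fin.revPerm j) rfl
      rw [if_pos (Fin.ext (by simp only [hv]; omega))] at h1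
      intro h0
      rw [show N i j = H⁻¹ (Fin.revPerm i) (Fin.revPerm j) from rfl] at h0
      rw [h0, mul_zero] at h1
      exact zero_ne_one h1
  let P : Matrix (Fin k) (Fin k) F := Equiv.Perm.permMatrix F (Fin.revPerm : Equiv.Perm (Fin k))
  have hsgn : P.det ≠ 0 := by
    simp only [P, Matrix.det_permutation]
    rcases Int.units_eq_one_or (Equiv.Perm.sign (Fin.revPerm : Equiv.Perm (Fin k))) with h | h <;> simp [h]
  have h1 : SimD P.det H⁻¹ N := by
    refine ⟨P, rfl, ?_⟩
    ext i j
    simp [P, N, Equiv.Perm.permMatrix, PEquiv.toMatrix_toPEquiv_mul, PEquiv.mul_toMatrix_toPEquiv,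
      Fin.revPerm, Fin.rev_rev]
  have hNf : N.charpoly = f := by rw [← hfH, Sim.charpoly_eq (h1.sim hsgn)]
  exact ⟨P.det * weight N, mul_ne_zero hsgn (weight_ne_zero hN), h1.trans (hessS_simD hN f hf hd hNf)⟩

/-- Upper triangular, bidiagonal below the first row, first diagonal entry simple. -/
theorem geom1_upper {M : Matrix (Fin k) (Fin k) F} (hup : M.IsUpperTriangular)
    (hband : ∀ i j : Fin k, i.val ≠ 0 → i.val + 1 < j.val → M i j = 0)
    (hsup : ∀ i j : Fin k, i.val ≠ 0 → i.val + 1 = j.val → M i j ≠ 0)
    (hsimple : ∀ i j : Fin k, i.val = 0 → j.val ≠ 0 → M i i ≠ M j j) : Geom1 M := by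
  classical
  intro c v w hv hw hv0
  rcases Nat.lt_or_ge k 1 with hk | hk
  · exact absurd (funext fun i : Fin k => (show False from by have := i.2; omega).elim) hv0
  let z : Fin k := ⟨0, by omega⟩
  have hrowi : ∀ (x : Fin k → F), M *ᵥ x = c • x → ∀ i : Fin k, i.val ≠ 0 →
      (M i i - c) * x i + (if h : i.val + 1 < k then M i ⟨i.val + 1, h⟩ * x ⟨i.val + 1, h⟩ else 0) = 0 := by
    intro x hx i hi
    have h := congrFun hx i
    simp only [Matrix.mulVec, dotProduct, Pi.smul_apply, smul_eq_mul] at h
    by_cases hn : i.val + 1 < k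
    · rw [Finset.sum_eq_add i ⟨i.val + 1, hn⟩ (fun e => by have := congrArg Fin.val e; simp at this)
        (fun l _ hl => ?_) (by simp) (by simp)] at h
      · rw [dif_pos hn]; linear_combination h
      · rcases lt_trichotomy l.val i.val with h1 | h1 | h1
        · rw [hup h1, zero_mul]
        · exact absurd (Fin.ext h1) hl.1
        · rw [hband i l hi (by
            have : l.val ≠ i.val + 1 := fun e => hl.2 (Fin.ext e)
            omega), zero_mul]
    · rw [Finset.sum_eq_single i (fun l _ hl => ?_) (by simp)] at h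
      · rw [dif_neg hn, add_zero]; linear_combination h
      · have : l.val < i.val := by
          have := l.2
          have : l.val ≠ i.val := fun e => hl (Fin.ext e)
          omega
        rw [hup this, zero_mul]
  -- downwards, for the simple eigenvalue
  have hdown : c = M z z → ∀ (x : Fin k → F), M *ᵥ x = c • x → ∀ i : Fin k, i.val ≠ 0 → x i = 0 := by
    intro hc x hx
    suffices H : ∀ (d : ℕ) (i : Fin k), i.val ≠ 0 → i.val + d + 1 = k → x i = 0 from
      fun i hi => H (k - i.val - 1) i hi (by have := i.2; omega)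
    intro d
    induction d with
    | zero =>
      intro i hi hik
      have h := hrowi x hx i hi
      rw [dif_neg (by omega), add_zero] at h
      exact (mul_eq_zero.1 h).resolve_left (sub_ne_zero.2 (by rw [hc]; exact (hsimple z i rfl hi).symm))
    | succ d ih =>
      intro i hi hik
      have h := hrowi x hx i hi
      rw [dif_pos (show i.val + 1 < k by omega), ih ⟨i.val + 1, by omega⟩ (by simp) (by simp; omega),
        mul_zero, add_zero] at h
      exact (mul_eq_zero.1 h).resolve_left (sub_ne_zero.2 (by rw [hc]; exact (hsimple z i rfl hi).symm))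
  by_cases hc : c = M z z
  · have hv1 := hdown hc v hv
    have hw1 := hdown hc w hw
    have hvz : v z ≠ 0 := fun h0 => hv0 (funext fun i => by
      by_cases hi : i.val = 0
      · rw [show i = z from Fin.ext hi]; exact h0
      · exact hv1 i hi)
    refine ⟨w z / v z, funext fun i => ?_⟩
    by_cases hi : i.val = 0
    · rw [show i = z from Fin.ext hi, Pi.smul_apply, smul_eq_mul, div_mul_cancel₀ _ hvz]
    · rw [Pi.smul_apply, hv1 i hi, hw1 i hi, smul_zero]
  · -- an eigenvector vanishing at the second coordinate vanishes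
    have hzero : ∀ (x : Fin k → F), M *ᵥ x = c • x → (∀ i : Fin k, i.val = 1 → x i = 0) → x = 0 := by
      intro x hx h1
      have hup1 : ∀ (m : ℕ) (i : Fin k), i.val = m + 1 → x i = 0 := by
        intro m
        induction m with
        | zero => exact fun i hi => h1 i hi
        | succ m ih =>
          intro i hi
          have h := hrowi x hx ⟨m + 1, by omega⟩ (by simp)
          rw [dif_pos (show m + 1 + 1 < k by omega), ih ⟨m + 1, by omega⟩ rfl, mul_zero, zero_add] at h
          have := (mul_eq_zero.1 h).resolve_left (hsup _ _ (by simp) rfl)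
          rwa [show i = ⟨m + 1 + 1, by omega⟩ from Fin.ext (by simp [hi])]
      have hne : ∀ i : Fin k, i.val ≠ 0 → x i = 0 := fun i hi => hup1 (i.val - 1) i (by omega)
      funext i
      by_cases hi : i.val = 0
      · have h := congrFun hx z
        simp only [Matrix.mulVec, dotProduct, Pi.smul_apply, smul_eq_mul] at h
        rw [Finset.sum_eq_single z (fun l _ hl => by
          rw [hne l (fun e => hl (Fin.ext e)), mul_zero]) (by simp)] at h
        rw [show i = z from Fin.ext hi]
        have : (M z z - c) * x z = 0 := by linear_combination h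
        exact (mul_eq_zero.1 this).resolve_left (sub_ne_zero.2 (Ne.symm hc))
      · exact hne i hi
    rcases Nat.lt_or_ge 1 k with hk2 | hk2
    · have hv1 : v ⟨1, hk2⟩ ≠ 0 := fun h0 => hv0 (hzero v hv fun i hi => by
        rw [show i = ⟨1, hk2⟩ from Fin.ext hi]; exact h0)
      refine ⟨w ⟨1, hk2⟩ / v ⟨1, hk2⟩, sub_eq_zero.1 (hzero _ ?_ ?_)⟩
      · rw [mulVec_sub, mulVec_smul, hv, hw, smul_sub, smul_comm]
      · intro i hi
        rw [show i = ⟨1, hk2⟩ from Fin.ext hi, Pi.sub_apply, Pi.smul_apply, smul_eq_mul,
          div_mul_cancel₀ _ hv1, sub_self]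
    · exact absurd (hzero v hv fun i hi => by have := i.2; omega) hv0

/-- Any two such matrices with the same spectrum are similar. -/
theorem geom1_sim : ∀ (n : ℕ) (D D' : Matrix (Fin n) (Fin n) F), Geom1 D → Geom1 D' → D.charpoly.Splits →
    D.det ≠ 0 → D.charpoly = D'.charpoly → Sim D D' := by
  classical
  intro n
  induction n using Nat.strong_induction_on with
  | _ n ih =>
    intro D D' hg hg' hsp hD hch
    rcases Nat.eq_zero_or_pos n with rfl | hn
    · exact ⟨1, 1, by simp, Subsingleton.elim _ _⟩
    obtain ⟨μ, hroot⟩ := hsp.exists_eval_eq_zero (by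
      rw [Matrix.charpoly_degree_eq_dim, Fintype.card_fin]; exact_mod_cast hn.ne')
    have hev : ∀ X : Matrix (Fin n) (Fin n) F, X.charpoly.eval μ = 0 → (X - μ • 1).det = 0 := by
      intro X hX
      rw [Matrix.eval_charpoly] at hX
      rw [← neg_sub, det_neg, show μ • (1 : Matrix (Fin n) (Fin n) F) = Matrix.scalar (Fin n) μ by
        rw [smul_one_eq_diagonal]; rfl, hX, mul_zero]
    have hμ : μ ≠ 0 := by
      rintro rfl
      exact hD (by simpa using hev D hroot)
    obtain ⟨a, m, e, B, ha, hB, hgB, hsim⟩ := exists_eigen_block hg hμ (hev D hroot)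
    obtain ⟨a', m', e', B', ha', hB', hgB', hsim'⟩ := exists_eigen_block hg' hμ (hev D' (hch ▸ hroot))
    have hjch : ∀ b : ℕ, (μ • jord F b).charpoly = (X - C μ) ^ b := by
      intro b
      rw [← Matrix.charpoly_transpose, Matrix.charpoly_of_isUpperTriangular]
      · simp [jord, Cfsg.Agent.Classical.RegularUnipotentConj.shift]
      · intro i j hij
        have hij' : j.val < i.val := hij
        simp [jord, Cfsg.Agent.Classical.RegularUnipotentConj.shift, Matrix.one_apply,
          show ¬ (i.val + 1 = j.val) by omega, Ne.symm (show i ≠ j from fun h => by subst h; omega)]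
    have hch1 : D.charpoly = (X - C μ) ^ a * B.charpoly := by
      rw [Sim.charpoly_eq hsim, Matrix.charpoly_reindex, Matrix.charpoly_fromBlocks_zero₂₁, hjch]
    have hch2 : D'.charpoly = (X - C μ) ^ a' * B'.charpoly := by
      rw [Sim.charpoly_eq hsim', Matrix.charpoly_reindex, Matrix.charpoly_fromBlocks_zero₂₁, hjch]
    have hroot0 : ∀ {b : ℕ} (Y : Matrix (Fin b) (Fin b) F), (Y - μ • 1).det ≠ 0 → ¬ Y.charpoly.IsRoot μ := by
      intro b Y hY h
      rw [IsRoot.def, Matrix.eval_charpoly] at h
      rw [← neg_sub, det_neg, show μ • (1 : Matrix (Fin b) (Fin b) F) = Matrix.scalar (Fin b) μ by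
        rw [smul_one_eq_diagonal]; rfl, h, mul_zero] at hY
      exact hY rfl
    have haa : a = a' := by
      have h1 : rootMultiplicity μ D.charpoly = a := by
        rw [hch1, rootMultiplicity_mul (mul_ne_zero (pow_ne_zero _ (X_sub_C_ne_zero μ))
          (Matrix.charpoly_monic B).ne_zero), rootMultiplicity_X_sub_C_pow,
          rootMultiplicity_eq_zero (hroot0 B hB), add_zero]
      have h2 : rootMultiplicity μ D'.charpoly = a' := by
        rw [hch2, rootMultiplicity_mul (mul_ne_zero (pow_ne_zero _ (X_sub_C_ne_zero μ))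
          (Matrix.charpoly_monic B').ne_zero), rootMultiplicity_X_sub_C_pow,
          rootMultiplicity_eq_zero (hroot0 B' hB'), add_zero]
      rw [← h1, ← h2, hch]
    subst haa
    have hmm : m = m' := by
      have h1 := Fintype.card_congr e
      have h2 := Fintype.card_congr e'
      simp at h1 h2; omega
    subst hmm
    have hBch : B.charpoly = B'.charpoly :=
      mul_left_cancel₀ (pow_ne_zero a (X_sub_C_ne_zero μ)) (hch1.symm.trans (hch.trans hch2))
    have hnam : a + m = n := by simpa using Fintype.card_congr e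
    have hspB : B.charpoly.Splits :=
      hsp.of_dvd (Matrix.charpoly_monic D).ne_zero (hch1 ▸ dvd_mul_left _ _)
    have hBdet : B.det ≠ 0 := fun h0 => hD (by
      rw [hsim.det_eq, det_reindex_self, det_fromBlocks_zero₂₁, h0, mul_zero])
    have hBB := ih m (by omega) B B' hgB hgB' hspB hBdet hBch
    refine hsim.trans ((Sim.reindex ((Sim.refl _).fromBlocks hBB) e).trans ?_)
    refine Sim.trans ?_ hsim'.symm
    -- the two enumerations differ by a permutation
    set M0 := fromBlocks (μ • jord F a) 0 0 B'
    let σ : Equiv.Perm (Fin n) := e.symm.trans e'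
    refine ⟨σ.permMatrix F, (σ⁻¹).permMatrix F, ?_, ?_⟩
    · rw [← Matrix.permMatrix_mul, inv_mul_cancel, Equiv.Perm.permMatrix, Equiv.Perm.one_def, Equiv.toPEquiv_refl, PEquiv.toMatrix_refl]
    · ext i j
      simp [Equiv.Perm.permMatrix, PEquiv.toMatrix_toPEquiv_mul, PEquiv.mul_toMatrix_toPEquiv, Equiv.Perm.inv_def, σ]

/-- The bottom-twisted upper triangular matrix. -/
def twistU (k : ℕ) (e : Fin k → F) (q q' : F) : Matrix (Fin k) (Fin k) F :=
  Matrix.of fun i j => if i = j then (if i.val + 2 = k then q else if i.val + 1 = k then q' else e i)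
    else if i.val + 1 = j.val ∧ i.val ≠ 0 then 1 else 0

theorem twistU_upper (e : Fin k → F) (q q' : F) : (twistU k e q q').IsUpperTriangular := by
  intro i j hij
  have hij' : j.val < i.val := hij
  simp only [twistU, Matrix.of_apply]
  rw [if_neg (fun h => by subst h; omega), if_neg (by omega)]

/-- `(1 + upd w) * E * U` has the spectrum `e` and one-dimensional eigenspaces. -/
theorem twist_geom (hk : 3 ≤ k) (e : Fin k → F) (q q' τ : F)
    (hsimple : ∀ i j : Fin k, i.val = 0 → j.val ≠ 0 → e i ≠ e j)
    (hτ : τ = e ⟨k - 2, by omega⟩ + e ⟨k - 1, by omega⟩ - q - q')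
    (hq : q * q' = e ⟨k - 2, by omega⟩ * e ⟨k - 1, by omega⟩) (w : ℕ → F) :
    Geom1 ((1 + upd 1 w) * transvection (⟨k - 1, by omega⟩ : Fin k) ⟨k - 2, by omega⟩ τ * twistU k e q q') ∧
    ((1 + upd 1 w) * transvection (⟨k - 1, by omega⟩ : Fin k) ⟨k - 2, by omega⟩ τ * twistU k e q q').charpoly =
      ∏ i, (X - C (e i)) := by
  classical
  set b : Fin k := ⟨k - 1, by omega⟩ with hb
  set a : Fin k := ⟨k - 2, by omega⟩ with ha
  have hab : a ≠ b := fun h => by have := congrArg Fin.val h; simp [hb, ha] at this; omega
  set U := twistU k e q q' with hU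
  have hUup : U.IsUpperTriangular := twistU_upper e q q'
  set T := (1 + upd 1 w) * transvection b a τ * U with hT
  have hTrow : ∀ i j : Fin k, i.val ≠ 0 → T i j = (transvection b a τ * U) i j := by
    intro i j hi
    rw [hT, Matrix.mul_assoc, Matrix.add_mul, Matrix.one_mul, Matrix.add_apply, add_eq_left, Matrix.mul_apply]
    exact Finset.sum_eq_zero fun l _ => by simp [upd, hi]
  have hT0 : ∀ i : Fin k, i.val = 0 → T i i = e i := by
    intro i hi
    rw [hT, Matrix.mul_assoc, Matrix.add_mul, Matrix.one_mul, Matrix.add_apply]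
    have hib : i ≠ b := fun h => by have := congrArg Fin.val h; simp [hb] at this; omega
    rw [transvection_mul_apply_of_ne _ _ _ _ hib, Matrix.mul_apply, Finset.sum_eq_zero fun l _ => ?_]
    · simp [hU, twistU, show ¬ i.val + 2 = k by omega, show ¬ i.val + 1 = k by omega]
    · by_cases hl : l.val = 0
      · simp [upd, hl, show ¬ 1 ≤ l.val by omega]
      · have hli : i.val < l.val := by omega
        by_cases hlb : l = b
        · subst hlb
          rw [transvection_mul_apply_same, hUup hli,
            hUup (show i.val < a.val by simp [ha]; omega), mul_zero, add_zero, mul_zero]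
        · rw [transvection_mul_apply_of_ne _ _ _ _ hlb, hUup hli, mul_zero]
  set x := e a - q with hx
  set P := transvection a b (0 : F) * transvection b a x with hP
  set Q := transvection b a (-x) with hQ
  have hP' : P = transvection b a x := by rw [hP, transvection_zero, Matrix.one_mul]
  have hPQ : P * Q = 1 := by
    rw [hP', hQ, transvection_mul_transvection_same _ _ (Ne.symm hab), add_neg_cancel, transvection_zero]
  set T' := Q * T * P with hT'
  have hsim : Sim T T' := ⟨P, Q, hPQ, by
    rw [hT', show P * (Q * T * P) * Q = (P * Q) * T * (P * Q) by simp only [Matrix.mul_assoc], hPQ,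
      Matrix.one_mul, Matrix.mul_one]⟩
  -- entries of T'
  have hTP : ∀ i j, (T * P) i j = if j = a then T i a + x * T i b else T i j := by
    intro i j
    by_cases hj : j = a
    · rw [if_pos hj, hj, hP', mul_transvection_apply_same]
    · rw [if_neg hj, hP', mul_transvection_apply_of_ne _ _ _ _ hj]
  have hT'e : ∀ i j, T' i j = if i = b then (T * P) b j - x * (T * P) a j else (T * P) i j := by
    intro i j
    rw [hT', Matrix.mul_assoc]
    by_cases hi : i = b
    · rw [if_pos hi, hi, hQ, transvection_mul_apply_same]; ring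
    · rw [if_neg hi, hQ, transvection_mul_apply_of_ne _ _ _ _ hi]
  have hUd : ∀ i : Fin k, i ≠ a → i ≠ b → U i i = e i := by
    intro i hia hib
    have h1 : i.val ≠ k - 2 := fun h => hia (Fin.ext h)
    have h2 : i.val ≠ k - 1 := fun h => hib (Fin.ext h)
    simp [hU, twistU, show ¬ i.val + 2 = k by omega, show ¬ i.val + 1 = k by omega]
  have hUaa : U a a = q := by simp [hU, twistU, ha, show k - 2 + 2 = k by omega]
  have hUbb : U b b = q' := by
    simp [hU, twistU, hb, show ¬ k - 1 + 2 = k by omega, show k - 1 + 1 = k by omega]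
  have hUab : U a b = 1 := by
    simp [hU, twistU, hab, ha, hb, show k - 2 + 1 = k - 1 by omega, show k - 2 ≠ 0 by omega, show k - 2 ≠ k - 1 by omega]
  have hUba : U b a = 0 := hUup (show a.val < b.val by simp [ha, hb]; omega)
  have hTi : ∀ i j : Fin k, i.val ≠ 0 → i ≠ b → T i j = U i j := fun i j hi hib => by
    rw [hTrow i j hi, transvection_mul_apply_of_ne _ _ _ _ hib]
  have hTb : ∀ j : Fin k, T b j = U b j + τ * U a j := fun j => by
    rw [hTrow b j (by simp [hb]; omega), transvection_mul_apply_same]
  have ha0 : a.val ≠ 0 := by simp [ha]; omega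
  have hup : T'.IsUpperTriangular := by
    intro i j hij
    have hij' : j.val < i.val := hij
    have hi0 : i.val ≠ 0 := by omega
    by_cases hib : i = b
    · subst hib
      rw [hT'e, if_pos rfl, hTP, hTP]
      by_cases hja : j = a
      · rw [if_pos hja, if_pos hja, hTb, hTb, hTi a a ha0 hab, hTi a b ha0 hab, hUaa, hUbb, hUab, hUba]
        subst hτ
        linear_combination x * 0 - hq
      · have hjv : j.val < a.val := by
          have : j.val ≠ a.val := fun h => hja (Fin.ext h)
          simp [ha, hb] at *; omega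
        rw [if_neg hja, if_neg hja, hTb, hTi a j ha0 hab, hUup hij, hUup hjv]
        ring
    · rw [hT'e, if_neg hib, hTP]
      by_cases hja : j = a
      · exfalso
        have : i.val ≠ b.val := fun h => hib (Fin.ext h)
        have := i.2
        simp [hja, ha, hb] at *; omega
      · rw [if_neg hja, hTi i j hi0 hib]
        exact hUup hij
  have hdiag : ∀ i, T' i i = e i := by
    intro i
    by_cases hib : i = b
    · subst hib
      rw [hT'e, if_pos rfl, hTP, hTP, if_neg (Ne.symm hab), if_neg (Ne.symm hab), hTb, hTi a b ha0 hab, hUbb, hUab]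
      subst hτ
      ring
    · rw [hT'e, if_neg hib, hTP]
      by_cases hia : i = a
      · subst hia
        rw [if_pos rfl, hTi a a ha0 hab, hTi a b ha0 hab, hUaa, hUab]
        ring
      · rw [if_neg hia]
        by_cases hi0 : i.val = 0
        · exact hT0 i hi0
        · rw [hTi i i hi0 hib]; exact hUd i hia hib
  refine ⟨Geom1.sim (geom1_upper hup ?_ ?_ fun i j hi hj => by
    rw [hdiag, hdiag]; exact hsimple i j hi hj) hsim, ?_⟩
  · intro i j hi hij
    have hib : i ≠ b := fun h => by have := congrArg Fin.val h; have := j.2; simp [hb] at *; omega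
    rw [hT'e, if_neg hib, hTP]
    have e1 : ∀ l : Fin k, i.val + 1 < l.val → T i l = 0 := fun l hl => by
      rw [hTi i l hi hib, hU, twistU, Matrix.of_apply, if_neg (fun h => by subst h; omega), if_neg (by omega)]
    by_cases hja : j = a
    · rw [if_pos hja, e1 a (by rw [← hja]; exact hij), e1 b (by
        simp [hja, ha, hb] at *; omega)]
      simp
    · rw [if_neg hja, e1 j hij]
  · intro i j hi hij
    have hib : i ≠ b := fun h => by have := congrArg Fin.val h; have := j.2; simp [hb] at *; omega
    have e1 : T i j = 1 := by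
      rw [hTi i j hi hib, hU, twistU, Matrix.of_apply, if_neg (fun h => by subst h; omega), if_pos ⟨hij, hi⟩]
    rw [hT'e, if_neg hib, hTP]
    by_cases hja : j = a
    · rw [if_pos hja]
      have e2 : T i b = 0 := by
        rw [hTi i b hi hib, hU, twistU, Matrix.of_apply,
          if_neg (fun h => hib h), if_neg (fun h => by simp [hja, ha, hb] at *; omega)]
      rw [← hja, e1, e2, mul_zero, add_zero]
      exact one_ne_zero
    · rw [if_neg hja, e1]; exact one_ne_zero
  · rw [Sim.charpoly_eq hsim, Matrix.charpoly_of_isUpperTriangular _ hup]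
    exact Finset.prod_congr rfl fun i _ => by rw [hdiag]

/-- Values avoiding a given one, with prescribed product. -/
theorem exists_two_avoid [Fintype F] (hF : 4 ≤ Fintype.card F) (d Q : F) (hQ : Q ≠ 0) :
    ∃ x y : F, x ≠ 0 ∧ y ≠ 0 ∧ x ≠ d ∧ y ≠ d ∧ x * y = Q := by
  classical
  obtain ⟨x, -, hx⟩ := Finset.exists_mem_notMem_of_card_lt_card (s := ({0, d, Q / d} : Finset F))
    (t := Finset.univ) (lt_of_le_of_lt Finset.card_le_three (by rw [Finset.card_univ]; omega))
  simp only [Finset.mem_insert, Finset.mem_singleton, not_or] at hx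
  refine ⟨x, Q / x, hx.1, div_ne_zero hQ hx.1, hx.2.1, fun h => hx.2.2 ?_, mul_div_cancel₀ _ hx.1⟩
  rw [← h, div_div_cancel₀ hQ]

/-- A spectrum with the first value simple and prescribed product. -/
theorem exists_spectrum [Fintype F] (hF : 4 ≤ Fintype.card F) (hk : 3 ≤ k) (P : F) (hP : P ≠ 0) :
    ∃ e : Fin k → F, (∀ i, e i ≠ 0) ∧ (∀ i j : Fin k, i.val = 0 → j.val ≠ 0 → e i ≠ e j) ∧
      ∏ i, e i = P := by
  classical
  obtain ⟨c, -, hc⟩ := Finset.exists_mem_notMem_of_card_lt_card (s := ({0, 1} : Finset F))
    (t := Finset.univ) (lt_of_le_of_lt Finset.card_le_two (by rw [Finset.card_univ]; omega))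
  simp only [Finset.mem_insert, Finset.mem_singleton, not_or] at hc
  let a : Fin k := ⟨k - 2, by omega⟩
  let b : Fin k := ⟨k - 1, by omega⟩
  let e₀ : Fin k → F := fun i => if i.val = 0 then 1 else if i = a ∨ i = b then 1 else c
  have he₀ : ∀ i, e₀ i ≠ 0 := fun i => by simp only [e₀]; split_ifs <;> simp [hc.1]
  obtain ⟨x, y, hx, hy, hx1, hy1, hxy⟩ := exists_two_avoid hF 1 (P / ∏ i, e₀ i)
    (div_ne_zero hP (Finset.prod_ne_zero_iff.2 fun i _ => he₀ i))
  refine ⟨fun i => e₀ i * (if i = a then x else if i = b then y else 1), fun i => ?_, ?_, ?_⟩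
  · refine mul_ne_zero (he₀ i) ?_
    split_ifs <;> simp [hx, hy]
  · intro i j hi hj
    have hia : i ≠ a := fun h => by have := congrArg Fin.val h; simp [a] at this; omega
    have hib : i ≠ b := fun h => by have := congrArg Fin.val h; simp [b] at this; omega
    simp only [e₀, if_pos hi, if_neg hj, if_neg hia, if_neg hib, mul_one]
    by_cases hja : j = a
    · simp [hja, Ne.symm hx1]
    · by_cases hjb : j = b
      · subst hjb; simp [hja, Ne.symm hy1]
      · simp [hja, hjb, Ne.symm hc.2]
  · have hab : a ≠ b := fun h => by have := congrArg Fin.val h; simp [a, b] at this; omega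
    rw [Finset.prod_mul_distrib, Finset.prod_eq_mul (s := Finset.univ) a b hab (f := fun i => if i = a then x else if i = b then y else 1)
      (fun c _ hc => by simp [hc.1, hc.2]) (by simp) (by simp)]
    simp only [if_true, if_neg (Ne.symm hab)]
    rw [hxy, mul_div_cancel₀ _ (Finset.prod_ne_zero_iff.2 fun i _ => he₀ i)]

theorem dweight_scale (hk : 3 ≤ k) (e : Fin k → F) (q P : F) (hq : q ≠ 0) :
    dweight (twistU k e q (P / q)) = q * dweight (twistU k e 1 P) := by
  classical
  let a : Fin k := ⟨k - 2, by omega⟩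
  let b : Fin k := ⟨k - 1, by omega⟩
  let u : F → F → ℕ → F := fun r r' j => if h : j + 1 < k then
    twistU k e r r' ⟨j + 1, h⟩ ⟨j + 1, h⟩ else 1
  have hu : ∀ r r' j, j + 3 < k → u r r' j = u 1 P j := fun r r' j hj => by
    simp only [u, dif_pos (show j + 1 < k by omega), twistU, Matrix.of_apply, if_true]
    rw [if_neg (by omega), if_neg (by omega), if_neg (by omega), if_neg (by omega)]
  have key : ∀ i : Fin k, ∏ j ∈ Finset.range i.val, u q (P / q) j =
      (if i = a then q else 1) * ∏ j ∈ Finset.range i.val, u 1 P j := by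
    intro i
    have hlow : ∀ m, m + 2 ≤ k - 1 → ∏ j ∈ Finset.range m, u q (P / q) j = ∏ j ∈ Finset.range m, u 1 P j :=
      fun m hm => Finset.prod_congr rfl fun j hj => hu _ _ j (by simp at hj; omega)
    by_cases hia : i = a
    · rw [if_pos hia, hia]
      obtain ⟨m, hm⟩ : ∃ m, a.val = m + 1 := ⟨k - 3, by simp [a]; omega⟩
      rw [hm, Finset.prod_range_succ, Finset.prod_range_succ, hlow m (by simp [a] at hm; omega)]
      have h1 : u q (P / q) m = q := by
        simp [a] at hm
        simp only [u, dif_pos (show m + 1 < k by omega), twistU, Matrix.of_apply, if_true]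
        rw [if_pos (by omega)]
      have h2 : u 1 P m = 1 := by
        simp [a] at hm
        simp only [u, dif_pos (show m + 1 < k by omega), twistU, Matrix.of_apply, if_true]
        rw [if_pos (by omega)]
      rw [h1, h2]; ring
    · rw [if_neg hia, one_mul]
      by_cases hib : i = b
      · obtain ⟨m, hm⟩ : ∃ m, k = m + 3 := ⟨k - 3, by omega⟩
        rw [hib, show b.val = m + 1 + 1 by simp [b]; omega, Finset.prod_range_succ, Finset.prod_range_succ,
          Finset.prod_range_succ, Finset.prod_range_succ, hlow m (by omega)]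
        have h1 : ∀ r r', u r r' m = r := fun r r' => by
          simp only [u, dif_pos (show m + 1 < k by omega), twistU, Matrix.of_apply, if_true]
          rw [if_pos (by omega)]
        have h2 : ∀ r r', u r r' (m + 1) = r' := fun r r' => by
          simp only [u, dif_pos (show m + 1 + 1 < k by omega), twistU, Matrix.of_apply, if_true]
          rw [if_neg (by omega), if_pos (by omega)]
        rw [h1, h1, h2, h2]
        field_simp
      · refine hlow i.val ?_
        have h1 : i.val ≠ k - 2 := fun h => hia (Fin.ext h)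
        have h2 : i.val ≠ k - 1 := fun h => hib (Fin.ext h)
        have := i.2
        omega
  rw [dweight, dweight, Finset.prod_congr rfl fun i _ => key i, Finset.prod_mul_distrib,
    Finset.prod_eq_single a (f := fun i : Fin k => if i = a then q else 1) (fun j _ hj => if_neg hj) (by simp),
    if_pos rfl]

/-- A cyclic class times a cyclic class. -/
theorem exists_twist [Finite F] (hk : 3 ≤ k) (f : F[X]) (hf : f.Monic) (hd : f.natDegree = k)
    (g : F[X]) (hg : g.Monic) (hgd : g.natDegree = k) (hg0 : g.coeff 0 ≠ 0)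
    (e : Fin k → F) (he : ∀ i, e i ≠ 0) (hsimple : ∀ i j : Fin k, i.val = 0 → j.val ≠ 0 → e i ≠ e j)
    (hdet : (compMat f hf hd).det = (∏ i, e i) * (compMat g hg hgd).det)
    (σ ω : F) (hσ : σ ≠ 0) (hω : ω ≠ 0) :
    ∃ T H : Matrix (Fin k) (Fin k) F, IsHessS H ∧
      (∀ i j : Fin k, i.val ≠ 0 → i.val ≠ j.val + 1 → H i j = 0) ∧
      SimD σ H (compMat g hg hgd) ∧ SimD ω (T * H) (compMat f hf hd) ∧ Geom1 T ∧
      T.charpoly = ∏ i, (X - C (e i)) := by
  classical
  obtain ⟨H, hH, hHs, hHc⟩ := exists_companion (by omega) g hg hgd hg0 σ hσ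
  let a : Fin k := ⟨k - 2, by omega⟩
  let b : Fin k := ⟨k - 1, by omega⟩
  let P := e a * e b
  have hP : P ≠ 0 := mul_ne_zero (he _) (he _)
  have hW : ∀ r r', r ≠ 0 → r' ≠ 0 → ∀ i, twistU k e r r' i i ≠ 0 := by
    intro r r' hr hr' i
    simp only [twistU, Matrix.of_apply, if_true]
    split_ifs <;> first | assumption | exact he _
  have hW1 : dweight (twistU k e 1 P) ≠ 0 :=
    Finset.prod_ne_zero_iff.2 fun i _ => Finset.prod_ne_zero_iff.2 fun j _ => by
      split_ifs
      · exact hW 1 P one_ne_zero hP _
      · exact one_ne_zero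
  set q := ω / (dweight (twistU k e 1 P) * weight H) with hq
  have hq0 : q ≠ 0 := div_ne_zero hω (mul_ne_zero hW1 (weight_ne_zero hH))
  set τ := e a + e b - q - P / q with hτ
  have hU := twistU_upper e q (P / q)
  obtain ⟨w, hw⟩ := exists_pair hk f hf hd hU (hW q (P / q) hq0 (div_ne_zero hP hq0)) hH hHc τ (by
    rw [hdet, hHs.det_eq hσ]
    congr 1
    rw [det_of_isUpperTriangular hU]
    have hab : a ≠ b := fun h => by have := congrArg Fin.val h; simp [a, b] at this; omega
    rw [← Finset.mul_prod_erase _ _ (Finset.mem_univ a), ← Finset.mul_prod_erase _ _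
      (Finset.mem_erase.2 ⟨Ne.symm hab, Finset.mem_univ b⟩), ← Finset.mul_prod_erase _ _ (Finset.mem_univ a),
      ← Finset.mul_prod_erase (Finset.univ.erase a) (fun i => twistU k e q (P / q) i i)
      (Finset.mem_erase.2 ⟨Ne.symm hab, Finset.mem_univ b⟩)]
    have h1 : twistU k e q (P / q) a a = q := by
      simp [twistU, a, show k - 2 + 2 = k by omega]
    have h2 : twistU k e q (P / q) b b = P / q := by
      simp [twistU, b, show ¬ k - 1 + 2 = k by omega, show k - 1 + 1 = k by omega]
    rw [h1, h2, Finset.prod_congr rfl fun i hi => show twistU k e q (P / q) i i = e i by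
      simp only [Finset.mem_erase] at hi
      have h3 : i.val ≠ k - 1 := fun h => hi.1 (Fin.ext h)
      have h4 : i.val ≠ k - 2 := fun h => hi.2.1 (Fin.ext h)
      simp [twistU, show ¬ i.val + 2 = k by omega, show ¬ i.val + 1 = k by omega]]
    rw [← mul_assoc, ← mul_assoc, mul_div_cancel₀ _ hq0])
  have hTg := twist_geom hk e q (P / q) τ hsimple hτ (mul_div_cancel₀ _ hq0) w
  refine ⟨_, H, hH, hHc, hHs, ?_, hTg.1, hTg.2⟩
  have e1 : dweight (twistU k e q (P / q)) * weight H = ω := by
    rw [dweight_scale hk e q P hq0, hq]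
    field_simp [hW1, weight_ne_zero hH]
  rw [← e1]
  exact hw

end Cfsg.Agent.CoverPSL
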