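import Cfsg.Agent.Lib.CoverPSL.Cyclic

/-!
# Four conjugates of a cyclic matrix

`covS_four_cyclic`: for a cyclic class in dimension at least three every non-scalar matrix of the right
determinant is a product of four conjugates, conjugators of determinant one; `covS_four_one`: so is
the identity, for determinant one.
-/

set_option autoImplicit false

namespace Cfsg.Agent.CoverPSL

open Matrix Polynomial Cfsg.Agent.Classical.Thompson

variable {F : Type*} [Field F] {k : ℕ}

theorem charpoly_inv_congr {ι : Type*} [Fintype ι] [DecidableEq ι] {A B : Matrix ι ι F} (hA : A.det ≠ 0)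
    (h : A.charpoly = B.charpoly) : A⁻¹.charpoly = B⁻¹.charpoly := by
  have hd : A.det = B.det := by
    rw [Matrix.det_eq_sign_charpoly_coeff, Matrix.det_eq_sign_charpoly_coeff, h]
  have hA' : IsUnit A := (Matrix.isUnit_iff_isUnit_det A).2 (isUnit_iff_ne_zero.2 hA)
  have hB' : IsUnit B := (Matrix.isUnit_iff_isUnit_det B).2 (isUnit_iff_ne_zero.2 (hd ▸ hA))
  rw [Matrix.charpoly_inv A hA', Matrix.charpoly_inv B hB', ← Matrix.reverse_charpoly,
    ← Matrix.reverse_charpoly, h, hd]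

theorem SimD.inv {ι : Type*} [Fintype ι] [DecidableEq ι] {δ : F} (hδ : δ ≠ 0) {M N : Matrix ι ι F}
    (hM : M.det ≠ 0) (h : SimD δ M N) : SimD δ M⁻¹ N⁻¹ := by
  have hN : IsUnit N.det := by rw [← h.det_eq hδ]; exact isUnit_iff_ne_zero.2 hM
  obtain ⟨P, hP, e⟩ := h
  have hMu : IsUnit M.det := isUnit_iff_ne_zero.2 hM
  refine ⟨P, hP, ?_⟩
  calc M⁻¹ * P = M⁻¹ * (P * N) * N⁻¹ := by
        rw [Matrix.mul_assoc, Matrix.mul_assoc P, mul_nonsing_inv _ hN, Matrix.mul_one]
    _ = P * N⁻¹ := by rw [← e, ← Matrix.mul_assoc, nonsing_inv_mul _ hMu, Matrix.one_mul]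

/-- The inverse of a companion matrix is cyclic. -/
theorem compMat_inv (hk : 2 ≤ k) [Finite F] (f : F[X]) (hf : f.Monic) (hd : f.natDegree = k)
    (hf0 : f.coeff 0 ≠ 0) (g : F[X]) (hg : g.Monic) (hgd : g.natDegree = k)
    (hgf : (compMat f hf hd)⁻¹.charpoly = g) :
    ∃ δ : F, δ ≠ 0 ∧ SimD δ (compMat g hg hgd)⁻¹ (compMat f hf hd) := by
  have hdC : (compMat f hf hd).det ≠ 0 := by
    rw [compMat_det]; exact mul_ne_zero (pow_ne_zero _ (neg_ne_zero.2 one_ne_zero)) hf0
  have hCu : IsUnit (compMat f hf hd).det := isUnit_iff_ne_zero.2 hdC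
  have hd0 : (compMat g hg hgd).det ≠ 0 := by
    rw [Matrix.det_eq_sign_charpoly_coeff, compMat_charpoly, ← hgf, ← Matrix.det_eq_sign_charpoly_coeff,
      det_nonsing_inv, Ring.inverse_eq_inv]
    exact inv_ne_zero hdC
  obtain ⟨H, hH, hHs, hHc⟩ := exists_companion hk g hg hgd (by
    intro h0
    rw [compMat_det, h0, mul_zero] at hd0
    exact hd0 rfl) 1 one_ne_zero
  have hHd : H.det ≠ 0 := by rw [hHs.det_eq one_ne_zero]; exact hd0
  have hchH : H.charpoly = (compMat f hf hd)⁻¹.charpoly := by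
    rw [Sim.charpoly_eq (hHs.sim one_ne_zero), compMat_charpoly, hgf]
  obtain ⟨δ, hδ, h1⟩ := compShape_inv hk hH hHc hHd f hf hd (by
    rw [charpoly_inv_congr hHd hchH, Matrix.nonsing_inv_nonsing_inv _ hCu, compMat_charpoly])
  have h2 : SimD 1 (compMat g hg hgd)⁻¹ H⁻¹ := by
    simpa using (hHs.inv one_ne_zero hHd).symm one_ne_zero
  exact ⟨δ, hδ, by simpa using h2.trans h1⟩

/-- A class with cyclic members: the product of two conjugates can have any spectrum with the first
value simple. -/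
theorem covS_two_cyclic [Finite F] (hk : 3 ≤ k) {A : Matrix (Fin k) (Fin k) F} (hA : A.det ≠ 0)
    (f : F[X]) (hf : f.Monic) (hd : f.natDegree = k) {δA : F} (hδA : δA ≠ 0)
    (hAf : SimD δA A (compMat f hf hd))
    (e : Fin k → F) (he : ∀ i, e i ≠ 0) (hsimple : ∀ i j : Fin k, i.val = 0 → j.val ≠ 0 → e i ≠ e j)
    (hprod : ∏ i, e i = A.det ^ 2) :
    ∃ T, Geom1 T ∧ T.charpoly = ∏ i, (X - C (e i)) ∧ CovS 2 A T := by
  classical
  have hdC : (compMat f hf hd).det = A.det := (hAf.det_eq hδA).symm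
  have hf0 : f.coeff 0 ≠ 0 := by
    intro h0
    rw [← hdC, compMat_det, h0, mul_zero] at hA
    exact hA rfl
  obtain ⟨g, hgdef⟩ : ∃ g, (compMat f hf hd)⁻¹.charpoly = g := ⟨_, rfl⟩
  have hg : g.Monic := hgdef ▸ Matrix.charpoly_monic _
  have hgd : g.natDegree = k := by rw [← hgdef, Matrix.charpoly_natDegree_eq_dim, Fintype.card_fin]
  have hdg : (compMat g hg hgd).det = A.det⁻¹ := by
    rw [Matrix.det_eq_sign_charpoly_coeff, compMat_charpoly, ← hgdef, ← Matrix.det_eq_sign_charpoly_coeff,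
      det_nonsing_inv, Ring.inverse_eq_inv, hdC]
  have hg0 : g.coeff 0 ≠ 0 := by
    intro h0
    rw [compMat_det, h0, mul_zero] at hdg
    exact inv_ne_zero hA hdg.symm
  obtain ⟨κ, hκ, hinv⟩ := compMat_inv (by omega) f hf hd hf0 g hg hgd hgdef
  obtain ⟨T, H, -, -, hHs, hX, hgeom, hchar⟩ := exists_twist hk f hf hd g hg hgd hg0 e he hsimple
    (by rw [hdC, hdg, hprod, pow_two, mul_assoc, mul_inv_cancel₀ hA, mul_one]) (δA / κ) δA
    (div_ne_zero hδA hκ) hδA
  have hσ : δA / κ ≠ 0 := div_ne_zero hδA hκ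
  have hHd : H.det ≠ 0 := by rw [hHs.det_eq hσ, hdg]; exact inv_ne_zero hA
  have hY : SimD 1 H⁻¹ A := by
    have h := ((hHs.inv hσ hHd).trans hinv).trans (hAf.symm hδA)
    rwa [div_mul_cancel₀ _ hκ, mul_inv_cancel₀ hδA] at h
  have hX' : SimD 1 (T * H) A := by
    have h := hX.trans (hAf.symm hδA)
    rwa [mul_inv_cancel₀ hδA] at h
  refine ⟨T, hgeom, hchar, [T * H, H⁻¹], rfl, ?_, ?_⟩
  · intro Y hY'
    simp only [List.mem_cons, List.not_mem_nil, or_false] at hY'
    rcases hY' with rfl | rfl <;> assumption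
  · simp [Matrix.mul_assoc, mul_nonsing_inv _ (isUnit_iff_ne_zero.2 hHd)]

theorem prod_eq_mul_rest (hk : 1 ≤ k) (e : Fin k → F) :
    ∏ i, (X - C (e i)) = (X - C (e ⟨0, hk⟩)) * ∏ i ∈ Finset.univ.erase ⟨0, hk⟩, (X - C (e i)) :=
  (Finset.mul_prod_erase _ _ (Finset.mem_univ _)).symm

/-- A simple eigenvalue gives a centralizer with every determinant. -/
theorem centFull_simple (hk : 1 ≤ k) {D : Matrix (Fin k) (Fin k) F} (hg : Geom1 D) (e : Fin k → F)
    (he : ∀ i, e i ≠ 0) (hsimple : ∀ i j : Fin k, i.val = 0 → j.val ≠ 0 → e i ≠ e j)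
    (hch : D.charpoly = ∏ i, (X - C (e i))) : CentFull D := by
  classical
  set z : Fin k := ⟨0, hk⟩
  set r : F[X] := ∏ i ∈ Finset.univ.erase z, (X - C (e i)) with hr
  have hsplit : D.charpoly = (X - C (e z)) * r := hch.trans (prod_eq_mul_rest hk e)
  have hroot : ¬ r.IsRoot (e z) := by
    rw [IsRoot.def, hr, eval_prod]
    refine Finset.prod_ne_zero_iff.2 fun i hi => ?_
    simp only [eval_sub, eval_X, eval_C]
    exact sub_ne_zero.2 (hsimple z i rfl (fun h => Finset.ne_of_mem_erase hi (Fin.ext h)))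
  have hev : (D - e z • 1).det = 0 := by
    have h : D.charpoly.eval (e z) = 0 := by rw [hsplit]; simp
    rw [Matrix.eval_charpoly] at h
    rw [← neg_sub, det_neg, show e z • (1 : Matrix (Fin k) (Fin k) F) = Matrix.scalar (Fin k) (e z) by
      rw [smul_one_eq_diagonal]; rfl, h, mul_zero]
  obtain ⟨a, m, ε, B, ha, hB, -, hsim⟩ := exists_eigen_block hg (he z) hev
  have hBroot : ¬ B.charpoly.IsRoot (e z) := fun h => by
    rw [IsRoot.def, Matrix.eval_charpoly] at h
    rw [← neg_sub, det_neg, show e z • (1 : Matrix (Fin m) (Fin m) F) = Matrix.scalar (Fin m) (e z) by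
      rw [smul_one_eq_diagonal]; rfl, h, mul_zero] at hB
    exact hB rfl
  have hjch : (e z • jord F a).charpoly = (X - C (e z)) ^ a := by
    rw [← Matrix.charpoly_transpose, Matrix.charpoly_of_isUpperTriangular]
    · simp [jord, Cfsg.Agent.Classical.RegularUnipotentConj.shift]
    · intro i j hij
      have hij' : j.val < i.val := hij
      simp [jord, Cfsg.Agent.Classical.RegularUnipotentConj.shift,
        show ¬ (i.val + 1 = j.val) by omega, Ne.symm (show i ≠ j from fun h => by subst h; omega)]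
  have ha1 : a = 1 := by
    have h1 : D.charpoly = (X - C (e z)) ^ a * B.charpoly := by
      rw [Sim.charpoly_eq hsim, Matrix.charpoly_reindex, Matrix.charpoly_fromBlocks_zero₂₁, hjch]
    have h2 : rootMultiplicity (e z) D.charpoly = a := by
      rw [h1, rootMultiplicity_mul (mul_ne_zero (pow_ne_zero _ (X_sub_C_ne_zero _))
        (Matrix.charpoly_monic B).ne_zero), rootMultiplicity_X_sub_C_pow,
        rootMultiplicity_eq_zero hBroot, add_zero]
    rw [← h2, hsplit, rootMultiplicity_mul (hsplit ▸ (Matrix.charpoly_monic D).ne_zero),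
      rootMultiplicity_X_sub_C_self, rootMultiplicity_eq_zero hroot]
  subst ha1
  intro t ht
  have hmodel : CentFull ((fromBlocks (e z • jord F 1) 0 0 B).reindex ε ε) := by
    intro s hs
    refine ⟨(fromBlocks (s • (1 : Matrix (Fin 1) (Fin 1) F)) 0 0 1).reindex ε ε, ?_, ?_⟩
    · rw [det_reindex_self, det_fromBlocks_zero₂₁]; simp
    · simp only [Matrix.reindex_apply, Matrix.submatrix_mul_equiv, fromBlocks_multiply]
      simp [Matrix.smul_mul, Matrix.mul_smul, smul_smul, mul_comm]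
  exact hmodel.sim hsim t ht

/-- **Four conjugates of a cyclic matrix** cover every non-scalar matrix. -/
theorem covS_four_cyclic [Fintype F] (hF : 4 ≤ Fintype.card F) (hk : 3 ≤ k)
    {A : Matrix (Fin k) (Fin k) F} (hA : A.det ≠ 0) (f : F[X]) (hf : f.Monic) (hd : f.natDegree = k)
    {δA : F} (hδA : δA ≠ 0) (hAf : SimD δA A (compMat f hf hd))
    {B : Matrix (Fin k) (Fin k) F} (hB : B.det = A.det ^ 4) (hns : ∀ c : F, B ≠ c • 1) : CovS 4 A B := by
  obtain ⟨e, he, hsimple, hprod⟩ := exists_spectrum hF hk (A.det ^ 2) (pow_ne_zero _ hA)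
  obtain ⟨T, hgeom, hch, hcov⟩ := covS_two_cyclic hk hA f hf hd hδA hAf e he hsimple hprod
  have hTd : T.det = A.det ^ 2 := hcov.cov.det_eq
  have hsp : T.charpoly.Splits := by rw [hch]; exact Splits.prod fun i _ => Splits.X_sub_C _
  obtain ⟨L, U, hL, hU, rfl⟩ := sq_geom1 hF k T hgeom hsp (by rw [hTd]; exact pow_ne_zero _ hA) B
    (by rw [hB, hTd, ← pow_mul]) (fun _ => hns)
  have hfull := centFull_simple (by omega) hgeom e he hsimple hch
  exact CovS.add (hcov.conj (hfull.simD_one hL)) (hcov.conj (hfull.simD_one hU))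

theorem Geom1.inv {D : Matrix (Fin k) (Fin k) F} (h : Geom1 D) (hD : D.det ≠ 0) : Geom1 D⁻¹ := by
  have hu : IsUnit D.det := isUnit_iff_ne_zero.2 hD
  intro c v w hv hw hv0
  have key : ∀ x : Fin k → F, D⁻¹ *ᵥ x = c • x → c • (D *ᵥ x) = x := fun x hx => by
    rw [← mulVec_smul, ← hx, mulVec_mulVec, mul_nonsing_inv _ hu, one_mulVec]
  have hc : c ≠ 0 := by
    rintro rfl
    exact hv0 (by rw [← key v hv, zero_smul])
  have key2 : ∀ x : Fin k → F, D⁻¹ *ᵥ x = c • x → D *ᵥ x = c⁻¹ • x := fun x hx => by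
    conv_rhs => rw [← key x hx]
    rw [smul_smul, inv_mul_cancel₀ hc, one_smul]
  exact h c⁻¹ v w (key2 v hv) (key2 w hw) hv0

/-- For determinant one the identity is a product of four conjugates as well. -/
theorem covS_four_one [Fintype F] (hF : 4 ≤ Fintype.card F) (hk : 3 ≤ k)
    {A : Matrix (Fin k) (Fin k) F} (hA : A.det = 1) (f : F[X]) (hf : f.Monic) (hd : f.natDegree = k)
    {δA : F} (hδA : δA ≠ 0) (hAf : SimD δA A (compMat f hf hd)) : CovS 4 A 1 := by
  classical
  have hA0 : A.det ≠ 0 := by rw [hA]; exact one_ne_zero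
  obtain ⟨e, he, hsimple, hprod⟩ := exists_spectrum hF hk (A.det ^ 2) (pow_ne_zero _ hA0)
  obtain ⟨T, hgeom, hch, hcov⟩ := covS_two_cyclic hk hA0 f hf hd hδA hAf e he hsimple hprod
  have hsimple' : ∀ i j : Fin k, i.val = 0 → j.val ≠ 0 → (e i)⁻¹ ≠ (e j)⁻¹ :=
    fun i j hi hj h => hsimple i j hi hj (inv_injective h)
  have hprod' : ∏ i, (e i)⁻¹ = A.det ^ 2 := by
    rw [Finset.prod_inv_distrib, hprod, hA]; simp
  obtain ⟨T', hgeom', hch', hcov'⟩ := covS_two_cyclic hk hA0 f hf hd hδA hAf (fun i => (e i)⁻¹)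
    (fun i => inv_ne_zero (he i)) hsimple' hprod'
  have hTd : T.det = 1 := by rw [hcov.cov.det_eq, hA, one_pow]
  have hTd' : T'.det = 1 := by rw [hcov'.cov.det_eq, hA, one_pow]
  have hchinv : T⁻¹.charpoly = T'.charpoly := by
    rw [charpoly_inv_congr (B := diagonal e) (by rw [hTd]; exact one_ne_zero) (by
      rw [hch, Matrix.charpoly_diagonal]), hch']
    have hdi : (diagonal e)⁻¹ = diagonal (fun i => (e i)⁻¹) := by
      refine Matrix.inv_eq_right_inv ?_
      rw [diagonal_mul_diagonal, ← diagonal_one]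
      congr 1
      funext i
      exact mul_inv_cancel₀ (he i)
    rw [hdi, Matrix.charpoly_diagonal]
  have hsim := geom1_sim k T' T⁻¹ hgeom' (hgeom.inv (by rw [hTd]; exact one_ne_zero))
    (by rw [hch']; exact Splits.prod fun i _ => Splits.X_sub_C _) (by rw [hTd']; exact one_ne_zero) hchinv.symm
  have hfull := centFull_simple (by omega) hgeom' _ (fun i => inv_ne_zero (he i)) hsimple' hch'
  have h := CovS.add hcov (hcov'.conj (hfull.simD_one hsim.symm))
  rwa [mul_nonsing_inv _ (by rw [hTd]; exact isUnit_one)] at h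

/-- Two cyclic classes: their product contains a matrix with any spectrum with the first value simple. -/
theorem exists_cyclic_mul [Finite F] (hk : 3 ≤ k) (f : F[X]) (hf : f.Monic) (hd : f.natDegree = k)
    (hf0 : f.coeff 0 ≠ 0) (g : F[X]) (hg : g.Monic) (hgd : g.natDegree = k) (hg0 : g.coeff 0 ≠ 0)
    (e : Fin k → F) (he : ∀ i, e i ≠ 0) (hsimple : ∀ i j : Fin k, i.val = 0 → j.val ≠ 0 → e i ≠ e j)
    (hprod : ∏ i, e i = (compMat f hf hd).det * (compMat g hg hgd).det) :
    ∃ X' Y : Matrix (Fin k) (Fin k) F, Sim X' (compMat f hf hd) ∧ Sim Y (compMat g hg hgd) ∧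
      Geom1 (X' * Y) ∧ (X' * Y).charpoly = ∏ i, (X - C (e i)) := by
  have hdg : (compMat g hg hgd).det ≠ 0 := by
    rw [compMat_det]; exact mul_ne_zero (pow_ne_zero _ (neg_ne_zero.2 one_ne_zero)) hg0
  have hdf : (compMat f hf hd).det ≠ 0 := by
    rw [compMat_det]; exact mul_ne_zero (pow_ne_zero _ (neg_ne_zero.2 one_ne_zero)) hf0
  obtain ⟨g', hgdef⟩ : ∃ g', (compMat g hg hgd)⁻¹.charpoly = g' := ⟨_, rfl⟩
  have hg' : g'.Monic := hgdef ▸ Matrix.charpoly_monic _
  have hgd' : g'.natDegree = k := by rw [← hgdef, Matrix.charpoly_natDegree_eq_dim, Fintype.card_fin]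
  have hdg' : (compMat g' hg' hgd').det = (compMat g hg hgd).det⁻¹ := by
    rw [Matrix.det_eq_sign_charpoly_coeff, compMat_charpoly, ← hgdef, ← Matrix.det_eq_sign_charpoly_coeff,
      det_nonsing_inv, Ring.inverse_eq_inv]
  have hg0' : g'.coeff 0 ≠ 0 := by
    intro h0
    rw [compMat_det g' hg' hgd', h0, mul_zero] at hdg'
    exact inv_ne_zero hdg hdg'.symm
  obtain ⟨κ, hκ, hinv⟩ := compMat_inv (by omega) g hg hgd hg0 g' hg' hgd' hgdef
  obtain ⟨T, H, -, -, hHs, hX, hgeom, hchar⟩ := exists_twist hk f hf hd g' hg' hgd' hg0' e he hsimple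
    (by rw [hdg', hprod, mul_assoc, mul_inv_cancel₀ hdg, mul_one]) 1 1 one_ne_zero one_ne_zero
  have hHd : H.det ≠ 0 := by rw [hHs.det_eq one_ne_zero, hdg']; exact inv_ne_zero hdg
  have hTH : T * H * H⁻¹ = T := by
    rw [Matrix.mul_assoc, mul_nonsing_inv _ (isUnit_iff_ne_zero.2 hHd), Matrix.mul_one]
  refine ⟨T * H, H⁻¹, hX.sim one_ne_zero, ((hHs.inv one_ne_zero hHd).trans hinv).sim (by simpa using hκ), ?_, ?_⟩
  · rw [hTH]; exact hgeom
  · rw [hTH]; exact hchar

/-- The same in dimension two, with two different eigenvalues. -/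
theorem exists_cyclic_mul_two [Finite F] (f : F[X]) (hf : f.Monic) (hd : f.natDegree = 2)
    (hf0 : f.coeff 0 ≠ 0) (g : F[X]) (hg : g.Monic) (hgd : g.natDegree = 2) (hg0 : g.coeff 0 ≠ 0)
    (e : Fin 2 → F) (he : ∀ i, e i ≠ 0) (hne : e 0 ≠ e 1)
    (hprod : ∏ i, e i = (compMat f hf hd).det * (compMat g hg hgd).det) :
    ∃ X' Y : Matrix (Fin 2) (Fin 2) F, Sim X' (compMat f hf hd) ∧ Sim Y (compMat g hg hgd) ∧
      Geom1 (X' * Y) ∧ (X' * Y).charpoly = ∏ i, (X - C (e i)) := by
  classical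
  have hdg : (compMat g hg hgd).det ≠ 0 := by
    rw [compMat_det]; exact mul_ne_zero (pow_ne_zero _ (neg_ne_zero.2 one_ne_zero)) hg0
  obtain ⟨g', hgdef⟩ : ∃ g', (compMat g hg hgd)⁻¹.charpoly = g' := ⟨_, rfl⟩
  have hg' : g'.Monic := hgdef ▸ Matrix.charpoly_monic _
  have hgd' : g'.natDegree = 2 := by rw [← hgdef, Matrix.charpoly_natDegree_eq_dim, Fintype.card_fin]
  have hdg' : (compMat g' hg' hgd').det = (compMat g hg hgd).det⁻¹ := by
    rw [Matrix.det_eq_sign_charpoly_coeff, compMat_charpoly, ← hgdef, ← Matrix.det_eq_sign_charpoly_coeff,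
      det_nonsing_inv, Ring.inverse_eq_inv]
  have hg0' : g'.coeff 0 ≠ 0 := by
    intro h0
    rw [compMat_det g' hg' hgd', h0, mul_zero] at hdg'
    exact inv_ne_zero hdg hdg'.symm
  obtain ⟨κ, hκ, hinv⟩ := compMat_inv le_rfl g hg hgd hg0 g' hg' hgd' hgdef
  obtain ⟨H, hH, hHs, -⟩ := exists_companion le_rfl g' hg' hgd' hg0' 1 one_ne_zero
  have hHd : H.det ≠ 0 := by rw [hHs.det_eq one_ne_zero, hdg']; exact inv_ne_zero hdg
  set M := diagonal e * H with hM
  have hMh : IsHessS M := fun i j =>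
    ⟨fun h => by rw [hM, diagonal_mul, (hH i j).1 h, mul_zero],
      fun h => by rw [hM, diagonal_mul]; exact mul_ne_zero (he i) ((hH i j).2 h)⟩
  obtain ⟨r, hr⟩ := exists_update_left hMh one_le_two f hf hd (by
    rw [hM, det_mul, det_diagonal, hprod, hHs.det_eq one_ne_zero, hdg', mul_assoc, mul_inv_cancel₀ hdg,
      mul_one])
  set T := (1 + upd 1 r) * diagonal e with hT
  have hTH : T * H * H⁻¹ = T := by
    rw [Matrix.mul_assoc, mul_nonsing_inv _ (isUnit_iff_ne_zero.2 hHd), Matrix.mul_one]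
  have hup : T.IsUpperTriangular := by
    intro i j hij
    have hij' : j.val < i.val := hij
    have h0 : upd 1 r i j = 0 := by
      by_contra h; rcases upd_zero h with h1 | h1 <;> omega
    rw [hT, mul_diagonal, Matrix.add_apply, Matrix.one_apply_ne (fun h => by subst h; omega), h0,
      add_zero, zero_mul]
  have hdiag : ∀ i, T i i = e i := fun i => by
    rw [hT, mul_diagonal, Matrix.add_apply, Matrix.one_apply_eq]
    have : upd 1 r i i = 0 := by
      by_contra h; rcases upd_zero h with h1 | h1 <;> omega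
    rw [this, add_zero, one_mul]
  refine ⟨T * H, H⁻¹, ?_, ((hHs.inv one_ne_zero hHd).trans hinv).sim (by simpa using hκ), ?_, ?_⟩
  · rw [hT, Matrix.mul_assoc, ← hM]; exact hr.sim (weight_ne_zero hMh)
  · rw [hTH]
    refine geom1_upper hup (fun i j hi hij => ?_) (fun i j hi hij => ?_) (fun i j hi hj => ?_)
    · have := j.2; omega
    · have := j.2; omega
    · rw [hdiag, hdiag, show i = 0 from Fin.ext hi, show j = 1 from Fin.ext (by have := j.2; omega)]
      exact hne
  · rw [hTH, Matrix.charpoly_of_isUpperTriangular _ hup]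
    exact Finset.prod_congr rfl fun i _ => by rw [hdiag]

end Cfsg.Agent.CoverPSL
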