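import Cfsg.Agent.Lib.CoverPSL.Four
import Cfsg.Agent.Lib.ClassSquareGauss.Linear

/-!
# Diagonalisable classes

The `n` cyclic shifts of a diagonal matrix multiply to its determinant.
-/

set_option autoImplicit false

namespace Cfsg.Agent.CoverPSL

open Matrix Cfsg.Agent.Classical.Thompson

variable {F : Type*} [Field F] {n : ℕ}

/-- A spanning family of eigenvectors diagonalises. -/
theorem sim_diag_of_span {A : Matrix (Fin n) (Fin n) F} (d : Fin n → F) (w : Fin n → Fin n → F)
    (h : ∀ i, A *ᵥ w i = d i • w i) (hsp : Submodule.span F (Set.range w) = ⊤) :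
    Sim A (diagonal d) := by
  refine sim_of_vectors w (linearIndependent_of_top_le_span_of_card_eq_finrank hsp.ge (by simp)) fun j => ?_
  rw [h, Finset.sum_eq_single j]
  · rw [diagonal_apply_eq]
  · intro i _ hi
    rw [diagonal_apply_ne _ hi, zero_smul]
  · simp

theorem centFull_diag (hn : 1 ≤ n) (d : Fin n → F) : CentFull (diagonal d) := by
  intro t ht
  refine ⟨diagonal fun i => if i = (⟨0, hn⟩ : Fin n) then t else 1, ?_, by
    rw [diagonal_mul_diagonal, diagonal_mul_diagonal]
    exact congrArg _ (funext fun i => mul_comm _ _)⟩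
  rw [det_diagonal, Finset.prod_ite_eq']
  simp

/-- The shifts. -/
theorem cov_diag (d : Fin n → F) : Cov n (diagonal d) ((∏ i, d i) • 1) := by
  rcases Nat.eq_zero_or_pos n with rfl | hn
  · exact ⟨[], rfl, by simp, Subsingleton.elim _ _⟩
  haveI : NeZero n := ⟨hn.ne'⟩
  refine ⟨List.ofFn fun i : Fin n => diagonal fun j => d (j + i), List.length_ofFn, fun X hX => ?_, ?_⟩
  · obtain ⟨i, rfl⟩ := List.mem_ofFn.1 hX
    have h := ClassSquareGauss.Linear.sim_perm (diagonal d) (Equiv.addRight i)
    rwa [submatrix_diagonal_equiv] at h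
  · have key : ∀ l : List (Fin n → F), (l.map diagonal).prod = diagonal l.prod := by
      intro l
      induction l with
      | nil =>
        rw [List.map_nil, List.prod_nil, List.prod_nil]
        exact (diagonal_one).symm
      | cons a l ih =>
        rw [List.map_cons, List.prod_cons, ih, List.prod_cons, diagonal_mul_diagonal]
        rfl
    rw [show (List.ofFn fun i : Fin n => diagonal fun j => d (j + i)) =
      (List.ofFn fun i : Fin n => fun j => d (j + i)).map diagonal by rw [List.map_ofFn]; rfl, key,
      List.prod_ofFn, smul_one_eq_diagonal]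
    congr 1
    funext j
    rw [Finset.prod_apply]
    exact Equiv.prod_comp (Equiv.addLeft j) d

/-- A diagonalisable matrix: `det A` is a product of `n` conjugates, by matrices of determinant one. -/
theorem covS_diag {A : Matrix (Fin n) (Fin n) F} (hn : 1 ≤ n) {d : Fin n → F}
    (h : Sim A (diagonal d)) : CovS n A (A.det • 1) := by
  have e : A.det = ∏ i, d i := by rw [h.det_eq, det_diagonal]
  rw [e]
  exact ((centFull_diag hn d).sim h).covS ((cov_diag d).congr h.symm)

end Cfsg.Agent.CoverPSL
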