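import Cfsg.Agent.Lib.CoverPSL.Basic
import Cfsg.Agent.Lib.Classical.Thompson.LargeField
import Cfsg.Agent.Lib.ClassSquareGauss.PeelGen

/-!
# The square of a split cyclic class

If all eigenspaces of `D` are at most one-dimensional and its characteristic polynomial splits,
every non-scalar matrix of determinant `det D ^ 2` is a product of two matrices similar to `D`.
-/

set_option autoImplicit false

namespace Cfsg.Agent.CoverPSL

open Matrix Polynomial Cfsg.Agent.Classical.Thompson

variable {F : Type*} [Field F]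

/-- All eigenspaces are at most one-dimensional. -/
def Geom1 {ι : Type*} [Fintype ι] (D : Matrix ι ι F) : Prop :=
  ∀ (c : F) (v w : ι → F), D *ᵥ v = c • v → D *ᵥ w = c • w → v ≠ 0 → ∃ a : F, w = a • v

theorem Geom1.sim {ι : Type*} [Fintype ι] [DecidableEq ι] {D D' : Matrix ι ι F} (h : Geom1 D)
    (hs : Sim D' D) : Geom1 D' := by
  obtain ⟨P, Q, hPQ, rfl⟩ := hs
  have hQP : Q * P = 1 := mul_eq_one_comm.1 hPQ
  intro c v w hv hw hv0
  have key : ∀ x, (P * D * Q) *ᵥ x = c • x → D *ᵥ (Q *ᵥ x) = c • (Q *ᵥ x) := fun x hx => by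
    have := congrArg (Q *ᵥ ·) hx
    simpa [mulVec_mulVec, ← Matrix.mul_assoc, hQP, mulVec_smul] using this
  obtain ⟨a, ha⟩ := h c _ _ (key v hv) (key w hw) (fun h0 => hv0 (by
    have := congrArg (P *ᵥ ·) h0
    simpa [mulVec_mulVec, hPQ] using this))
  refine ⟨a, ?_⟩
  have := congrArg (P *ᵥ ·) ha
  simpa [mulVec_mulVec, hPQ, mulVec_smul] using this

theorem Geom1.reindex {ι κ : Type*} [Fintype ι] [DecidableEq ι] [Fintype κ] [DecidableEq κ]
    {D : Matrix ι ι F} (h : Geom1 D) (e : ι ≃ κ) : Geom1 (D.reindex e e) := by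
  intro c v w hv hw hv0
  have key : ∀ x : κ → F, (D.reindex e e) *ᵥ x = c • x → D *ᵥ (x ∘ e) = c • (x ∘ e) := by
    intro x hx
    funext i
    have := congrFun hx (e i)
    simpa [Matrix.mulVec, dotProduct, ← e.sum_comp] using this
  obtain ⟨a, ha⟩ := h c _ _ (key v hv) (key w hw) (fun h0 => hv0 (funext fun i => by
    simpa using congrFun h0 (e.symm i)))
  exact ⟨a, funext fun i => by simpa using congrFun ha (e.symm i)⟩

theorem Geom1.of_blocks {ι κ : Type*} [Fintype ι] [Fintype κ] {P : Matrix ι ι F} {B : Matrix κ κ F}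
    (h : Geom1 (fromBlocks P 0 0 B)) : Geom1 P ∧ Geom1 B := by
  refine ⟨fun c v w hv hw hv0 => ?_, fun c v w hv hw hv0 => ?_⟩
  · obtain ⟨a, ha⟩ := h c (Sum.elim v 0) (Sum.elim w 0)
      (by funext i; rcases i with i | i <;> simp [fromBlocks_mulVec, hv])
      (by funext i; rcases i with i | i <;> simp [fromBlocks_mulVec, hw])
      (fun h0 => hv0 (funext fun i => congrFun h0 (Sum.inl i)))
    exact ⟨a, funext fun i => congrFun ha (Sum.inl i)⟩
  · obtain ⟨a, ha⟩ := h c (Sum.elim 0 v) (Sum.elim 0 w)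
      (by funext i; rcases i with i | i <;> simp [fromBlocks_mulVec, hv])
      (by funext i; rcases i with i | i <;> simp [fromBlocks_mulVec, hw])
      (fun h0 => hv0 (funext fun i => congrFun h0 (Sum.inr i)))
    exact ⟨a, funext fun i => congrFun ha (Sum.inr i)⟩

theorem sim_scale {ι : Type*} [Fintype ι] [DecidableEq ι] {M N : Matrix ι ι F} (h : Sim M N) (c : F) :
    Sim (c • M) (c • N) := by
  obtain ⟨P, Q, hPQ, rfl⟩ := h
  exact ⟨P, Q, hPQ, by simp [Matrix.mul_smul, Matrix.smul_mul]⟩

/-- A nilpotent-plus-one matrix with one-dimensional fixed space is a Jordan block. -/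
theorem sim_jord_of_geom1 {a : ℕ} {μ : F} (hμ : μ ≠ 0) {A : Matrix (Fin a) (Fin a) F} (hA : Geom1 A)
    {k : ℕ} (hk : (A - μ • 1) ^ k = 0) : Sim A (μ • jord F a) := by
  classical
  set N := μ⁻¹ • A with hN
  have hNA : A = μ • N := by rw [hN, smul_smul, mul_inv_cancel₀ hμ, one_smul]
  have hnil : (N - 1) ^ a = 0 := by
    have h1 : (N - 1) ^ k = 0 := by
      have e : N - 1 = μ⁻¹ • (A - μ • 1) := by rw [smul_sub, smul_smul, inv_mul_cancel₀ hμ, one_smul, hN]
      rw [e, _root_.smul_pow, hk, smul_zero]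
    have hni : IsNilpotent (N - 1) := ⟨k, h1⟩
    have hc := sub_eq_zero.1 (Matrix.isNilpotent_charpoly_sub_pow_of_isNilpotent hni).eq_zero
    have hch := Matrix.aeval_self_charpoly (N - 1)
    rw [hc] at hch
    simpa using hch
  have hrank : (N - 1).rank = a - 1 := by
    rcases Nat.eq_zero_or_pos a with rfl | ha
    · have := Matrix.rank_le_card_width (N - 1); simp at this; omega
    have hker : Module.finrank F (LinearMap.ker (N - 1).mulVecLin) ≤ 1 := by
      rcases eq_or_ne (LinearMap.ker (N - 1).mulVecLin) ⊥ with h0 | h0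
      · rw [h0, finrank_bot]; omega
      obtain ⟨v, hv, hv0⟩ := Submodule.exists_mem_ne_zero_of_ne_bot h0
      have key : ∀ x ∈ LinearMap.ker (N - 1).mulVecLin, A *ᵥ x = μ • x := fun x hx => by
        simp only [LinearMap.mem_ker, Matrix.mulVecLin_apply, sub_mulVec, one_mulVec, sub_eq_zero] at hx
        rw [hNA, smul_mulVec, hx]
      refine finrank_le_one ⟨v, hv⟩ fun ⟨w, hw⟩ => ?_
      obtain ⟨c, hc⟩ := hA μ v w (key v hv) (key w hw) hv0
      exact ⟨c, Subtype.ext hc.symm⟩
    have hsum := LinearMap.finrank_range_add_finrank_ker (N - 1).mulVecLin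
    rw [Module.finrank_pi, Fintype.card_fin] at hsum
    have hlt : (N - 1).rank < a := by
      by_contra hge
      have hfull : (N - 1).rank = a := le_antisymm ((Matrix.rank_le_card_width (N - 1)).trans (Fintype.card_fin a).le) (by omega)
      have hz : LinearMap.ker (N - 1).mulVecLin = ⊥ := by
        apply Submodule.finrank_eq_zero.1
        change (N - 1).rank + _ = a at hsum
        omega
      have hinj : Function.Injective (N - 1).mulVec := LinearMap.ker_eq_bot.1 hz
      have hu := (Matrix.mulVec_injective_iff_isUnit.1 hinj).pow a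
      rw [hnil] at hu
      haveI : Nonempty (Fin a) := ⟨⟨0, ha⟩⟩
      exact not_isUnit_zero hu
    change (N - 1).rank + _ = a at hsum
    omega
  rw [hNA]
  exact sim_scale (sim_of_regular _ _ (jord_nil a) (jord_rank a) hnil hrank) μ

/-- Splitting off the generalised eigenspace of an eigenvalue. -/
theorem exists_eigen_block {n : ℕ} {D : Matrix (Fin n) (Fin n) F} (hD : Geom1 D) {μ : F} (hμ : μ ≠ 0)
    (hev : (D - μ • 1).det = 0) :
    ∃ (a m : ℕ) (e : Fin a ⊕ Fin m ≃ Fin n) (B : Matrix (Fin m) (Fin m) F), 1 ≤ a ∧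
      (B - μ • 1).det ≠ 0 ∧ Geom1 B ∧
      Sim D ((fromBlocks (μ • jord F a) 0 0 B).reindex e e) := by
  classical
  set f : Module.End F (Fin n → F) := Matrix.toLin' D with hf
  set φ : Module.End F (Fin n → F) := f - μ • 1 with hφ
  set K := LinearMap.ker (φ ^ n) with hK
  set R := LinearMap.range (φ ^ n) with hR
  have hdim : K ⊓ R = ⊥ := by
    rw [eq_bot_iff]
    rintro x ⟨hxK, y, rfl⟩
    simp only [hK, SetLike.mem_coe, LinearMap.mem_ker] at hxK
    rw [← Module.End.mul_apply, ← pow_add] at hxK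
    have hy : y ∈ LinearMap.ker (φ ^ (n + n)) := hxK
    have e1 := Module.End.ker_pow_eq_ker_pow_finrank_of_le (f := φ)
      (show Module.finrank F (Fin n → F) ≤ n + n by simp)
    rw [e1, Module.finrank_pi, Fintype.card_fin] at hy
    simpa using hy
  have hcompl : IsCompl K R := by
    refine ⟨disjoint_iff.2 hdim, codisjoint_iff.2 (Submodule.eq_top_of_finrank_eq ?_)⟩
    have h1 := Submodule.finrank_sup_add_finrank_inf_eq K R
    rw [hdim, finrank_bot, add_zero] at h1
    rw [h1, hK, hR, add_comm, LinearMap.finrank_range_add_finrank_ker]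
  have hcomm : Commute f φ := by
    rw [hφ]; exact Commute.sub_right (Commute.refl f) ((Commute.one_right f).smul_right μ)
  have hfK : ∀ x ∈ K, f x ∈ K := fun x hx => by
    simp only [hK, LinearMap.mem_ker] at hx ⊢
    rw [← Module.End.mul_apply, ← (hcomm.pow_right n).eq, Module.End.mul_apply, hx, map_zero]
  have hfR : ∀ x ∈ R, f x ∈ R := by
    rintro x ⟨y, rfl⟩
    exact ⟨f y, by rw [← Module.End.mul_apply, ← (hcomm.pow_right n).eq, Module.End.mul_apply]⟩
  set a := Module.finrank F K
  set m := Module.finrank F R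
  let bK := Module.finBasis F K
  let bR := Module.finBasis F R
  let b : Module.Basis (Fin a ⊕ Fin m) F (Fin n → F) :=
    (bK.prod bR).map (Submodule.prodEquivOfIsCompl K R hcompl)
  let e : Fin a ⊕ Fin m ≃ Fin n := b.indexEquiv (Pi.basisFun F (Fin n))
  set M := LinearMap.toMatrix b b f with hM
  have hbl : ∀ i, b (Sum.inl i) = (bK i : Fin n → F) := fun i => by simp [b]
  have hbr : ∀ i, b (Sum.inr i) = (bR i : Fin n → F) := fun i => by simp [b]
  have hreprK : ∀ x ∈ K, ∀ j, b.repr x (Sum.inr j) = 0 := by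
    intro x hx j
    have : b.repr x = (bK.prod bR).repr ((Submodule.prodEquivOfIsCompl K R hcompl).symm x) := rfl
    rw [this, show x = ((⟨x, hx⟩ : K) : Fin n → F) from rfl, Submodule.prodEquivOfIsCompl_symm_apply_left]
    simp
  have hreprR : ∀ x ∈ R, ∀ j, b.repr x (Sum.inl j) = 0 := by
    intro x hx j
    have : b.repr x = (bK.prod bR).repr ((Submodule.prodEquivOfIsCompl K R hcompl).symm x) := rfl
    rw [this, show x = ((⟨x, hx⟩ : R) : Fin n → F) from rfl, Submodule.prodEquivOfIsCompl_symm_apply_right]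
    simp
  have hM12 : M.toBlocks₁₂ = 0 := by
    ext i j
    simp only [hM, toBlocks₁₂, LinearMap.toMatrix_apply, Matrix.of_apply, hbr, Matrix.zero_apply]
    exact hreprR _ (hfR _ (bR j).2) i
  have hM21 : M.toBlocks₂₁ = 0 := by
    ext i j
    simp only [hM, toBlocks₂₁, LinearMap.toMatrix_apply, Matrix.of_apply, hbl, Matrix.zero_apply]
    exact hreprK _ (hfK _ (bK j).2) i
  set A := M.toBlocks₁₁
  set B := M.toBlocks₂₂
  have hMb : M = fromBlocks A 0 0 B := by
    rw [← fromBlocks_toBlocks M, hM12, hM21]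
  have hsim : Sim D ((fromBlocks A 0 0 B).reindex e e) := by
    have h := sim_toMatrix D (b.reindex e)
    have e2 : LinearMap.toMatrix (b.reindex e) (b.reindex e) (Matrix.toLin' D) = M.reindex e e := by
      ext i j
      simp [hM, hf, LinearMap.toMatrix_apply]
    rwa [e2, hMb] at h
  have hgeom : Geom1 (fromBlocks A 0 0 B) := by
    have h := (hD.sim hsim.symm).reindex e.symm
    have e3 : ((fromBlocks A 0 0 B).reindex e e).reindex e.symm e.symm = fromBlocks A 0 0 B := by
      ext i j; simp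
    rwa [e3] at h
  have hMphi : LinearMap.toMatrix b b φ = fromBlocks (A - μ • 1) 0 0 (B - μ • 1) := by
    rw [hφ, map_sub, map_smul, LinearMap.toMatrix_one, ← hM, hMb, ← fromBlocks_one, fromBlocks_smul,
      sub_eq_add_neg, fromBlocks_neg, fromBlocks_add]
    simp [sub_eq_add_neg]
  have hA0 : (A - μ • 1) ^ n = 0 := by
    have h : LinearMap.toMatrix b b (φ ^ n) = fromBlocks ((A - μ • 1) ^ n) 0 0 ((B - μ • 1) ^ n) := by
      rw [← fromBlocks_diagonal_pow, ← hMphi]
      exact map_pow (LinearMap.toMatrixAlgEquiv b) φ n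
    ext i j
    have h1 := congrFun (congrFun h (Sum.inl i)) (Sum.inl j)
    rw [fromBlocks_apply₁₁, LinearMap.toMatrix_apply, hbl, LinearMap.mem_ker.1 (bK j).2] at h1
    simpa using h1.symm
  have hB0 : (B - μ • 1).det ≠ 0 := by
    intro h0
    obtain ⟨w, hw0, hw⟩ := (Matrix.exists_mulVec_eq_zero_iff).2 h0
    set x := b.equivFun.symm (Sum.elim (0 : Fin a → F) w) with hx
    have hxR : x ∈ R := by
      rw [hx, Module.Basis.equivFun_symm_apply, Fintype.sum_sum_type]
      refine R.add_mem (by simp) (R.sum_mem fun i _ => ?_)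
      rw [hbr]
      exact R.smul_mem _ (bR i).2
    have hφx : φ x = 0 := by
      apply b.repr.injective
      rw [map_zero]
      ext i
      have h1 := congrFun (LinearMap.toMatrix_mulVec_repr b b φ x) i
      rw [hMphi] at h1
      have h2 : (⇑(b.repr x) : Fin a ⊕ Fin m → F) = Sum.elim (0 : Fin a → F) w := by
        rw [hx, ← Module.Basis.equivFun_apply, LinearEquiv.apply_symm_apply]
      rw [h2, fromBlocks_mulVec] at h1
      rw [Finsupp.zero_apply, ← h1]
      rcases i with i | i <;> simp [hw]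
    have hxK : x ∈ K := by
      rw [hK, LinearMap.mem_ker]
      rcases Nat.eq_zero_or_pos n with hn | hn
      · subst hn; exact Subsingleton.elim _ _
      obtain ⟨q, hq⟩ : ∃ q, n = q + 1 := ⟨n - 1, by omega⟩
      have hpow : φ ^ n = φ ^ q * φ := by rw [← pow_succ]; exact congrArg (φ ^ ·) hq
      rw [hpow, Module.End.mul_apply, hφx, map_zero]
    have hx0 : x = 0 := by
      have : x ∈ K ⊓ R := ⟨hxK, hxR⟩
      rwa [hdim, Submodule.mem_bot] at this
    have := congrArg b.equivFun hx0
    rw [hx, LinearEquiv.apply_symm_apply, map_zero] at this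
    exact hw0 (funext fun i => congrFun this (Sum.inr i))
  have ha : 1 ≤ a := by
    obtain ⟨v, hv0, hv⟩ := (Matrix.exists_mulVec_eq_zero_iff).2 hev
    refine Nat.one_le_iff_ne_zero.2 fun h0 => hv0 ?_
    have hφv : φ v = 0 := by
      rw [sub_mulVec, smul_mulVec, one_mulVec] at hv
      simpa [hφ, hf, Matrix.toLin'_apply] using hv
    have hvK : v ∈ K := by
      rw [hK, LinearMap.mem_ker]
      rcases Nat.eq_zero_or_pos n with hn | hn
      · subst hn; exact Subsingleton.elim _ _
      obtain ⟨q, hq⟩ : ∃ q, n = q + 1 := ⟨n - 1, by omega⟩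
      have hpow : φ ^ n = φ ^ q * φ := by rw [← pow_succ]; exact congrArg (φ ^ ·) hq
      rw [hpow, Module.End.mul_apply, hφv, map_zero]
    rw [Submodule.finrank_eq_zero.1 h0, Submodule.mem_bot] at hvK
    exact hvK
  refine ⟨a, m, e, B, ha, hB0, hgeom.of_blocks.2, hsim.trans (Sim.reindex ?_ e)⟩
  exact (sim_jord_of_geom1 hμ hgeom.of_blocks.1 hA0).fromBlocks (Sim.refl B)

/-- `S` is a product of two matrices similar to `B`. -/
def Sq {ι : Type*} [Fintype ι] [DecidableEq ι] (S B : Matrix ι ι F) : Prop :=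
  ∃ L U : Matrix ι ι F, Sim L B ∧ Sim U B ∧ S = L * U

theorem Sq.sim {ι : Type*} [Fintype ι] [DecidableEq ι] {S S' B B' : Matrix ι ι F} (h : Sq S B)
    (hs : Sim S' S) (hB : Sim B B') : Sq S' B' := by
  obtain ⟨L, U, hL, hU, rfl⟩ := h
  obtain ⟨P, Q, hPQ, rfl⟩ := hs
  have hQP : Q * P = 1 := mul_eq_one_comm.1 hPQ
  refine ⟨P * L * Q, P * U * Q, Sim.trans ⟨P, Q, hPQ, rfl⟩ (hL.trans hB),
    Sim.trans ⟨P, Q, hPQ, rfl⟩ (hU.trans hB), ?_⟩
  calc P * (L * U) * Q = P * L * (Q * P) * U * Q := by rw [hQP, Matrix.mul_one]; simp only [Matrix.mul_assoc]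
    _ = _ := by simp only [Matrix.mul_assoc]

theorem Sq.reindex {ι κ : Type*} [Fintype ι] [DecidableEq ι] [Fintype κ] [DecidableEq κ]
    {S B : Matrix ι ι F} (h : Sq S B) (e : ι ≃ κ) : Sq (S.reindex e e) (B.reindex e e) := by
  obtain ⟨L, U, hL, hU, rfl⟩ := h
  refine ⟨L.reindex e e, U.reindex e e, hL.reindex e, hU.reindex e, ?_⟩
  simp only [Matrix.reindex_apply]
  rw [Matrix.submatrix_mul_equiv]

theorem Sq.blocks {ι κ : Type*} [Fintype ι] [DecidableEq ι] [Fintype κ] [DecidableEq κ]
    {S1 P : Matrix ι ι F} {S B : Matrix κ κ F} (h1 : Sq S1 P) (h : Sq S B) (hP : P.det ≠ 0)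
    (hd : Disj P B) (R : Matrix ι κ F) (C : Matrix κ ι F) :
    Sq (fromBlocks S1 (S1 * R) C (C * R + S)) (fromBlocks P 0 0 B) := by
  obtain ⟨L1, U1, hL1, hU1, rfl⟩ := h1
  obtain ⟨L, U, hL, hU, rfl⟩ := h
  have hu : IsUnit U1.det := by rw [hU1.det_eq]; exact isUnit_iff_ne_zero.2 hP
  refine ⟨fromBlocks L1 0 (C * U1⁻¹) L, fromBlocks U1 (U1 * R) 0 U,
    (sim_lower (hd.sim hL1 hL) _).trans (hL1.fromBlocks hL),
    (sim_upper (hd.sim hU1 hU) _).trans (hU1.fromBlocks hU), ?_⟩
  rw [fromBlocks_multiply, Matrix.mul_assoc C, Matrix.nonsing_inv_mul _ hu]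
  simp only [Matrix.zero_mul, Matrix.mul_zero, add_zero, Matrix.mul_one,
    Matrix.mul_assoc C, ← Matrix.mul_assoc U1⁻¹, Matrix.nonsing_inv_mul _ hu, Matrix.one_mul,
    Matrix.mul_assoc L1]

/-- A Jordan block squared covers every non-scalar matrix of the right determinant. -/
theorem sq_jord [Fintype F] (hF : 4 ≤ Fintype.card F) {a : ℕ} {μ : F} (hμ : μ ≠ 0)
    (S : Matrix (Fin a) (Fin a) F) (hdet : S.det = μ ^ (2 * a))
    (hns : 2 ≤ a → ∀ c : F, S ≠ c • 1) : Sq S (μ • jord F a) := by
  classical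
  rcases Nat.lt_or_ge a 2 with ha | ha
  · rcases (show a = 0 ∨ a = 1 by omega) with rfl | rfl
    · exact ⟨μ • jord F 0, μ • jord F 0, Sim.refl _, Sim.refl _, Subsingleton.elim _ _⟩
    · refine ⟨μ • jord F 1, μ • jord F 1, Sim.refl _, Sim.refl _, ?_⟩
      ext i j
      rw [Subsingleton.elim i 0, Subsingleton.elim j 0]
      rw [det_fin_one] at hdet
      have hj : jord F 1 0 0 = 1 := by have := jord_det (F := F) 1; rwa [det_fin_one] at this
      simp [Matrix.mul_apply, hdet, hj, pow_two]
  obtain ⟨γ, -, hγ⟩ := Finset.exists_mem_notMem_of_card_lt_card (s := ({0, 1} : Finset F))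
    (t := Finset.univ) (lt_of_le_of_lt Finset.card_le_two (by rw [Finset.card_univ]; omega))
  simp only [Finset.mem_insert, Finset.mem_singleton, not_or] at hγ
  have hK : 4 ≤ Cardinal.mk F := by rw [Cardinal.mk_fintype]; exact_mod_cast hF
  obtain ⟨L, U, J', hJJ, hL, hU, hS⟩ := splits_jord hK hγ.1 hγ.2 ha ((μ * μ)⁻¹ • S)
    (by rw [det_smul, hdet, Fintype.card_fin, inv_pow, mul_pow, ← pow_add, ← two_mul,
      inv_mul_cancel₀ (pow_ne_zero _ hμ)])
    (fun c hc => hns ha (μ * μ * c) (by
      rw [← smul_smul, ← hc, smul_smul, mul_inv_cancel₀ (mul_ne_zero hμ hμ), one_smul]))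
  have hJ' : J' = (jord F a)⁻¹ := (Matrix.inv_eq_right_inv hJJ).symm
  refine ⟨μ • L, μ • U, sim_scale hL μ, sim_scale (hU.trans (hJ' ▸ jord_inv_sim a)) μ, ?_⟩
  rw [Matrix.smul_mul, Matrix.mul_smul, ← hS, smul_smul, smul_smul, mul_inv_cancel₀ (mul_ne_zero hμ hμ), one_smul]

theorem disj_jord {a m : ℕ} {μ : F} (hμ : μ ≠ 0) {B : Matrix (Fin m) (Fin m) F}
    (hB : (B - μ • 1).det ≠ 0) : Disj (μ • jord F a) B := by
  have hB' : (μ⁻¹ • B - 1).det ≠ 0 := by
    rw [show μ⁻¹ • B - 1 = μ⁻¹ • (B - μ • 1) by rw [smul_sub, smul_smul, inv_mul_cancel₀ hμ, one_smul], det_smul]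
    exact mul_ne_zero (pow_ne_zero _ (inv_ne_zero hμ)) hB
  have h := disj_unipotent (P := μ⁻¹ • B) hB' (jord_nil (F := F) a)
  refine ⟨fun X hX => h.2 X ?_, fun X hX => h.1 X ?_⟩
  · rw [Matrix.smul_mul, hX, Matrix.mul_smul, smul_smul, inv_mul_cancel₀ hμ, one_smul]
  · rw [Matrix.mul_smul, ← hX, Matrix.smul_mul, smul_smul, inv_mul_cancel₀ hμ, one_smul]

/-- Peeling off a block of prescribed determinant, both parts non-scalar. -/
theorem block_peel [Fintype F] (hF : 4 ≤ Fintype.card F) :
    ∀ (a : ℕ), 1 ≤ a → ∀ (m : ℕ), 1 ≤ m → ∀ (δ : F), δ ≠ 0 →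
      ∀ (M : Matrix (Fin a ⊕ Fin m) (Fin a ⊕ Fin m) F), M.det ≠ 0 → (∀ c : F, M ≠ c • 1) →
      ∃ (S1 : Matrix (Fin a) (Fin a) F) (R : Matrix (Fin a) (Fin m) F) (C : Matrix (Fin m) (Fin a) F)
        (S : Matrix (Fin m) (Fin m) F), S1.det = δ ∧ S1.det * S.det = M.det ∧
        (2 ≤ a → ∀ c : F, S1 ≠ c • 1) ∧ (2 ≤ m → ∀ c : F, S ≠ c • 1) ∧
        Sim M (fromBlocks S1 (S1 * R) C (C * R + S)) := by
  classical
  intro a ha
  induction a, ha using Nat.le_induction with
  | base =>
    intro m hm δ hδ M hdet hns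
    set M' := δ⁻¹ • M.reindex finSumFinEquiv finSumFinEquiv with hM'
    have hM'det : M'.det ≠ 0 := by
      rw [hM', det_smul, det_reindex_self]; exact mul_ne_zero (pow_ne_zero _ (inv_ne_zero hδ)) hdet
    obtain ⟨R, C, S, hSd, -, hS, hsim⟩ := ClassSquareGauss.peel_gen M' hM'det (fun c hc => hns (δ * c) (by
      have := congrArg (fun X => (δ • X).submatrix finSumFinEquiv finSumFinEquiv) hc
      simpa [hM', smul_smul, mul_inv_cancel₀ hδ, Matrix.submatrix_smul, Matrix.reindex_apply,
        Matrix.submatrix_submatrix] using this))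
    have hsim1 : Sim M (δ • fromBlocks 1 R C (C * R + S)) := by
      have h := (sim_scale hsim δ).reindex finSumFinEquiv.symm
      simp only [hM', smul_smul, mul_inv_cancel₀ hδ, one_smul, Matrix.reindex_apply,
        Matrix.submatrix_smul, Matrix.submatrix_submatrix, Equiv.symm_symm, Equiv.symm_comp_self,
        Matrix.submatrix_id_id, Pi.smul_apply] at h
      exact h
    have e : δ • fromBlocks 1 R C (C * R + S) =
        fromBlocks (δ • (1 : Matrix (Fin 1) (Fin 1) F)) ((δ • (1 : Matrix (Fin 1) (Fin 1) F)) * R) (δ • C)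
          ((δ • C) * R + δ • S) := by
      rw [fromBlocks_smul, Matrix.smul_mul, Matrix.one_mul, Matrix.smul_mul, smul_add]
    rw [e] at hsim1
    refine ⟨δ • 1, R, δ • C, δ • S, by simp, ?_, fun h => absurd h (by omega), fun h c hc => ?_, hsim1⟩
    · rw [det_smul, det_one, det_smul, hSd, hM', det_smul, det_reindex_self]
      simp only [Fintype.card_fin, mul_one, pow_one]
      rw [← mul_assoc, ← mul_assoc, ← pow_succ', add_comm 1 m, ← mul_pow, mul_inv_cancel₀ hδ, one_pow, one_mul]
    · refine hS h (δ⁻¹ * c) ?_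
      rw [← smul_smul, ← hc, smul_smul, inv_mul_cancel₀ hδ, one_smul]
  | succ a ha ih =>
    intro m hm δ hδ M hdet hns
    -- the first diagonal entry differs from the determinant of the rest of the block
    obtain ⟨δ1, hδ1, hne⟩ : ∃ δ1 : F, δ1 ≠ 0 ∧ (a = 1 → δ1 * δ1 ≠ δ) := by
      by_cases h : (1 : F) * 1 = δ
      · obtain ⟨x, -, hx⟩ := Finset.exists_mem_notMem_of_card_lt_card (s := ({0, 1, -1} : Finset F))
          (t := Finset.univ) (lt_of_le_of_lt Finset.card_le_three (by rw [Finset.card_univ]; omega))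
        simp only [Finset.mem_insert, Finset.mem_singleton, not_or] at hx
        refine ⟨x, hx.1, fun _ h' => ?_⟩
        rw [← h, one_mul] at h'
        exact (mul_self_eq_one_iff.1 h').elim hx.2.1 hx.2.2
      · exact ⟨1, one_ne_zero, fun _ => h⟩
    let g : Fin (a + 1) ⊕ Fin m ≃ Fin (1 + (a + m)) :=
      ((finSumFinEquiv.trans (finCongr (by omega))))
    set M' := δ1⁻¹ • M.reindex g g with hM'
    have hM'det : M'.det ≠ 0 := by
      rw [hM', det_smul, det_reindex_self]; exact mul_ne_zero (pow_ne_zero _ (inv_ne_zero hδ1)) hdet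
    obtain ⟨R, C, S, hSd, -, hS, hsim⟩ := ClassSquareGauss.peel_gen M' hM'det (fun c hc => hns (δ1 * c) (by
      have := congrArg (fun X => (δ1 • X).submatrix g g) hc
      simpa [hM', smul_smul, mul_inv_cancel₀ hδ1, Matrix.submatrix_smul, Matrix.reindex_apply,
        Matrix.submatrix_submatrix] using this))
    set S' := (δ1 • S).reindex finSumFinEquiv.symm finSumFinEquiv.symm with hS'
    have hS'd : S'.det ≠ 0 := by
      rw [hS', det_reindex_self, det_smul, hSd]; exact mul_ne_zero (pow_ne_zero _ hδ1) hM'det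
    obtain ⟨T1, Ri, Ci, T, hT1, hT, hT1ns, hTns, hTsim⟩ := ih m hm (δ * δ1⁻¹) (mul_ne_zero hδ (inv_ne_zero hδ1))
      S' hS'd (fun c hc => hS (by omega) (δ1⁻¹ * c) (by
        have := congrArg (fun X => δ1⁻¹ • X.submatrix finSumFinEquiv.symm finSumFinEquiv.symm) hc
        simpa [hS', smul_smul, inv_mul_cancel₀ hδ1, Matrix.submatrix_smul, Matrix.reindex_apply,
          Matrix.submatrix_submatrix] using this))
    obtain ⟨P, Q, hPQ, hPQs⟩ := hTsim
    have hQP : Q * P = 1 := mul_eq_one_comm.1 hPQ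
    set J := fromBlocks T1 (T1 * Ri) Ci (Ci * Ri + T) with hJ
    -- everything with indices `Fin 1 ⊕ (Fin a ⊕ Fin m)`
    set R' : Matrix (Fin 1) (Fin a ⊕ Fin m) F := R.submatrix id finSumFinEquiv * P with hR'
    set C' : Matrix (Fin a ⊕ Fin m) (Fin 1) F := Q * (δ1 • C).submatrix finSumFinEquiv id with hC'
    set h : Fin 1 ⊕ (Fin a ⊕ Fin m) ≃ Fin (a + 1) ⊕ Fin m :=
      ((Equiv.sumCongr (Equiv.refl _) finSumFinEquiv).trans finSumFinEquiv).trans g.symm
    set N := fromBlocks (δ1 • (1 : Matrix (Fin 1) (Fin 1) F)) (δ1 • R') C' (C' * R' + J) with hN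
    have hMN : Sim M (N.reindex h h) := by
      have h1 : Sim ((δ1 • fromBlocks 1 R C (C * R + S)).reindex
          (Equiv.sumCongr (Equiv.refl _) finSumFinEquiv.symm) (Equiv.sumCongr (Equiv.refl _) finSumFinEquiv.symm)) N := by
        refine ⟨fromBlocks 1 0 0 P, fromBlocks 1 0 0 Q, by simp [fromBlocks_multiply, hPQ], ?_⟩
        rw [hN, fromBlocks_multiply, fromBlocks_multiply]
        simp only [Matrix.one_mul, Matrix.mul_one, Matrix.zero_mul, Matrix.mul_zero, add_zero, zero_add]
        have eR : δ1 • R' * Q = δ1 • R.submatrix id finSumFinEquiv := by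
          rw [hR', Matrix.smul_mul, Matrix.mul_assoc, hPQ, Matrix.mul_one]
        have eC : P * C' = (δ1 • C).submatrix finSumFinEquiv id := by
          rw [hC', ← Matrix.mul_assoc, hPQ, Matrix.one_mul]
        have eS : P * (C' * R' + J) * Q = (δ1 • (C * R + S)).submatrix finSumFinEquiv finSumFinEquiv := by
          rw [Matrix.mul_add, Matrix.add_mul, ← hPQs, ← Matrix.mul_assoc P C', eC, hR', Matrix.mul_assoc,
            Matrix.mul_assoc (R.submatrix id finSumFinEquiv) P Q, hPQ, Matrix.mul_one, hS']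
          ext i j
          simp [Matrix.mul_apply, mul_add, Finset.mul_sum, mul_assoc]
        rw [eR, eC, eS, fromBlocks_smul]
        ext i j
        rcases i with i | i <;> rcases j with j | j <;> simp
      have h2 := (sim_scale hsim δ1).reindex g.symm
      have e2 : (δ1 • M').reindex g.symm g.symm = M := by
        rw [hM', smul_smul, mul_inv_cancel₀ hδ1, one_smul]; ext i j; simp
      rw [e2] at h2
      refine h2.trans ?_
      have h3 := h1.reindex h
      have e3 : ((δ1 • fromBlocks 1 R C (C * R + S)).reindex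
          (Equiv.sumCongr (Equiv.refl _) finSumFinEquiv.symm) (Equiv.sumCongr (Equiv.refl _) finSumFinEquiv.symm)).reindex h h =
          (δ1 • (fromBlocks 1 R C (C * R + S)).reindex finSumFinEquiv finSumFinEquiv).reindex g.symm g.symm := by
        ext i j; simp [h]
      rwa [e3] at h3
    set Ra := R'.submatrix id Sum.inl with hRa
    set Rm := R'.submatrix id Sum.inr with hRm
    set Ca := C'.submatrix Sum.inl id with hCa
    set Cm := C'.submatrix Sum.inr id with hCm
    let k : Fin 1 ⊕ Fin a ≃ Fin (a + 1) := finSumFinEquiv.trans (finCongr (by omega))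
    set Top := fromBlocks (δ1 • (1 : Matrix (Fin 1) (Fin 1) F)) (δ1 • Ra) Ca (Ca * Ra + T1) with hTop
    set X := fromBlocks (Rm - Ra * Ri) (0 : Matrix (Fin 1) (Fin 0) F) Ri (0 : Matrix (Fin a) (Fin 0) F) with hX
    set Xm : Matrix (Fin (a + 1)) (Fin m) F := Matrix.of fun i j => X (k.symm i) (Sum.inl j) with hXm
    set Cb : Matrix (Fin m) (Fin (a + 1)) F := Matrix.of fun i j =>
      Sum.elim (fun p => Cm i p) (fun p => (Cm * Ra + Ci) i p) (k.symm j) with hCb
    refine ⟨Top.reindex k k, Xm, Cb, T, ?_, ?_, ?_, hTns, ?_⟩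
    · rw [det_reindex_self, hTop]
      have hfac : fromBlocks (δ1 • (1 : Matrix (Fin 1) (Fin 1) F)) (δ1 • Ra) Ca (Ca * Ra + T1) =
          fromBlocks (δ1 • (1 : Matrix (Fin 1) (Fin 1) F)) 0 Ca T1 * fromBlocks 1 Ra 0 1 := by
        simp [fromBlocks_multiply]
      rw [hfac, det_mul, det_fromBlocks_zero₁₂, det_fromBlocks_zero₂₁, hT1]
      simp
      field_simp
    · have hfac : fromBlocks (δ1 • (1 : Matrix (Fin 1) (Fin 1) F)) (δ1 • Ra) Ca (Ca * Ra + T1) =
          fromBlocks (δ1 • (1 : Matrix (Fin 1) (Fin 1) F)) 0 Ca T1 * fromBlocks 1 Ra 0 1 := by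
        simp [fromBlocks_multiply]
      rw [det_reindex_self, hTop, hfac, det_mul, det_fromBlocks_zero₁₂, det_fromBlocks_zero₂₁,
        hMN.det_eq, det_reindex_self, hN]
      have hfac2 : fromBlocks (δ1 • (1 : Matrix (Fin 1) (Fin 1) F)) (δ1 • R') C' (C' * R' + J) =
          fromBlocks (δ1 • (1 : Matrix (Fin 1) (Fin 1) F)) 0 C' J * fromBlocks 1 R' 0 1 := by
        simp [fromBlocks_multiply]
      rw [hfac2, det_mul, det_fromBlocks_zero₁₂, det_fromBlocks_zero₂₁]
      have hJd : J.det = T1.det * T.det := by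
        have hS'e : S'.det = J.det := by
          rw [hPQs, det_mul, det_mul, mul_right_comm, ← det_mul, hPQ, det_one, one_mul]
        rw [← hS'e, ← hT]
      rw [hJd]
      simp [mul_assoc]
    · intro _ c hc
      have hc' : Top = c • 1 := by
        have := congrArg (fun Y => Y.submatrix k k) hc
        simpa [Matrix.reindex_apply, Matrix.submatrix_submatrix, Matrix.submatrix_smul] using this
      rw [hTop, ← fromBlocks_one, fromBlocks_smul] at hc'
      obtain ⟨h11, h12, h21, h22⟩ := fromBlocks_inj.1 hc'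
      rw [smul_zero] at h21
      rw [h21, Matrix.zero_mul, zero_add] at h22
      rcases Nat.lt_or_ge a 2 with ha2 | ha2
      · have ha1 : a = 1 := by omega
        subst ha1
        have e1 : δ1 = c := by simpa using congrFun (congrFun h11 0) 0
        rw [h22, ← e1, det_smul, det_one] at hT1
        simp only [Fintype.card_fin, pow_one, mul_one] at hT1
        exact hne rfl ((eq_mul_inv_iff_mul_eq₀ hδ1).1 hT1)
      · exact hT1ns ha2 c h22
    · have e4 : N.reindex h h = fromBlocks (Top.reindex k k) (Top.reindex k k * Xm) Cb (Cb * Xm + T) := by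
        have hXm' : Xm.submatrix k id = fromRows (Rm - Ra * Ri) Ri := by
          ext i j
          rcases i with i | i <;> simp [hXm, hX]
        have hCb' : Cb.submatrix id k = fromCols Cm (Cm * Ra + Ci) := by
          ext i j
          rcases j with j | j <;> simp [hCb]
        have hprod : (Top.reindex k k * Xm).submatrix k id =
            fromRows (δ1 • Rm) (Ca * Rm + T1 * Ri) := by
          rw [Matrix.reindex_apply, ← Matrix.submatrix_mul_equiv _ _ k k id] at *
          simp only [Matrix.submatrix_submatrix, Equiv.symm_comp_self, Matrix.submatrix_id_id, hXm', hTop]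
          rw [fromBlocks_mul_fromRows]
          congr 1
          · simp [Matrix.mul_sub]
          · rw [Matrix.mul_sub, Matrix.add_mul, ← Matrix.mul_assoc]; abel
        have hlow : Cb * Xm = Cm * Rm + Ci * Ri := by
          rw [← Matrix.submatrix_id_id (Cb * Xm), ← Matrix.submatrix_mul_equiv _ _ id k id, hXm', hCb',
            fromCols_mul_fromRows, Matrix.mul_sub, Matrix.add_mul, ← Matrix.mul_assoc]
          abel
        have hs1 : ∀ p, h.symm (Sum.inl (k (Sum.inl p))) = Sum.inl p := fun p => by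
          rw [Equiv.symm_apply_eq]; apply g.injective; ext; simp [h, g, k]
        have hs2 : ∀ p, h.symm (Sum.inl (k (Sum.inr p))) = Sum.inr (Sum.inl p) := fun p => by
          rw [Equiv.symm_apply_eq]; apply g.injective; ext; simp [h, g, k]; omega
        have hs3 : ∀ p, h.symm (Sum.inr p) = Sum.inr (Sum.inr p) := fun p => by
          rw [Equiv.symm_apply_eq]; apply g.injective; ext; simp [h, g]; omega
        ext i j
        rw [Matrix.reindex_apply, Matrix.submatrix_apply]
        rcases i with i | i <;> rcases j with j | j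
        · obtain ⟨p, rfl⟩ := k.surjective i
          obtain ⟨r, rfl⟩ := k.surjective j
          simp only [fromBlocks_apply₁₁, Matrix.reindex_apply, Matrix.submatrix_apply, Equiv.symm_apply_apply]
          rcases p with p | p <;> rcases r with r | r <;>
            simp [hs1, hs2, hN, hTop, hJ, hRa, hCa, Matrix.mul_apply]
        · obtain ⟨p, rfl⟩ := k.surjective i
          have := congrFun (congrFun hprod p) j
          simp only [Matrix.submatrix_apply, id] at this
          simp only [fromBlocks_apply₁₂, this]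
          rcases p with p | p <;> simp [hs1, hs2, hs3, hN, hJ, hRm, hCa, Matrix.mul_apply]
        · obtain ⟨r, rfl⟩ := k.surjective j
          simp only [fromBlocks_apply₂₁, hCb, Matrix.of_apply, Equiv.symm_apply_apply]
          rcases r with r | r <;> simp [hs1, hs2, hs3, hN, hJ, hRa, hCm, Matrix.mul_apply]
        · simp only [fromBlocks_apply₂₂, hlow]
          simp [hs3, hN, hJ, hRm, hCm, Matrix.mul_apply, add_assoc]
      rw [← e4]
      exact hMN

/-- The main statement. -/
theorem sq_geom1 [Fintype F] (hF : 4 ≤ Fintype.card F) :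
    ∀ (n : ℕ) (D : Matrix (Fin n) (Fin n) F), Geom1 D → D.charpoly.Splits → D.det ≠ 0 →
      ∀ B : Matrix (Fin n) (Fin n) F, B.det = D.det ^ 2 → (2 ≤ n → ∀ c : F, B ≠ c • 1) → Sq B D := by
  classical
  intro n
  induction n using Nat.strong_induction_on with
  | _ n ih =>
    intro D hg hsp hD B hB hns
    rcases Nat.eq_zero_or_pos n with rfl | hn
    · exact ⟨D, D, Sim.refl _, Sim.refl _, Subsingleton.elim _ _⟩
    obtain ⟨μ, hroot⟩ := hsp.exists_eval_eq_zero (by
      rw [Matrix.charpoly_degree_eq_dim, Fintype.card_fin]; exact_mod_cast hn.ne')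
    have hev : (D - μ • 1).det = 0 := by
      rw [Matrix.eval_charpoly] at hroot
      rw [← neg_sub, det_neg, show μ • (1 : Matrix (Fin n) (Fin n) F) = Matrix.scalar (Fin n) μ by
        rw [smul_one_eq_diagonal]; rfl, hroot, mul_zero]
    have hμ : μ ≠ 0 := by
      rintro rfl
      exact hD (by simpa using hev)
    obtain ⟨a, m, e, B', ha, hB', hgB, hsim⟩ := exists_eigen_block hg hμ hev
    have hnam : a + m = n := by simpa using Fintype.card_congr e
    have hD2 : D.det = μ ^ a * B'.det := by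
      rw [hsim.det_eq, det_reindex_self, det_fromBlocks_zero₂₁, det_smul, jord_det, Fintype.card_fin, mul_one]
    set M := B.reindex e.symm e.symm with hM
    rcases Nat.eq_zero_or_pos m with rfl | hm
    · let k : Fin a ≃ Fin a ⊕ Fin 0 := (Equiv.sumEmpty (Fin a) (Fin 0)).symm
      have hJ : fromBlocks (μ • jord F a) 0 0 B' = (μ • jord F a).reindex k k := by
        ext i j
        rcases i with i | i
        · rcases j with j | j
          · simp [k]
          · exact j.elim0
        · exact i.elim0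
      have h1 := sq_jord hF hμ (M.reindex k.symm k.symm)
        (by rw [det_reindex_self, hM, det_reindex_self, hB, hD2, Matrix.det_fin_zero, mul_one, ← pow_mul,
          mul_comm]) (fun h2 c hc => hns (by omega) c (by
          have := congrArg (fun X => (X.reindex k k).reindex e e) hc
          simpa [hM, Matrix.reindex_apply, Matrix.submatrix_submatrix, Matrix.submatrix_smul,
            Function.comp_def, show (fun x : Fin n => x) = id from rfl, Matrix.submatrix_id_id] using this))
      have h2 := ((h1.reindex k).reindex e)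
      rw [← hJ] at h2
      have e3 : ((M.reindex k.symm k.symm).reindex k k).reindex e e = B := by
        ext i j; simp [hM]
      rw [e3] at h2
      exact h2.sim (Sim.refl _) hsim.symm
    · have hMd : M.det ≠ 0 := by rw [hM, det_reindex_self, hB]; exact pow_ne_zero _ hD
      obtain ⟨S1, R, C, S, hS1, hSd, hS1ns, hSns, hMsim⟩ := block_peel hF a ha m hm (μ ^ (2 * a))
        (pow_ne_zero _ hμ) M hMd (fun c hc => hns (by omega) c (by
          have := congrArg (fun X => X.reindex e e) hc
          simpa [hM, Matrix.reindex_apply, Matrix.submatrix_submatrix, Matrix.submatrix_smul] using this))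
      have hSdet : S.det = B'.det ^ 2 := by
        have h := hSd
        rw [hS1, hM, det_reindex_self, hB, hD2, mul_pow, ← pow_mul, mul_comm a 2] at h
        exact mul_left_cancel₀ (pow_ne_zero _ hμ) h
      have hB'0 : B'.det ≠ 0 := fun h0 => hD (by rw [hD2, h0, mul_zero])
      have hspB : B'.charpoly.Splits := by
        have h1 : D.charpoly = (μ • jord F a).charpoly * B'.charpoly := by
          rw [Sim.charpoly_eq hsim, Matrix.charpoly_reindex, Matrix.charpoly_fromBlocks_zero₂₁]
        exact hsp.of_dvd (Matrix.charpoly_monic D).ne_zero (h1 ▸ dvd_mul_left _ _)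
      have hSq := ih m (by omega) B' hgB hspB hB'0 S hSdet (fun h => hSns h)
      have h1 := ((sq_jord hF hμ S1 hS1 hS1ns).blocks hSq (by
        rw [det_smul, jord_det, mul_one]; exact pow_ne_zero _ hμ) (disj_jord hμ hB') R C).reindex e
      have hBsim : Sim B ((fromBlocks S1 (S1 * R) C (C * R + S)).reindex e e) := by
        have := hMsim.reindex e
        rwa [show M.reindex e e = B by ext i j; simp [hM]] at this
      exact h1.sim hBsim hsim.symm

end Cfsg.Agent.CoverPSL
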