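import Cfsg.Agent.Lib.CoverPSL.Plane
import Cfsg.Agent.Lib.CoverPSL.SplitPair

/-!
# A plane of eigenvectors
-/

set_option autoImplicit false

namespace Cfsg.Agent.CoverPSL

open Matrix Cfsg.Agent.Classical.Thompson

variable {F : Type*} [Field F] {m : ℕ}

/-- The quotient by a plane of eigenvectors, and the ranks there. -/
theorem exists_plane (hn : 3 ≤ 2 + m) {A : Matrix (Fin (2 + m)) (Fin (2 + m)) F} {k : F}
    {v₀ v₁ : Fin (2 + m) → F} (h : LinearIndependent F ![v₀, v₁]) (h₀ : A *ᵥ v₀ = k • v₀)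
    (h₁ : A *ᵥ v₁ = k • v₁) :
    ∃ (a : Matrix (Fin 2) (Fin m) F) (A' : Matrix (Fin m) (Fin m) F),
      SimD 1 A ((blk k a A').reindex finSumFinEquiv finSumFinEquiv) ∧
      (∀ c : F, (A - c • 1).rank ≤ (A' - c • 1).rank + 2) ∧
      (v₀ ∉ LinearMap.range (A - k • 1).mulVecLin → (A - k • 1).rank ≤ (A' - k • 1).rank + 1) := by
  classical
  set e := finSumFinEquiv (m := 2) (n := m) with he
  let e0 : Fin (2 + m) → F := Pi.single (e (Sum.inl 0)) 1
  let e1 : Fin (2 + m) → F := Pi.single (e (Sum.inl 1)) 1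
  have hee : LinearIndependent F ![e0, e1] := pair_indep (by simp [e0]) fun t' ht => by
    simpa [e0, e1, e.injective.eq_iff] using congrFun ht (e (Sum.inl 1))
  obtain ⟨P, hP, hP0, hP1⟩ := exists_pair_map hn hee h
  have hu : IsUnit P.det := by rw [hP]; exact isUnit_one
  set M := P⁻¹ * A * P with hM
  have hMP : A * P = P * M := by
    rw [hM, ← Matrix.mul_assoc, ← Matrix.mul_assoc, mul_nonsing_inv _ hu, Matrix.one_mul]
  have hMe : ∀ x y, P *ᵥ x = y → A *ᵥ y = k • y → M *ᵥ x = k • x := fun x y hxy hy => by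
    rw [hM, ← mulVec_mulVec, hxy, ← mulVec_mulVec, hy, mulVec_smul, ← hxy, mulVec_mulVec,
      nonsing_inv_mul _ hu, one_mulVec]
  have hM0 := hMe e0 _ hP0 h₀
  have hM1 := hMe e1 _ hP1 h₁
  set Ms := M.reindex e.symm e.symm with hMs
  have hblk : Ms = blk k Ms.toBlocks₁₂ Ms.toBlocks₂₂ := by
    have hcol : ∀ i (j : Fin 2), Ms i (Sum.inl j) = (k • (Pi.single (e (Sum.inl j)) 1 : Fin (2 + m) → F)) (e i) := by
      intro i j
      have hj : M *ᵥ Pi.single (e (Sum.inl j)) 1 = k • Pi.single (e (Sum.inl j)) 1 := by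
        fin_cases j
        exacts [hM0, hM1]
      rw [← hj]; simp [Ms]
    ext (i | i) (j | j)
    · rw [hcol]; simp [blk, Pi.single_apply, Matrix.one_apply, e.injective.eq_iff]
    · rfl
    · rw [hcol]; simp [blk, e.injective.eq_iff]
    · rfl
  set A' := Ms.toBlocks₂₂ with hA'
  have hMblk : M = (blk k Ms.toBlocks₁₂ A').reindex e e := by rw [← hblk, hMs]; ext i j; simp
  refine ⟨Ms.toBlocks₁₂, A', ⟨P, hP, by rw [hMP, hMblk]⟩, ?_⟩
  -- the projection
  let π : (Fin (2 + m) → F) →ₗ[F] (Fin m → F) :=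
    (LinearMap.funLeft F F fun i => e (Sum.inr i)).comp P⁻¹.mulVecLin
  have hπ : ∀ (c : F) x, π ((A - c • 1) *ᵥ x) = (A' - c • 1) *ᵥ π x := by
    intro c x
    have h1 : P⁻¹ *ᵥ ((A - c • 1) *ᵥ x) = (M - c • 1) *ᵥ (P⁻¹ *ᵥ x) := by
      rw [mulVec_mulVec, mulVec_mulVec]
      congr 1
      rw [hM, Matrix.mul_sub, Matrix.sub_mul, Matrix.mul_assoc (P⁻¹ * A), mul_nonsing_inv _ hu]
      simp
    funext i
    show (P⁻¹ *ᵥ ((A - c • 1) *ᵥ x)) (e (Sum.inr i)) = _
    rw [h1]
    have hMr : ∀ (y : Fin (2 + m) → F) (i : Fin m),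
        (M *ᵥ y) (e (Sum.inr i)) = (A' *ᵥ fun j => y (e (Sum.inr j))) i := by
      intro y i
      rw [hMblk]
      simp only [mulVec, dotProduct, ← e.sum_comp, Fintype.sum_sum_type]
      simp [blk]
    simp only [sub_mulVec, smul_mulVec, Pi.sub_apply, Pi.smul_apply, one_mulVec, hMr]
    rfl
  have hker : LinearMap.ker π ≤ Submodule.span F (Set.range ![v₀, v₁]) := by
    intro x hx
    set y := P⁻¹ *ᵥ x with hy
    have hyr : ∀ i, y (e (Sum.inr i)) = 0 := fun i => congrFun (LinearMap.mem_ker.1 hx) i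
    have hyd : y = y (e (Sum.inl 0)) • e0 + y (e (Sum.inl 1)) • e1 := by
      funext i
      obtain ⟨i, rfl⟩ := e.surjective i
      rcases i with i | i
      · fin_cases i <;> simp [e0, e1, e.injective.eq_iff]
      · simp [hyr i, e0, e1, e.injective.eq_iff]
    have hx' : x = P *ᵥ y := by rw [hy, mulVec_mulVec, mul_nonsing_inv _ hu, one_mulVec]
    rw [hx', hyd, mulVec_add, mulVec_smul, mulVec_smul, hP0, hP1]
    exact add_mem (Submodule.smul_mem _ _ (pair_mem v₀ v₁).1) (Submodule.smul_mem _ _ (pair_mem v₀ v₁).2)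
  have hker2 : Module.finrank F (LinearMap.ker π) ≤ 2 :=
    (Submodule.finrank_mono hker).trans_eq (by rw [finrank_span_eq_card h, Fintype.card_fin])
  have bound : ∀ c : F, (A - c • 1).rank ≤ (A' - c • 1).rank +
      Module.finrank F ↥(LinearMap.range (A - c • 1).mulVecLin ⊓ LinearMap.ker π) := by
    intro c
    set R := LinearMap.range (A - c • 1).mulVecLin with hR
    have h1 := LinearMap.finrank_range_add_finrank_ker (π.domRestrict R)
    have h2 : LinearMap.range (π.domRestrict R) ≤ LinearMap.range (A' - c • 1).mulVecLin := by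
      rintro _ ⟨⟨_, x, rfl⟩, rfl⟩
      exact ⟨π x, (hπ c x).symm⟩
    have h3 : Module.finrank F (LinearMap.ker (π.domRestrict R)) = Module.finrank F ↥(R ⊓ LinearMap.ker π) := by
      rw [LinearMap.ker_domRestrict, ← Submodule.finrank_map_subtype_eq, Submodule.map_comap_subtype]
    have h4 := Submodule.finrank_mono h2
    have h5 : (A - c • 1).rank = Module.finrank F R := rfl
    have h6 : (A' - c • 1).rank = Module.finrank F (LinearMap.range (A' - c • 1).mulVecLin) := rfl
    rw [h5, h6, ← h3]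
    omega
  refine ⟨fun c => (bound c).trans (Nat.add_le_add_left ((Submodule.finrank_mono inf_le_right).trans hker2) _),
    fun hv => (bound k).trans (Nat.add_le_add_left ?_ _)⟩
  have hv0 : v₀ ∈ LinearMap.ker π := by
    rw [LinearMap.mem_ker, ← hP0]
    funext i
    show (P⁻¹ *ᵥ (P *ᵥ e0)) (e (Sum.inr i)) = 0
    rw [mulVec_mulVec, nonsing_inv_mul _ hu, one_mulVec]
    simp [e0, e.injective.eq_iff]
  have hlt := Submodule.finrank_lt_finrank_of_lt (lt_of_le_of_ne
    (inf_le_right : LinearMap.range (A - k • 1).mulVecLin ⊓ LinearMap.ker π ≤ LinearMap.ker π)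
    fun heq => hv (heq.ge hv0).1)
  omega

end Cfsg.Agent.CoverPSL
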