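import Cfsg.Agent.Lib.CoverPSL.NoFix
import Cfsg.Agent.Lib.ClassSquareGauss.Moves
import Cfsg.Agent.Lib.Classical.RankOne
import Cfsg.Agent.Lib.Classical.TransvectionGL

/-!
# Classes of scalar multiples of reflections and transvections

If `A` is a scalar multiple of `1 + u ψ`, every non-scalar matrix of the right determinant is a
product of `n` conjugates of `A`, and so is some scalar matrix.
-/

set_option autoImplicit false

namespace Cfsg.Agent.CoverPSL

open Matrix Cfsg.Agent.Classical.Thompson Cfsg.Agent.ClassSquareGauss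

variable {F : Type*} [Field F] {ι κ : Type*} [Fintype ι] [DecidableEq ι] [Fintype κ] [DecidableEq κ]

/-- the factor `1 + u ψ` -/
def el (p : (ι → F) × (ι → F)) : Matrix ι ι F := 1 + vecMulVec p.1 p.2

/-- the covectors of a list of factors, moved to the right, have no common zero other than zero -/
def Ann : List ((ι → F) × (ι → F)) → (ι → F) → Prop
  | [], _ => True
  | p :: l, z => p.2 ⬝ᵥ ((l.map el).prod *ᵥ z) = 0 ∧ Ann l z

theorem el_det (p : (ι → F) × (ι → F)) : (el p).det = 1 + p.2 ⬝ᵥ p.1 := det_rank_one p.1 p.2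

theorem el_mulVec (p : (ι → F) × (ι → F)) (x : ι → F) : el p *ᵥ x = x + (p.2 ⬝ᵥ x) • p.1 :=
  one_add_rank_one_mulVec p.1 p.2 x

/-- transport of a factor along a bijection of the index types -/
def move (e : ι ≃ κ) (p : (ι → F) × (ι → F)) : (κ → F) × (κ → F) := (p.1 ∘ e.symm, p.2 ∘ e.symm)

theorem el_move (e : ι ≃ κ) (p : (ι → F) × (ι → F)) : el (move e p) = (el p).reindex e e := by
  ext i j
  simp [el, move, vecMulVec_apply, Matrix.one_apply]

theorem prod_reindex (e : ι ≃ κ) (l : List (Matrix ι ι F)) :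
    (l.map fun M => M.reindex e e).prod = l.prod.reindex e e := by
  induction l with
  | nil => ext i j; simp [Matrix.one_apply]
  | cons M l ih =>
    rw [List.map_cons, List.prod_cons, ih, List.prod_cons]
    simp [submatrix_mul_equiv]

theorem prod_move (e : ι ≃ κ) (l : List ((ι → F) × (ι → F))) :
    ((l.map (move e)).map el).prod = (l.map el).prod.reindex e e := by
  rw [← prod_reindex e (l.map el)]
  simp [List.map_map, Function.comp_def, el_move]

theorem ann_move (e : ι ≃ κ) : ∀ (l : List ((ι → F) × (ι → F))) (z : κ → F),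
    Ann (l.map (move e)) z → Ann l (z ∘ e)
  | [], _, _ => trivial
  | p :: l, z, h => by
    obtain ⟨h1, h2⟩ := h
    refine ⟨?_, ann_move e l z h2⟩
    rw [prod_move, reindex_apply, submatrix_mulVec_equiv, Equiv.symm_symm] at h1
    rw [← h1]
    simp only [move, dotProduct]
    exact (Equiv.sum_comp e.symm fun i => p.2 i * ((l.map el).prod *ᵥ (z ∘ e)) i).symm

/-- a lifted factor -/
def liftEl {m : ℕ} (t : F) (p : (Fin m → F) × (Fin m → F)) :
    (Fin 1 ⊕ Fin m → F) × (Fin 1 ⊕ Fin m → F) :=
  (Sum.elim (fun _ => t) p.1, Sum.elim (fun _ => 0) p.2)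

theorem el_liftEl {m : ℕ} (t : F) (p : (Fin m → F) × (Fin m → F)) :
    el (liftEl t p) = fromBlocks 1 (Matrix.of fun _ j => t * p.2 j) 0 (el p) := by
  ext (i | i) (j | j) <;> simp [el, liftEl, vecMulVec_apply, Matrix.one_apply]

/-- the rows that can be absorbed -/
def rows {m : ℕ} : List ((Fin m → F) × (Fin m → F)) → Submodule F (Fin m → F)
  | [] => ⊥
  | p :: l => Submodule.span F {p.2 ᵥ* (l.map el).prod} ⊔ rows l

theorem ann_of_orth {m : ℕ} {z : Fin m → F} : ∀ (l : List ((Fin m → F) × (Fin m → F))),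
    (∀ x ∈ rows l, x ⬝ᵥ z = 0) → Ann l z
  | [], _ => trivial
  | p :: l, h => by
    refine ⟨?_, ann_of_orth l fun x hx => h x (Submodule.mem_sup_right hx)⟩
    rw [dotProduct_mulVec]
    exact h _ (Submodule.mem_sup_left (Submodule.mem_span_singleton_self _))

theorem rows_eq_top {m : ℕ} {l : List ((Fin m → F) × (Fin m → F))}
    (hl : ∀ z, Ann l z → z = 0) : rows l = ⊤ := by
  by_contra hne
  obtain ⟨f, hf0, hf⟩ := Submodule.exists_le_ker_of_lt_top _ (lt_of_le_of_ne le_top hne)
  let z : Fin m → F := (dotProductEquiv F (Fin m)).symm f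
  have hz : ∀ x, x ⬝ᵥ z = f x := fun x => by
    rw [dotProduct_comm]
    exact LinearMap.congr_fun ((dotProductEquiv F (Fin m)).apply_symm_apply f) x
  have h0 : z = 0 := hl z (ann_of_orth l fun x hx => by rw [hz]; exact hf hx)
  exact hf0 (by simpa [z] using h0)

theorem exists_rows {m : ℕ} : ∀ (l : List ((Fin m → F) × (Fin m → F))) (a : Fin m → F), a ∈ rows l →
    ∃ l' : List ((Fin 1 ⊕ Fin m → F) × (Fin 1 ⊕ Fin m → F)),
      List.Forall₂ (fun p' p => ∃ t : F, p' = liftEl t p) l' l ∧
      (l'.map el).prod = fromBlocks 1 (Matrix.of fun _ j => a j) 0 (l.map el).prod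
  | [], a, ha => by
    obtain rfl : a = 0 := by simpa [rows] using ha
    exact ⟨[], List.Forall₂.nil, by ext (i | i) (j | j) <;> simp [Matrix.one_apply]⟩
  | p :: l, a, ha => by
    obtain ⟨x, hx, a', ha', rfl⟩ := Submodule.mem_sup.1 ha
    obtain ⟨t, rfl⟩ := Submodule.mem_span_singleton.1 hx
    obtain ⟨l', hf, hp⟩ := exists_rows l a' ha'
    refine ⟨liftEl t p :: l', List.Forall₂.cons ⟨t, rfl⟩ hf, ?_⟩
    rw [List.map_cons, List.prod_cons, hp, el_liftEl, fromBlocks_multiply, List.map_cons, List.prod_cons]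
    simp only [Matrix.zero_mul, Matrix.mul_zero, add_zero, zero_add, Matrix.one_mul]
    refine congrArg (fun R => fromBlocks (1 : Matrix (Fin 1) (Fin 1) F) R 0
      (el p * (l.map el).prod)) ?_
    ext i j
    simp [Matrix.mul_apply, vecMul, dotProduct, Finset.mul_sum, mul_assoc, add_comm]

theorem ann_lift {m : ℕ} {z : Fin 1 ⊕ Fin m → F} :
    ∀ {l' : List ((Fin 1 ⊕ Fin m → F) × (Fin 1 ⊕ Fin m → F))} {l : List ((Fin m → F) × (Fin m → F))},
      List.Forall₂ (fun p' p => ∃ t : F, p' = liftEl t p) l' l →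
      (∀ x : Fin 1 ⊕ Fin m → F, ((l'.map el).prod *ᵥ x) ∘ Sum.inr = (l.map el).prod *ᵥ (x ∘ Sum.inr)) ∧
      (Ann l' z → Ann l (z ∘ Sum.inr)) := by
  intro l' l h
  induction h with
  | nil => exact ⟨fun x => by simp, fun _ => trivial⟩
  | cons hp _ ih =>
    obtain ⟨t, rfl⟩ := hp
    refine ⟨fun x => ?_, fun hz => ⟨?_, ih.2 hz.2⟩⟩
    · rename_i p l₁ l₂ _
      rw [List.map_cons, List.prod_cons, ← mulVec_mulVec, List.map_cons, List.prod_cons, ← mulVec_mulVec]
      funext i
      rw [← ih.1 x, Function.comp_apply, el_mulVec, el_mulVec]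
      simp [liftEl, dotProduct, Fintype.sum_sum_type]
    · rw [← ih.1 z]
      have h1 := hz.1
      simpa [liftEl, dotProduct, Fintype.sum_sum_type] using h1

/-- The core factorisation. -/
theorem exists_factors {d : F} (hd : d ≠ 0) : ∀ (m : ℕ) (g : Matrix (Fin (1 + m)) (Fin (1 + m)) F),
    g.det = d ^ (1 + m) → (1 ≤ m → ∀ a : F, g ≠ a • 1) →
    ∃ l : List ((Fin (1 + m) → F) × (Fin (1 + m) → F)), l.length = 1 + m ∧
      (∀ p ∈ l, p.2 ⬝ᵥ p.1 = d - 1) ∧ (∀ p ∈ l.dropLast, p.1 ≠ 0) ∧ (∀ z, Ann l z → z = 0) ∧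
      Sim g (l.map el).prod
  | 0, g, hg, _ => by
    refine ⟨[(fun _ => d - 1, fun _ => 1)], rfl, ?_, by simp, fun z hz => ?_, ?_⟩
    · intro p hp
      rw [List.mem_singleton.1 hp]
      simp [dotProduct]
    · obtain ⟨h, -⟩ := hz
      funext i
      rw [show i = 0 from Fin.ext (by omega)]
      simpa [dotProduct] using h
    · convert Sim.refl g
      ext i j
      rw [show i = 0 from Fin.ext (by omega), show j = 0 from Fin.ext (by omega)]
      rw [show g.det = g 0 0 from det_fin_one g, pow_one] at hg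
      simp [el, vecMulVec_apply, Matrix.one_apply, hg]
  | m + 1, g, hg, hns => by
    classical
    obtain ⟨R, C, S, hS, hC, hSns, hsim⟩ := peel_gen (m := m + 1) (d⁻¹ • g)
      (by rw [det_smul, hg]; exact mul_ne_zero (pow_ne_zero _ (inv_ne_zero hd)) (pow_ne_zero _ hd))
      (fun a ha => hns (by omega) (d * a) (by rw [← smul_smul, ← ha, smul_smul, mul_inv_cancel₀ hd, one_smul]))
    let e₀ : Fin (m + 1) ≃ Fin (1 + m) := finCongr (by omega)
    have hS' : ((d • S).reindex e₀ e₀).det = d ^ (1 + m) := by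
      rw [det_reindex_self, det_smul, hS, det_smul, hg, Fintype.card_fin, Fintype.card_fin, inv_pow,
        inv_mul_cancel₀ (pow_ne_zero _ hd), mul_one, add_comm m 1]
    obtain ⟨l₀, hlen, hdot, hne, hann, hsim'⟩ := exists_factors hd m _ hS' (fun hm a ha => hSns (by omega) (d⁻¹ * a) (by
      have h : d • S = a • 1 := by
        ext i j
        have := congrFun (congrFun ha (e₀ i)) (e₀ j)
        simpa [Matrix.one_apply] using this
      rw [← smul_smul, ← h, smul_smul, inv_mul_cancel₀ hd, one_smul]))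
    let l : List ((Fin (m + 1) → F) × (Fin (m + 1) → F)) := l₀.map (move e₀.symm)
    have hannl : ∀ z, Ann l z → z = 0 := fun z hz => by
      have h := hann _ (ann_move e₀.symm l₀ z hz)
      funext i
      simpa using congrFun h (e₀ i)
    obtain ⟨P, Q, hPQ, hP⟩ : Sim (d • S) (l.map el).prod := by
      have h := hsim'.reindex e₀.symm
      rw [← prod_move] at h
      simpa [l] using h
    have hQP : Q * P = 1 := mul_eq_one_comm.1 hPQ
    -- conjugate the bottom block
    have hg1 : Sim g ((fromBlocks (d • (1 : Matrix (Fin 1) (Fin 1) F)) (d • (R * P)) (d • (Q * C))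
        (d • (Q * C * (R * P)) + (l.map el).prod)).reindex finSumFinEquiv finSumFinEquiv) := by
      have h1 := sim_smul hsim d
      rw [smul_smul, mul_inv_cancel₀ hd, one_smul] at h1
      refine h1.trans ?_
      rw [show d • (fromBlocks 1 R C (C * R + S)).reindex finSumFinEquiv finSumFinEquiv =
        (fromBlocks (d • 1) (d • R) (d • C) (d • (C * R) + d • S)).reindex finSumFinEquiv finSumFinEquiv by
          rw [← smul_add, ← fromBlocks_smul]; rfl]
      refine Sim.reindex ⟨fromBlocks 1 0 0 P, fromBlocks 1 0 0 Q, by simp [fromBlocks_multiply, hPQ], ?_⟩ _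
      simp only [fromBlocks_multiply, Matrix.zero_mul, Matrix.mul_zero, add_zero, zero_add,
        Matrix.one_mul, Matrix.mul_one, Matrix.smul_mul, Matrix.mul_smul, Matrix.mul_add, Matrix.add_mul]
      congr 1 <;> simp only [smul_zero, add_zero, zero_add]
      · rw [Matrix.mul_assoc R, hPQ, Matrix.mul_one]
      · rw [← Matrix.mul_assoc P, hPQ, Matrix.one_mul]
      · rw [hP]
        congr 2
        simp only [← Matrix.mul_assoc]
        rw [hPQ, Matrix.one_mul, Matrix.mul_assoc _ P Q, hPQ, Matrix.mul_one]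
    obtain ⟨l', hl', hl'p⟩ := exists_rows l ((R * P) 0) (by rw [rows_eq_top hannl]; trivial)
    let top : (Fin 1 ⊕ Fin (m + 1) → F) × (Fin 1 ⊕ Fin (m + 1) → F) :=
      (Sum.elim (fun _ => d - 1) (fun i => d * (Q * C) i 0), Sum.elim (fun _ => 1) (fun _ => 0))
    have htop : el top = fromBlocks (d • 1) 0 (d • (Q * C)) 1 := by
      ext (i | i) (j | j) <;>
        simp [el, top, vecMulVec_apply, Matrix.one_apply, Fin.fin_one_eq_zero]
    refine ⟨(top :: l').map (move finSumFinEquiv), ?_, ?_, ?_, ?_, ?_⟩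
    · rw [List.length_map, List.length_cons, hl'.length_eq, List.length_map, hlen]; omega
    · intro p hp
      obtain ⟨p₁, hp₁, rfl⟩ := List.mem_map.1 hp
      have hmove : (move finSumFinEquiv p₁).2 ⬝ᵥ (move finSumFinEquiv p₁).1 = p₁.2 ⬝ᵥ p₁.1 := by
        simp only [move, dotProduct]
        exact Equiv.sum_comp finSumFinEquiv.symm fun i => p₁.2 i * p₁.1 i
      rw [hmove]
      rcases List.mem_cons.1 hp₁ with rfl | hp₁
      · simp [top, dotProduct, Fintype.sum_sum_type]
      · obtain ⟨i, hi, rfl⟩ := List.getElem_of_mem hp₁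
        obtain ⟨t, ht⟩ := (List.forall₂_iff_get.1 hl').2 i hi (hl'.length_eq ▸ hi)
        rw [show l'[i] = _ from ht]
        have h2 : ∀ q ∈ l, q.2 ⬝ᵥ q.1 = d - 1 := by
          intro q hq
          obtain ⟨q₁, hq₁, rfl⟩ := List.mem_map.1 hq
          rw [← hdot q₁ hq₁]
          simp only [move, dotProduct]
          exact Equiv.sum_comp e₀.symm.symm fun i => q₁.2 i * q₁.1 i
        rw [← h2 _ (List.get_mem l ⟨i, hl'.length_eq ▸ hi⟩)]
        simp [liftEl, dotProduct, Fintype.sum_sum_type]
    · have hlne : l'.length ≠ 0 := by rw [hl'.length_eq, List.length_map, hlen]; omega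
      intro p hp
      rw [← List.map_dropLast, List.dropLast_cons_of_ne_nil (fun h => hlne (by rw [h]; rfl))] at hp
      obtain ⟨p₁, hp₁, rfl⟩ := List.mem_map.1 hp
      intro h0
      have h0' : p₁.1 = 0 := by
        funext i
        simpa [move] using congrFun h0 (finSumFinEquiv i)
      rcases List.mem_cons.1 hp₁ with rfl | hp₁
      · refine hC ?_
        have hQC : Q * C = 0 := by
          ext i j
          rw [Subsingleton.elim j 0]
          have := congrFun h0' (Sum.inr i)
          simpa [top, hd] using this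
        rw [← Matrix.one_mul C, ← hPQ, Matrix.mul_assoc, hQC, Matrix.mul_zero]
      · obtain ⟨i, hi, rfl⟩ := List.getElem_of_mem hp₁
        have hi' : i < l'.length := by rw [List.length_dropLast] at hi; omega
        obtain ⟨t, ht⟩ := (List.forall₂_iff_get.1 hl').2 i hi' (hl'.length_eq ▸ hi')
        have hil : i < l₀.dropLast.length := by
          rw [List.length_dropLast] at hi ⊢
          rw [hl'.length_eq, List.length_map] at hi
          exact hi
        refine hne _ (List.getElem_mem hil) ?_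
        funext j
        have h1 : l'.dropLast[i] = liftEl t (l.get ⟨i, hl'.length_eq ▸ hi'⟩) := by
          rw [List.getElem_dropLast]; exact ht
        rw [h1] at h0'
        have := congrFun h0' (Sum.inr (e₀.symm j))
        simpa [liftEl, l, move, List.getElem_dropLast] using this
    · intro z hz
      obtain ⟨h1, h2⟩ := ann_move finSumFinEquiv (top :: l') z hz
      have h3 := hannl _ ((ann_lift hl').2 h2)
      have h4 : z (finSumFinEquiv (Sum.inl 0)) = 0 := by
        have hinr : ∀ j, z (finSumFinEquiv (Sum.inr j)) = 0 := fun j => congrFun h3 j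
        rw [hl'p] at h1
        simpa [top, dotProduct, Fintype.sum_sum_type, fromBlocks_mulVec, mulVec, Matrix.one_apply, show ∀ j, z (Fin.natAdd 1 j) = 0 from hinr] using h1
      funext i
      obtain ⟨(j | j), rfl⟩ := (finSumFinEquiv (m := 1) (n := m + 1)).surjective i
      · rw [Subsingleton.elim j 0]; exact h4
      · exact congrFun h3 j
    · rw [prod_move, List.map_cons, List.prod_cons, hl'p, htop]
      convert hg1 using 3
      have hRP : (Matrix.of fun (_ : Fin 1) j => (R * P) 0 j) = R * P := by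
        ext i j; rw [Subsingleton.elim i 0]; rfl
      rw [hRP, fromBlocks_multiply]
      simp only [Matrix.zero_mul, Matrix.mul_zero, add_zero, zero_add, Matrix.one_mul, Matrix.mul_one,
        Matrix.smul_mul]

/-! ### Similarity of the factors -/

variable {n : ℕ}

theorem exists_map_axis {a b a' b' : Fin n → F} (hb : b ⬝ᵥ a ≠ 0) (hab : b' ⬝ᵥ a' = b ⬝ᵥ a) :
    ∃ G : GL (Fin n) F, (G : Matrix (Fin n) (Fin n) F) *ᵥ a = a' ∧
      b' ᵥ* (G : Matrix (Fin n) (Fin n) F) = b := by
  classical
  let φ : Module.Dual F (Fin n → F) := dotProductEquiv F (Fin n) b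
  let φ' : Module.Dual F (Fin n → F) := dotProductEquiv F (Fin n) b'
  have hφa : φ a = b ⬝ᵥ a := rfl
  have hφa' : φ' a' = b ⬝ᵥ a := hab
  have hφ : φ ≠ 0 := fun h => hb (by rw [← hφa, h]; rfl)
  have hφ' : φ' ≠ 0 := fun h => hb (by rw [← hφa', h]; rfl)
  have hK := Module.Dual.finrank_ker_add_one_of_ne_zero hφ
  have hK' := Module.Dual.finrank_ker_add_one_of_ne_zero hφ'
  obtain ⟨e⟩ : Nonempty (LinearMap.ker φ ≃ₗ[F] LinearMap.ker φ') :=
    FiniteDimensional.nonempty_linearEquiv_of_finrank_eq (by omega)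
  set β := b ⬝ᵥ a with hβ
  let π : (Fin n → F) →ₗ[F] LinearMap.ker φ :=
    (LinearMap.id - φ.smulRight (β⁻¹ • a)).codRestrict _ (fun v => by
      rw [LinearMap.mem_ker, LinearMap.sub_apply, LinearMap.id_apply, LinearMap.smulRight_apply, map_sub,
        map_smul, map_smul, hφa, smul_eq_mul, smul_eq_mul, inv_mul_cancel₀ hb, mul_one, sub_self])
  let G₀ : (Fin n → F) →ₗ[F] (Fin n → F) :=
    (LinearMap.ker φ').subtype ∘ₗ e.toLinearMap ∘ₗ π + φ.smulRight (β⁻¹ • a')
  have hG₀φ : ∀ v, φ' (G₀ v) = φ v := fun v => by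
    have h : φ' (e (π v) : Fin n → F) = 0 := (e (π v)).2
    simp [G₀, h, hφa', hb]
  have hG₀a : G₀ a = a' := by
    have hp : π a = 0 := Subtype.ext (by
      show a - φ a • (β⁻¹ • a) = 0
      rw [hφa, smul_smul, mul_inv_cancel₀ hb, one_smul, sub_self])
    simp [G₀, hp, hφa, smul_smul, hb]
  have hG₀i : Function.Injective G₀ := by
    refine (injective_iff_map_eq_zero G₀).2 fun v hv => ?_
    have hv' : φ v = 0 := by rw [← hG₀φ v, hv, map_zero]
    have hp : (π v : Fin n → F) = v := by
      show v - φ v • (β⁻¹ • a) = v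
      rw [hv']; simp
    have h3 : e (π v) = 0 := Subtype.ext (by simpa [G₀, hv'] using hv)
    rw [LinearEquiv.map_eq_zero_iff] at h3
    rw [← hp, h3]; rfl
  have hdet : (LinearMap.toMatrix' G₀).det ≠ 0 := by
    rw [LinearMap.det_toMatrix']
    exact (LinearEquiv.ofBijective G₀ ⟨hG₀i, LinearMap.injective_iff_surjective.1 hG₀i⟩).isUnit_det'.ne_zero
  refine ⟨GeneralLinearGroup.mkOfDetNeZero _ hdet, ?_, ?_⟩
  · show LinearMap.toMatrix' G₀ *ᵥ a = a'
    rw [LinearMap.toMatrix'_mulVec, hG₀a]
  · refine (dotProductEquiv F (Fin n)).injective (LinearMap.ext fun v => ?_)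
    show (b' ᵥ* LinearMap.toMatrix' G₀) ⬝ᵥ v = φ v
    rw [← dotProduct_mulVec, LinearMap.toMatrix'_mulVec]
    exact hG₀φ v

theorem el_sim {p p' : (Fin n → F) × (Fin n → F)} (hu : p.1 ≠ 0) (hv : p.2 ≠ 0) (hu' : p'.1 ≠ 0)
    (hv' : p'.2 ≠ 0) (h : p'.2 ⬝ᵥ p'.1 = p.2 ⬝ᵥ p.1) : Sim (el p') (el p) := by
  obtain ⟨G, hGa, hGb⟩ : ∃ G : GL (Fin n) F, (G : Matrix (Fin n) (Fin n) F) *ᵥ p.1 = p'.1 ∧
      p'.2 ᵥ* (G : Matrix (Fin n) (Fin n) F) = p.2 := by
    by_cases hb : p.2 ⬝ᵥ p.1 = 0
    · exact Classical.TransvectionGL.exists_map_pair hu hv hu' hv' hb (h.trans hb)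
    · exact exists_map_axis hb h
  refine ⟨G, (G⁻¹ : GL (Fin n) F), by simp, ?_⟩
  have e : el p' * (G : Matrix (Fin n) (Fin n) F) = (G : Matrix (Fin n) (Fin n) F) * el p := by
    rw [el, el, Matrix.add_mul, Matrix.mul_add, Matrix.one_mul, Matrix.mul_one, vecMulVec_mul,
      mul_vecMulVec, hGa, hGb]
  rw [← e, Matrix.mul_assoc, ← Units.val_mul, mul_inv_cancel]
  simp

/-- The centraliser of `el p` has every determinant. -/
theorem centFull_el (hn : 3 ≤ n) {p : (Fin n → F) × (Fin n → F)} (hu : p.1 ≠ 0) :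
    CentFull (el p) := by
  intro t ht
  by_cases hb : p.2 ⬝ᵥ p.1 = 0
  · -- a vector killed by `p.2` outside the axis, and a covector separating them
    let φ : Module.Dual F (Fin n → F) := dotProductEquiv F (Fin n) p.2
    have hlt : Submodule.span F {p.1} < LinearMap.ker φ := by
      refine lt_of_le_of_ne ((Submodule.span_singleton_le_iff_mem _ _).2 hb) fun h => ?_
      have h1 := LinearMap.finrank_range_add_finrank_ker φ
      have h2 : Module.finrank F (LinearMap.range φ) ≤ 1 := by
        simpa using Submodule.finrank_le (LinearMap.range φ)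
      rw [← h, finrank_span_singleton hu, Module.finrank_pi, Fintype.card_fin] at h1
      omega
    obtain ⟨w, hwk, hws⟩ := SetLike.exists_of_lt hlt
    obtain ⟨f, hfw, hfs⟩ := Submodule.exists_dual_map_eq_bot_of_notMem hws inferInstance
    let b : Fin n → F := (dotProductEquiv F (Fin n)).symm f
    have hbf : ∀ x, b ⬝ᵥ x = f x := fun x =>
      LinearMap.congr_fun ((dotProductEquiv F (Fin n)).apply_symm_apply f) x
    have hbu : b ⬝ᵥ p.1 = 0 := by
      rw [hbf]
      have : f p.1 ∈ (Submodule.span F {p.1}).map f :=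
        Submodule.mem_map_of_mem (Submodule.mem_span_singleton_self _)
      rwa [hfs, Submodule.mem_bot] at this
    refine ⟨el (w, ((t - 1) / f w) • b), ?_, ?_⟩
    · rw [el_det, smul_dotProduct, hbf, smul_eq_mul, div_mul_cancel₀ _ hfw, add_sub_cancel]
    · have hw' : p.2 ⬝ᵥ w = 0 := hwk
      simp only [el, Matrix.add_mul, Matrix.mul_add, Matrix.one_mul, Matrix.mul_one,
        vecMulVec_mul_vecMulVec, smul_dotProduct, hbu, hw', smul_zero, zero_smul, vecMulVec_zero]
      abel
  · refine ⟨el (p.1, ((t - 1) / (p.2 ⬝ᵥ p.1)) • p.2), ?_, ?_⟩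
    · rw [el_det, smul_dotProduct, smul_eq_mul, div_mul_cancel₀ _ hb, add_sub_cancel]
    · simp only [el, vecMulVec_smul, Matrix.add_mul, Matrix.mul_add, Matrix.one_mul, Matrix.mul_one,
        Matrix.smul_mul, Matrix.mul_smul]
      module

theorem CentFull.smul {A : Matrix ι ι F} (h : CentFull A) (c : F) : CentFull (c • A) := by
  intro t ht
  obtain ⟨Z, hZ, hZA⟩ := h t ht
  exact ⟨Z, hZ, by rw [Matrix.mul_smul, Matrix.smul_mul, hZA]⟩

/-- A rank one residual is a scalar multiple of a factor `1 + u ψ`. -/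
theorem exists_el {A : Matrix (Fin n) (Fin n) F} {c : F} (hc : c ≠ 0) (h : (A - c • 1).rank = 1) :
    ∃ p : (Fin n → F) × (Fin n → F), p.1 ≠ 0 ∧ p.2 ≠ 0 ∧ A = c • el p := by
  have h' : (c⁻¹ • A - 1).rank = 1 := by
    have e : c⁻¹ • A - 1 = c⁻¹ • (A - c • 1) := by
      rw [smul_sub, smul_smul, inv_mul_cancel₀ hc, one_smul]
    rw [e, rank_smul_of_mem_nonZeroDivisors _ (mem_nonZeroDivisors_of_ne_zero (inv_ne_zero hc))]
    exact h
  obtain ⟨a, φ, ha, hφ, y, hy⟩ := Classical.RankOne.exists_axis h'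
  let b : Fin n → F := fun j => φ (Pi.single j 1)
  have hab : c⁻¹ • A = el (a, b) := by
    ext i j
    have h1 := congrFun (hφ (Pi.single j 1)) i
    rw [mulVec_single_one] at h1
    rw [show (c⁻¹ • A) i j = (Pi.single j (1 : F) : Fin n → F) i + (φ (Pi.single j 1) • a) i from h1]
    simp [el, b, vecMulVec_apply, Pi.single_apply, Matrix.one_apply, mul_comm]
  refine ⟨(a, b), ha, fun hb0 => hy ?_, ?_⟩
  · have h1 := hφ y
    rw [hab, el_mulVec] at h1
    dsimp only at h1 hb0
    rw [hb0, zero_dotProduct, zero_smul, add_zero, left_eq_add, smul_eq_zero] at h1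
    exact h1.resolve_right ha
  · rw [← hab, smul_smul, mul_inv_cancel₀ hc, one_smul]

theorem list_prod_smul (c : F) (l : List (Matrix ι ι F)) :
    (l.map fun M => c • M).prod = c ^ l.length • l.prod := by
  induction l with
  | nil => simp
  | cons M l ih =>
    rw [List.map_cons, List.prod_cons, ih, List.prod_cons, List.length_cons, pow_succ']
    simp [smul_smul, mul_comm]

variable [Fintype F]

theorem el_split {p : (ι → F) × (ι → F)} (a : F) (h : p.2 ⬝ᵥ p.1 = 0) :
    el (a • p.1, p.2) * el ((1 - a) • p.1, p.2) = el p := by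
  simp only [el, smul_vecMulVec, Matrix.add_mul, Matrix.mul_add, Matrix.one_mul, Matrix.mul_one,
    Matrix.smul_mul, Matrix.mul_smul, vecMulVec_mul_vecMulVec, h, zero_smul, vecMulVec_zero, smul_zero]
  rw [sub_smul, one_smul]
  abel

theorem exists_ne_zero_one (h3 : 3 ≤ Fintype.card F) : ∃ a : F, a ≠ 0 ∧ a ≠ 1 := by
  classical
  obtain ⟨a, -, ha⟩ := Finset.exists_mem_notMem_of_card_lt_card (s := ({0, 1} : Finset F))
    (t := Finset.univ) (lt_of_le_of_lt Finset.card_le_two (by rw [Finset.card_univ]; omega))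
  exact ⟨a, by simpa using ha⟩

theorem ne_of_ann {l : List ((Fin n → F) × (Fin n → F))} (h : ∀ z, Ann l z → z = 0)
    (hl : l.length = n) {p : (Fin n → F) × (Fin n → F)} (hp : p ∈ l) : p.2 ≠ 0 := by
  intro hp0
  -- `n` covectors span, so none of them vanishes
  let w : Fin n → (Fin n → F) := fun i =>
    (l.get (Fin.cast hl.symm i)).2 ᵥ* ((l.drop (i.val + 1)).map el).prod
  have hann : ∀ (k : List ((Fin n → F) × (Fin n → F))) (z : Fin n → F),
      (∀ j (hj : j < k.length), (k[j].2 ᵥ* ((k.drop (j + 1)).map el).prod) ⬝ᵥ z = 0) → Ann k z := by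
    intro k
    induction k with
    | nil => intro z _; trivial
    | cons q k ih =>
      intro z hz
      refine ⟨?_, ih z fun j hj => ?_⟩
      · have := hz 0 (by simp)
        rw [← dotProduct_mulVec] at this
        simpa using this
      · have := hz (j + 1) (by simp only [List.length_cons]; omega)
        simpa only [List.getElem_cons_succ, List.drop_succ_cons] using this
  have hinj : Function.Injective (Matrix.of w).mulVecLin := by
    refine (injective_iff_map_eq_zero _).2 fun z hz => h z (hann l z fun j hj => ?_)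
    exact congrFun hz ⟨j, hl ▸ hj⟩
  obtain ⟨j, hj, rfl⟩ := List.getElem_of_mem hp
  obtain ⟨z, hz⟩ := LinearMap.surjective_of_injective hinj (Pi.single ⟨j, hl ▸ hj⟩ 1)
  have h1 := congrFun hz ⟨j, hl ▸ hj⟩
  simp [Matrix.mulVec, w, hp0] at h1

/-- Products of `n` factors with `ψ ⬝ u = β`, all non-trivial. -/
theorem exists_factors_ne (h3 : 3 ≤ Fintype.card F) {d : F} (hd : d ≠ 0) (hn : 3 ≤ n)
    (g : Matrix (Fin n) (Fin n) F) (hg : g.det = d ^ n) (hns : ∀ a : F, g ≠ a • 1) :
    ∃ l : List ((Fin n → F) × (Fin n → F)), l.length = n ∧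
      (∀ p ∈ l, p.2 ⬝ᵥ p.1 = d - 1 ∧ p.1 ≠ 0 ∧ p.2 ≠ 0) ∧ Sim g (l.map el).prod := by
  classical
  obtain ⟨m, rfl⟩ : ∃ m, n = 1 + m := ⟨n - 1, by omega⟩
  obtain ⟨l, hlen, hdot, hne, hann, hsim⟩ := exists_factors hd m g hg fun _ => hns
  have hv : ∀ p ∈ l.dropLast, p.2 ≠ 0 := fun p hp => ne_of_ann hann hlen (List.dropLast_subset l hp)
  rcases List.eq_nil_or_concat' l with rfl | ⟨k, p, rfl⟩
  · simp only [List.length_nil] at hlen; omega
  simp only [List.dropLast_concat] at hne hv
  simp only [List.length_append, List.length_singleton] at hlen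
  by_cases hpu : p.1 = 0
  · -- then `d = 1`; split the last but one factor
    have hd1 : d - 1 = 0 := by
      rw [← hdot p (by simp), hpu, dotProduct_zero]
    rcases List.eq_nil_or_concat' k with rfl | ⟨k', p', rfl⟩
    · simp at hlen; omega
    obtain ⟨a, ha0, ha1⟩ := exists_ne_zero_one h3
    have hp' : p'.2 ⬝ᵥ p'.1 = 0 := by rw [hdot p' (by simp), hd1]
    refine ⟨k' ++ [(a • p'.1, p'.2), ((1 - a) • p'.1, p'.2)], by simpa using hlen, ?_, ?_⟩
    · intro q hq
      rcases List.mem_append.1 hq with hq | hq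
      · exact ⟨hdot q (by simp [hq]), hne q (by simp [hq]), hv q (by simp [hq])⟩
      · simp only [List.mem_cons, List.not_mem_nil, or_false] at hq
        rcases hq with rfl | rfl
        · exact ⟨by simp [dotProduct_smul, hp', hd1], smul_ne_zero ha0 (hne p' (by simp)), hv p' (by simp)⟩
        · exact ⟨by simp [dotProduct_smul, hp', hd1],
            smul_ne_zero (sub_ne_zero.2 (Ne.symm ha1)) (hne p' (by simp)), hv p' (by simp)⟩
    · convert hsim using 1
      simp only [List.map_append, List.prod_append, List.map_cons, List.map_nil, List.prod_cons,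
        List.prod_nil, mul_one, el_split a hp']
      simp [el, hpu]
  · refine ⟨k ++ [p], by simpa using hlen, fun q hq => ?_, hsim⟩
    rcases List.mem_append.1 hq with hq' | hq'
    · exact ⟨hdot q hq, hne q hq', hv q hq'⟩
    · rw [List.mem_singleton] at hq'
      subst hq'
      exact ⟨hdot q hq, hpu, ne_of_ann hann (by simpa using hlen) hq⟩

/-- The scalar target. -/
theorem exists_factors_scalar (h3 : 3 ≤ Fintype.card F) (d : F) (hn : 2 ≤ n) :
    ∃ l : List ((Fin n → F) × (Fin n → F)), l.length = n ∧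
      (∀ p ∈ l, p.2 ⬝ᵥ p.1 = d - 1 ∧ p.1 ≠ 0 ∧ p.2 ≠ 0) ∧ ∃ a : F, (l.map el).prod = a • 1 := by
  classical
  by_cases hd1 : d = 1
  · subst hd1
    obtain ⟨a, ha0, ha1⟩ := exists_ne_zero_one h3
    let i0 : Fin n := ⟨0, by omega⟩
    let i1 : Fin n := ⟨1, by omega⟩
    have hne : i0 ≠ i1 := by simp [i0, i1]
    let t : F → (Fin n → F) × (Fin n → F) := fun x => (Pi.single i0 x, Pi.single i1 1)
    have ht : ∀ x y, el (t x) * el (t y) = el (t (x + y)) := fun x y => by
      simp only [el, t, Matrix.add_mul, Matrix.mul_add, Matrix.one_mul, Matrix.mul_one,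
        vecMulVec_mul_vecMulVec, single_dotProduct, one_mul, Pi.single_eq_of_ne' hne, zero_smul,
        vecMulVec_zero, Pi.single_add, add_vecMulVec]
      abel
    have hsum : ∀ k : ℕ, 2 ≤ k → ∃ l : List F, l.length = k ∧ (∀ x ∈ l, x ≠ 0) ∧
        (l.map fun x => el (t x)).prod = 1 := by
      intro k
      induction k using Nat.strong_induction_on with
      | _ k ih =>
        intro hk
        have h0 : el (t 0) = 1 := by simp [el, t]
        rcases lt_trichotomy k 3 with h | rfl | h
        · obtain rfl : k = 2 := by omega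
          exact ⟨[1, -1], rfl, by simp, by simp [ht, h0]⟩
        · refine ⟨[a, 1 - a, -1], rfl, ?_, ?_⟩
          · simp [ha0, sub_ne_zero.2 (Ne.symm ha1)]
          · simp [← mul_assoc, ht, h0, show a + (1 - a + -1) = 0 by ring]
        · obtain ⟨l, hl, hl0, hlp⟩ := ih (k - 2) (by omega) (by omega)
          refine ⟨1 :: -1 :: l, by simp [hl]; omega, by simpa using hl0, ?_⟩
          simp [← mul_assoc, ht, h0, hlp]
    obtain ⟨l, hl, hl0, hlp⟩ := hsum n hn
    refine ⟨l.map t, by simp [hl], fun p hp => ?_, 1, by rw [List.map_map, one_smul]; exact hlp⟩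
    obtain ⟨x, hx, rfl⟩ := List.mem_map.1 hp
    exact ⟨by simp [t, hne.symm], by simp [t, hl0 x hx], by simp [t]⟩
  · let t : Fin n → (Fin n → F) × (Fin n → F) := fun i => (Pi.single i (d - 1), Pi.single i 1)
    refine ⟨List.ofFn t, List.length_ofFn, fun p hp => ?_, d, ?_⟩
    · obtain ⟨i, rfl⟩ := List.mem_ofFn.1 hp
      exact ⟨by simp [t], by simp [t, sub_ne_zero.2 hd1], by simp [t]⟩
    · have key : ∀ k : List (Fin n), k.Nodup → ((k.map t).map el).prod =
          diagonal fun i => if i ∈ k then d else 1 := by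
        intro k
        induction k with
        | nil => intro _; simp
        | cons i k ih =>
          intro hk
          obtain ⟨hik, hk⟩ := List.nodup_cons.1 hk
          rw [List.map_cons, List.map_cons, List.prod_cons, ih hk]
          have e : el (t i) = diagonal fun j => if j = i then d else 1 := by
            ext r s
            by_cases hrs : r = s
            · subst hrs
              by_cases hri : r = i <;> simp [el, t, vecMulVec_apply, hri]
            · by_cases hri : r = i
              · subst hri; simp [el, t, vecMulVec_apply, hrs, Ne.symm hrs, Pi.single_apply]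
              · simp [el, t, vecMulVec_apply, hri, hrs]
          rw [e, diagonal_mul_diagonal]
          congr 1
          funext j
          by_cases hj : j = i
          · subst hj; simp [hik]
          · simp [hj]
      rw [List.ofFn_eq_map, key _ (List.nodup_finRange n), smul_one_eq_diagonal]
      simp

/-- Classes with residual one: non-scalar targets, and a scalar target. -/
theorem pseudo_covS (h3 : 3 ≤ Fintype.card F) (hn : 3 ≤ n) {A : Matrix (Fin n) (Fin n) F}
    (hA : A.det ≠ 0) {c : F} (h : (A - c • 1).rank = 1) :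
    (∀ B : Matrix (Fin n) (Fin n) F, B.det = A.det ^ n → (∀ a : F, B ≠ a • 1) → CovS n A B) ∧
      ∃ a : F, CovS n A (a • 1) := by
  have hc : c ≠ 0 := by
    rintro rfl
    rw [zero_smul, sub_zero] at h
    have := rank_of_isUnit A ((isUnit_iff_isUnit_det A).2 (isUnit_iff_ne_zero.2 hA))
    rw [Fintype.card_fin] at this
    omega
  obtain ⟨p, hu, hv, rfl⟩ := exists_el hc h
  set d := (el p).det with hd
  have hd0 : d ≠ 0 := fun h0 => hA (by rw [det_smul, ← hd, h0, mul_zero])
  have hfull : CentFull (c • el p) := (centFull_el hn hu).smul c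
  have cov : ∀ (l : List ((Fin n → F) × (Fin n → F))), l.length = n →
      (∀ q ∈ l, q.2 ⬝ᵥ q.1 = d - 1 ∧ q.1 ≠ 0 ∧ q.2 ≠ 0) →
      Cov n (c • el p) (c ^ n • (l.map el).prod) := by
    intro l hl hq
    refine ⟨(l.map el).map fun M => c • M, by simp [hl], fun X hX => ?_, ?_⟩
    · obtain ⟨M, hM, rfl⟩ := List.mem_map.1 hX
      obtain ⟨q, hql, rfl⟩ := List.mem_map.1 hM
      obtain ⟨h1, h2, h3'⟩ := hq q hql
      refine sim_smul (el_sim hu hv h2 h3' ?_) c
      rw [h1, hd, el_det, add_sub_cancel_left]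
    · rw [list_prod_smul, List.length_map, hl]
  refine ⟨fun B hB hns => hfull.covS ?_, ?_⟩
  · obtain ⟨l, hl, hq, hsim⟩ := exists_factors_ne h3 hd0 hn ((c ^ n)⁻¹ • B)
      (by rw [det_smul, hB, det_smul, ← hd, Fintype.card_fin, mul_pow, inv_pow,
        inv_mul_cancel_left₀ (pow_ne_zero _ (pow_ne_zero _ hc))])
      (fun a ha => hns (c ^ n * a) (by
        rw [← smul_smul, ← ha, smul_smul, mul_inv_cancel₀ (pow_ne_zero _ hc), one_smul]))
    refine (cov l hl hq).conj ?_
    have h1 := sim_smul hsim (c ^ n)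
    rwa [smul_smul, mul_inv_cancel₀ (pow_ne_zero _ hc), one_smul] at h1
  · obtain ⟨l, hl, hq, a, ha⟩ := exists_factors_scalar (n := n) h3 d (by omega)
    refine ⟨c ^ n * a, hfull.covS ?_⟩
    have h1 := cov l hl hq
    rwa [ha, smul_smul] at h1

end Cfsg.Agent.CoverPSL
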