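import Cfsg.Agent.Lib.CoverPSL.Three
import Mathlib.LinearAlgebra.Matrix.Charpoly.FiniteField
import Mathlib.FieldTheory.Finite.GaloisField

/-!
# Cyclic classes of dimension three, conjugators of determinant one

`covS_three`: every non-scalar matrix of determinant `det A ^ 3` is a product of three conjugates of a
cyclic `A`; `covS_three_scalar`: so is `det A • 1`.
-/

set_option autoImplicit false

namespace Cfsg.Agent.CoverPSL

open Matrix Polynomial Cfsg.Agent.Classical.Thompson
open Classical.SLThreeSquare (e2)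

variable {F : Type*} [Field F]

theorem CovS.transport {ι : Type*} [Fintype ι] [DecidableEq ι] {m : ℕ} {A M : Matrix ι ι F}
    (h : Sim A M) (H : ∀ B : Matrix ι ι F, B.det = M.det ^ m → (∀ c : F, B ≠ c • 1) → CovS m M B)
    {B : Matrix ι ι F} (hB : B.det = A.det ^ m) (hns : ∀ c : F, B ≠ c • 1) : CovS m A B := by
  have hd := h.det_eq
  obtain ⟨P, Q, hPQ, rfl⟩ := h
  have hQP : Q * P = 1 := mul_eq_one_comm.1 hPQ
  have hB' : Sim (Q * B * P) B := ⟨Q, P, hQP, rfl⟩
  obtain ⟨l, hl, hX, hp⟩ := H (Q * B * P) (by rw [hB'.det_eq, hB, hd]) (fun c hc => hns c (by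
    have := congrArg (fun Y => P * Y * Q) hc
    simpa [← Matrix.mul_assoc, hPQ, Matrix.mul_assoc _ P Q] using this))
  refine ⟨l.map fun X => P * X * Q, by simpa using hl, fun Y hY => ?_, ?_⟩
  · obtain ⟨X, hXl, rfl⟩ := List.mem_map.1 hY
    obtain ⟨R, hR, e⟩ := hX X hXl
    refine ⟨P * R * Q, by rw [det_mul, det_mul, hR, mul_one, ← det_mul, hPQ, det_one], ?_⟩
    calc P * X * Q * (P * R * Q) = P * (X * R) * Q := by
          simp only [Matrix.mul_assoc]; rw [← Matrix.mul_assoc Q P, hQP, Matrix.one_mul]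
      _ = P * (R * M) * Q := by rw [e]
      _ = P * R * Q * (P * M * Q) := by
          simp only [Matrix.mul_assoc]; rw [← Matrix.mul_assoc Q P, hQP, Matrix.one_mul]
  · rw [prod_conj P Q hPQ, hp, show P * (Q * B * P) * Q = (P * Q) * B * (P * Q) by
      simp only [Matrix.mul_assoc], hPQ, Matrix.one_mul, Matrix.mul_one]

theorem CovS.transport_scalar {ι : Type*} [Fintype ι] [DecidableEq ι] {m : ℕ} {A M : Matrix ι ι F}
    (h : Sim A M) {c : F} (H : CovS m M (c • 1)) : CovS m A (c • 1) := by
  obtain ⟨P, Q, hPQ, rfl⟩ := h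
  have hQP : Q * P = 1 := mul_eq_one_comm.1 hPQ
  obtain ⟨l, hl, hX, hp⟩ := H
  refine ⟨l.map fun X => P * X * Q, by simpa using hl, fun Y hY => ?_, ?_⟩
  · obtain ⟨X, hXl, rfl⟩ := List.mem_map.1 hY
    obtain ⟨R, hR, e⟩ := hX X hXl
    refine ⟨P * R * Q, by rw [det_mul, det_mul, hR, mul_one, ← det_mul, hPQ, det_one], ?_⟩
    calc P * X * Q * (P * R * Q) = P * (X * R) * Q := by
          simp only [Matrix.mul_assoc]; rw [← Matrix.mul_assoc Q P, hQP, Matrix.one_mul]
      _ = P * (R * M) * Q := by rw [e]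
      _ = P * R * Q * (P * M * Q) := by
          simp only [Matrix.mul_assoc]; rw [← Matrix.mul_assoc Q P, hQP, Matrix.one_mul]
  · rw [prod_conj P Q hPQ, hp, Matrix.mul_smul, Matrix.mul_one, Matrix.smul_mul, hPQ]

theorem exists_compMat {A : Matrix (Fin 3) (Fin 3) F} {v : Fin 3 → F} (hv : (kry A v).det ≠ 0) :
    ∃ (f : F[X]) (hf : f.Monic) (hd : f.natDegree = 3) (δ : F), A.charpoly = f ∧ δ ≠ 0 ∧
      SimD δ A (compMat f hf hd) := by
  have hd : A.charpoly.natDegree = 3 := by rw [Matrix.charpoly_natDegree_eq_dim, Fintype.card_fin]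
  obtain ⟨δ, hδ, h⟩ := exists_simD (kry_sim_compMat hv A.charpoly (Matrix.charpoly_monic A) hd rfl)
  exact ⟨_, _, hd, δ, rfl, hδ, h⟩

/-- **Three conjugates of a cyclic matrix, conjugators of determinant one.** -/
theorem covS_three [Fintype F] (hF : 4 ≤ Fintype.card F) {A : Matrix (Fin 3) (Fin 3) F}
    (hA : A.det ≠ 0) {v : Fin 3 → F} (hv : (kry A v).det ≠ 0) {B : Matrix (Fin 3) (Fin 3) F}
    (hB : B.det = A.det ^ 3) (hns : ∀ c : F, B ≠ c • 1) : CovS 3 A B := by
  classical
  obtain ⟨f, hf, hd, δA, -, hδA, hAf⟩ := exists_compMat hv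
  obtain ⟨e, he, hsimple, hprod⟩ := exists_spectrum hF (k := 3) le_rfl (A.det ^ 2) (pow_ne_zero _ hA)
  obtain ⟨T, hgeom, hch, hcov⟩ := covS_two_cyclic le_rfl hA f hf hd hδA hAf e he hsimple hprod
  have hTd : T.det = A.det ^ 2 := hcov.cov.det_eq
  have hsp : T.charpoly.Splits := by rw [hch]; exact Splits.prod fun i _ => Splits.X_sub_C _
  have hfull := centFull_simple (by norm_num) hgeom e he hsimple hch
  have key : ∀ T' X : Matrix (Fin 3) (Fin 3) F, Geom1 T' → T'.charpoly = T.charpoly → SimD 1 X A →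
      SimD 1 B (T' * X) → CovS 3 A B := by
    intro T' X hg' hc' hX hBX
    have hsim : Sim T T' := geom1_sim 3 T T' hgeom hg' hsp (by rw [hTd]; exact pow_ne_zero _ hA) hc'.symm
    exact (CovS.add (hcov.conj (hfull.simD_one hsim.symm)) (CovS.single hX)).conj hBX
  rcases exists_kry hF hns with ⟨w, hw⟩ | ⟨l, c, r, hc, hr, hBs⟩
  · obtain ⟨g, hg, hgd, δB, -, hδB, hBg⟩ := exists_compMat hw
    have hf0 : f.coeff 0 ≠ 0 := fun h0 => hA (by rw [hAf.det_eq hδA, compMat_det, h0, mul_zero])
    obtain ⟨T', H, -, -, hH, hTH, hg', hc'⟩ := exists_twist le_rfl g hg hgd f hf hd hf0 e he hsimple (by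
      rw [← hBg.det_eq hδB, hB, hprod, ← hAf.det_eq hδA, pow_succ]) δA δB hδA hδB
    refine key T' H hg' (hc'.trans hch.symm) ?_ ?_
    · simpa [mul_inv_cancel₀ hδA] using hH.trans (hAf.symm hδA)
    · simpa [mul_inv_cancel₀ hδB] using hBg.trans (hTH.symm hδB)
  · set σ := r 0 * c 0 + r 1 * c 1 + r 2 * c 2 with hσ
    set m := l + σ with hm
    set G : Matrix (Fin 3) (Fin 3) F := !![l, 0, 0; 0, l, 0; 1, 0, m] with hG
    have hBG : Sim B G := by
      refine hBs.trans ?_
      obtain ⟨P, hP, eP⟩ := Classical.SLThreeSquare.sim_rankOne l c r hr hc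
      obtain ⟨Q, hQ, eQ⟩ := Classical.SLThreeSquare.sim_rankOne l ![0, 0, 1] ![1, 0, σ]
        (by simp) (fun h => by simpa using congrFun h 2)
      have hG' : Classical.SLThreeSquare.rankOne l ![0, 0, 1] ![1, 0, σ] = G := by
        ext i j
        fin_cases i <;> fin_cases j <;> simp [Classical.SLThreeSquare.rankOne, hG, hm]
      rw [hG'] at eQ
      have eσ : (![1, 0, σ] : Fin 3 → F) 0 * (![0, 0, 1] : Fin 3 → F) 0 +
          (![1, 0, σ] : Fin 3 → F) 1 * (![0, 0, 1] : Fin 3 → F) 1 +
          (![1, 0, σ] : Fin 3 → F) 2 * (![0, 0, 1] : Fin 3 → F) 2 = σ := by simp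
      rw [eσ] at eQ
      exact (sim_of_mul_eq hP eP).trans (sim_of_mul_eq hQ eQ).symm
    -- the middle coordinate commutes with the model
    have hGf : CentFull G := fun t _ => ⟨diagonal ![1, t, 1], by simp [det_diagonal, Fin.prod_univ_three], by
      ext i j
      fin_cases i <;> fin_cases j <;> simp [hG, Matrix.mul_apply, Fin.sum_univ_three, mul_comm]⟩
    have hGd : l * l * m = A.det ^ 3 := by
      rw [← hB, hBG.det_eq]; simp [hG, det_fin_three]
    have hl : l ≠ 0 := by
      rintro rfl
      exact pow_ne_zero _ hA (by rw [← hGd]; simp)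
    set x := (e 0)⁻¹ with hx
    set y := (e 1)⁻¹ with hy
    set z := (e 2)⁻¹ with hz
    set b := A.trace - x * l - y * l - z * m with hb
    set a := ((x * l + b) * (y * l) + x * z * l * m + y * z * l * m - e2 A) / l with ha
    have hal : a * l = (x * l + b) * (y * l) + x * z * l * m + y * z * l * m - e2 A := by
      rw [ha, div_mul_cancel₀ _ hl]
    set U : Matrix (Fin 3) (Fin 3) F := !![x, a, b; 0, y, 1; 0, 0, z] with hU
    have hUd : U.det = x * y * z := by simp [hU, det_fin_three]
    have hxyz : x * y * z * A.det ^ 2 = 1 := by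
      rw [← hprod, Fin.prod_univ_three, hx, hy, hz]
      field_simp [he 0, he 1, he 2]
    have hU0 : U.det ≠ 0 := by
      rw [hUd]
      intro h
      rw [h, zero_mul] at hxyz
      exact zero_ne_one hxyz
    set M := U * G with hM
    have hMd : M.det = A.det := by
      rw [hM, det_mul, hUd, show G.det = l * l * m by simp [hG, det_fin_three], hGd]
      linear_combination A.det * hxyz
    have hMt : M.trace = A.trace := by
      simp [hM, hU, hG, trace_fin_three, Matrix.mul_apply, Fin.sum_univ_three, hb]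
      ring
    have hMe : e2 M = e2 A := by
      simp [e2, hM, hU, hG, Matrix.mul_apply, Fin.sum_univ_three] at hal ⊢
      linear_combination -hal
    have hMv : (kry M ![1, 0, 0]).det ≠ 0 := by
      have : (kry M ![1, 0, 0]).det = -(y * z * l) := by
        simp [kry, hM, hU, hG, det_fin_three, mulVec, dotProduct, Fin.sum_univ_three, Matrix.mul_apply]
        ring
      rw [this]
      exact neg_ne_zero.2 (mul_ne_zero (mul_ne_zero (inv_ne_zero (he 1)) (inv_ne_zero (he 2))) hl)
    obtain ⟨δ, hδ, hMA⟩ := exists_simD (by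
      have h1 := kry_sim hMv
      rw [hMd, hMt, hMe] at h1
      exact h1.trans (kry_sim hv).symm : Sim M A)
    set Z : Matrix (Fin 3) (Fin 3) F := diagonal ![1, δ⁻¹, 1] with hZ
    set Z' : Matrix (Fin 3) (Fin 3) F := diagonal ![1, δ, 1] with hZ'
    have hZZ : Z * Z' = 1 := by
      rw [hZ, hZ', diagonal_mul_diagonal, ← diagonal_one]
      congr 1; funext i; fin_cases i <;> simp [inv_mul_cancel₀ hδ]
    have hZ'Z : Z' * Z = 1 := mul_eq_one_comm.1 hZZ
    have hZG : Z * G * Z' = G := by
      ext i j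
      fin_cases i <;> fin_cases j <;>
        simp [hZ, hZ', hG, Matrix.mul_apply, Fin.sum_univ_three, mul_comm, mul_inv_cancel₀ hδ,
          mul_left_comm]
    have hup : U.IsUpperTriangular := by
      intro i j hij
      have hij' : j.val < i.val := hij
      fin_cases i <;> fin_cases j <;> simp [hU] at hij' ⊢
    have hUg : Geom1 U := by
      refine geom1_upper hup (fun i j hi hij => ?_) (fun i j hi hij => ?_) (fun i j hi hj => ?_)
      · exfalso
        have := j.2
        omega
      · obtain ⟨rfl, rfl⟩ : i = 1 ∧ j = 2 := by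
          have := i.2; have := j.2
          exact ⟨Fin.ext (by simp; omega), Fin.ext (by simp; omega)⟩
        simp [hU]
      · rw [show i = 0 from Fin.ext hi]
        fin_cases j
        · simp at hj
        · simpa [hU, hx, hy] using hsimple 0 1 rfl (by decide)
        · simpa [hU, hx, hz] using hsimple 0 2 rfl (by decide)
    have hUc : U⁻¹.charpoly = T.charpoly := by
      have hd : U.charpoly = (diagonal fun i => (e i)⁻¹).charpoly := by
        rw [Matrix.charpoly_of_isUpperTriangular _ hup, Matrix.charpoly_diagonal]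
        simp [Fin.prod_univ_three, hU, hx, hy, hz]
      rw [charpoly_inv_congr hU0 hd, hch]
      have hdi : (diagonal fun i => (e i)⁻¹)⁻¹ = diagonal e := by
        refine Matrix.inv_eq_right_inv ?_
        rw [diagonal_mul_diagonal, ← diagonal_one]
        congr 1
        funext i
        exact inv_mul_cancel₀ (he i)
      rw [hdi, Matrix.charpoly_diagonal]
    have hTs : Sim (Z * U⁻¹ * Z') U⁻¹ := ⟨Z, Z', hZZ, rfl⟩
    refine key (Z * U⁻¹ * Z') (Z * M * Z') ((hUg.inv hU0).sim hTs)
      ((Sim.charpoly_eq hTs).trans hUc) ?_ ?_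
    · have h1 : SimD δ⁻¹ (Z * M * Z') M := ⟨Z, by simp [hZ, det_diagonal, Fin.prod_univ_three], by
        rw [Matrix.mul_assoc _ Z' Z, hZ'Z, Matrix.mul_one]⟩
      simpa [inv_mul_cancel₀ hδ] using h1.trans hMA
    · have e : Z * U⁻¹ * Z' * (Z * M * Z') = G := by
        rw [show Z * U⁻¹ * Z' * (Z * M * Z') = Z * (U⁻¹ * (Z' * Z) * M) * Z' by
          simp only [Matrix.mul_assoc], hZ'Z, Matrix.mul_one, hM, ← Matrix.mul_assoc U⁻¹,
          nonsing_inv_mul _ (isUnit_iff_ne_zero.2 hU0), Matrix.one_mul, hZG]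
      rw [e]
      exact hGf.simD_one hBG

/-- The invariants of `c • A⁻¹`. -/
theorem kry_smul_inv {A : Matrix (Fin 3) (Fin 3) F} (hA : A.det ≠ 0) {v : Fin 3 → F}
    (hv : (kry A v).det ≠ 0) {c : F} (hc : c ≠ 0) :
    (kry (c • A⁻¹) (A *ᵥ (A *ᵥ v))).det ≠ 0 := by
  have hu : IsUnit A.det := isUnit_iff_ne_zero.2 hA
  have h1 : ∀ x : Fin 3 → F, (c • A⁻¹) *ᵥ (A *ᵥ x) = c • x := fun x => by
    rw [smul_mulVec, mulVec_mulVec, nonsing_inv_mul _ hu, one_mulVec]
  have e : kry (c • A⁻¹) (A *ᵥ (A *ᵥ v)) = kry A v * !![0, 0, c * c; 0, c, 0; 1, 0, 0] := by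
    ext i j
    simp only [kry, h1, mulVec_smul]
    fin_cases j <;> simp [Matrix.mul_apply, Fin.sum_univ_three, mul_comm, mul_left_comm]
  rw [e, det_mul]
  refine mul_ne_zero hv ?_
  simp [det_fin_three, hc]

/-- Without eigenvalue: a field, so Frobenius conjugates. -/
theorem covS_three_norm [Fintype F] (hF : 4 ≤ Fintype.card F) {A : Matrix (Fin 3) (Fin 3) F}
    (hA : A.det ≠ 0) (hno : ∀ a : F, (A - a • 1).det ≠ 0) : CovS 3 A (A.det • 1) := by
  classical
  have hwide : ∀ M : Matrix (Fin 3) (Fin 3) F, M.charpoly = A.charpoly → ∃ v, (kry M v).det ≠ 0 := by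
    intro M hM
    refine exists_kry_of_wide hF fun a => ?_
    have h : (M - a • 1).det ≠ 0 := by
      intro h0
      refine hno a ?_
      have e : ∀ N : Matrix (Fin 3) (Fin 3) F, (N - a • 1).det = -N.charpoly.eval a := fun N => by
        rw [Matrix.eval_charpoly, ← neg_sub, det_neg, show a • (1 : Matrix (Fin 3) (Fin 3) F) =
          Matrix.scalar (Fin 3) a by rw [smul_one_eq_diagonal]; rfl]
        simp; ring
      rw [e, ← hM, ← e, h0]
    rw [Matrix.rank_of_isUnit _ ((Matrix.isUnit_iff_isUnit_det _).2 (isUnit_iff_ne_zero.2 h)), Fintype.card_fin]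
    norm_num
  obtain ⟨v, hv⟩ := hwide A rfl
  obtain ⟨f, hf, hd, δA, hfA, hδA, hAf⟩ := exists_compMat hv
  have hirr : Irreducible f := by
    rw [hf.irreducible_iff_roots_eq_zero_of_degree_le_three (by omega) (by omega)]
    refine Multiset.eq_zero_of_forall_notMem fun a ha => ?_
    rw [mem_roots hf.ne_zero, IsRoot.def, ← hfA, Matrix.eval_charpoly] at ha
    refine hno a ?_
    rw [← neg_sub, det_neg, show a • (1 : Matrix (Fin 3) (Fin 3) F) = Matrix.scalar (Fin 3) a by
      rw [smul_one_eq_diagonal]; rfl, ha, mul_zero]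
  haveI := Fact.mk hirr
  haveI : Module.Finite F (AdjoinRoot f) := hf.finite_adjoinRoot
  haveI : Finite (AdjoinRoot f) := Module.finite_of_finite F
  set b := (AdjoinRoot.powerBasis' hf).basis.reindex (finCongr hd) with hb
  set L := Algebra.leftMulMatrix b with hL
  set C := compMat f hf hd with hC
  have hCL : C = L (AdjoinRoot.root f) := rfl
  have hfull : CentFull C := fun t _ => by
    obtain ⟨y, hy⟩ := FiniteField.norm_surjective F (AdjoinRoot f) t
    exact ⟨L y, by rw [← hy, Algebra.norm_eq_matrix_det b], by rw [hCL, ← map_mul, mul_comm, map_mul]⟩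
  have hAC : Sim A C := hAf.sim hδA
  have hconj : ∀ M : Matrix (Fin 3) (Fin 3) F, M.charpoly = A.charpoly → Sim M C := by
    intro M hM
    obtain ⟨w, hw⟩ := hwide M hM
    exact kry_sim_compMat hw f hf hd (hM.trans hfA)
  have hpow : ∀ M : Matrix (Fin 3) (Fin 3) F, (M ^ Fintype.card F).charpoly = M.charpoly :=
    fun M => FiniteField.Matrix.charpoly_pow_card M
  set q := Fintype.card F with hq
  have hnorm : C * C ^ q * (C ^ q) ^ q = C.det • 1 := by
    have h2 : (q ^ 3 - 1) / (q - 1) = 1 + q + q * q := by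
      refine Nat.div_eq_of_eq_mul_left (by omega) ?_
      obtain ⟨p, hp⟩ : ∃ p, q = p + 1 := ⟨q - 1, by omega⟩
      rw [hp, show p + 1 - 1 = p by omega]
      have e : (p + 1) ^ 3 = (1 + (p + 1) + (p + 1) * (p + 1)) * p + 1 := by ring
      omega
    have h1 := FiniteField.algebraMap_norm_eq_pow (K := F) (x := AdjoinRoot.root f)
    rw [Module.natCard_eq_pow_finrank (K := F) (V := AdjoinRoot f), Module.finrank_eq_card_basis b,
      Fintype.card_fin, Nat.card_eq_fintype_card, ← hq, h2] at h1
    have h3 := congrArg L h1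
    rw [AlgHom.commutes, map_pow, Algebra.norm_eq_matrix_det b, ← hL, ← hCL,
      Algebra.algebraMap_eq_smul_one] at h3
    rw [← pow_mul, ← pow_succ' C q, ← pow_add, show q + 1 + q * q = 1 + q + q * q by ring, ← h3]
  have hA' : CentFull A := hfull.sim hAC
  refine hA'.covS ?_
  have hch : C.charpoly = A.charpoly := (Sim.charpoly_eq hAC).symm
  refine ⟨[C, C ^ q, (C ^ q) ^ q], rfl, fun X hX => ?_, ?_⟩
  · simp only [List.mem_cons, List.not_mem_nil, or_false] at hX
    rcases hX with rfl | rfl | rfl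
    · exact hAC.symm
    · exact (hconj _ ((hpow C).trans hch)).trans hAC.symm
    · exact (hconj _ ((hpow _).trans ((hpow C).trans hch))).trans hAC.symm
  · rw [hAC.det_eq, ← hnorm]; simp [Matrix.mul_assoc]

/-- A triple eigenvalue: three explicit unitriangular matrices. -/
theorem covS_three_jord [Fintype F] (hF : 4 ≤ Fintype.card F) {a : F} :
    CovS 3 (!![a, a, 0; 0, a, a; 0, 0, a] : Matrix (Fin 3) (Fin 3) F) ((a * a * a) • 1) := by
  classical
  obtain ⟨α, -, hα⟩ := Finset.exists_mem_notMem_of_card_lt_card (s := ({0, -1} : Finset F))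
    (t := Finset.univ) (lt_of_le_of_lt Finset.card_le_two (by rw [Finset.card_univ]; omega))
  simp only [Finset.mem_insert, Finset.mem_singleton, not_or] at hα
  have key : ∀ x z : F, x ≠ 0 → SimD 1 (!![a, a * x, a * z; 0, a, a * x; 0, 0, a] : Matrix (Fin 3) (Fin 3) F)
      !![a, a, 0; 0, a, a; 0, 0, a] := fun x z hx => by
    refine ⟨!![x, z / x, 0; 0, 1, 0; 0, 0, 1 / x], by simp [det_fin_three, mul_inv_cancel₀ hx], ?_⟩
    ext i j
    fin_cases i <;> fin_cases j <;> simp [Matrix.mul_apply, Fin.sum_univ_three] <;> field_simp <;> ring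
  have hβ : -(1 + α) ≠ 0 := neg_ne_zero.2 fun h => hα.2 (by linear_combination h)
  set z := -(α + (1 + α) * -(1 + α)) with hz
  refine ⟨[!![a, a * 1, a * z; 0, a, a * 1; 0, 0, a], !![a, a * α, a * 0; 0, a, a * α; 0, 0, a],
    !![a, a * -(1 + α), a * 0; 0, a, a * -(1 + α); 0, 0, a]], rfl, fun X hX => ?_, ?_⟩
  · simp only [List.mem_cons, List.not_mem_nil, or_false] at hX
    rcases hX with rfl | rfl | rfl
    · exact key 1 z one_ne_zero
    · exact key α 0 hα.1
    · exact key _ 0 hβ
  · ext i j
    fin_cases i <;> fin_cases j <;> simp [Matrix.mul_apply, Fin.sum_univ_three, hz] <;> ring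

/-- A simple eigenvalue. -/
theorem covS_three_root [Fintype F] (hF : 4 ≤ Fintype.card F) {A : Matrix (Fin 3) (Fin 3) F}
    (hA : A.det ≠ 0) {v : Fin 3 → F} (hv : (kry A v).det ≠ 0) {c : F}
    (hc : c * c * c - A.trace * (c * c) + e2 A * c - A.det = 0)
    (hsimple : c * c * c - e2 A * c + 2 * A.det ≠ 0) : CovS 3 A (A.det • 1) := by
  classical
  set d := A.det with hd
  have hc0 : c ≠ 0 := by
    rintro rfl
    exact hA (by simpa using hc)
  have hu : IsUnit A.det := isUnit_iff_ne_zero.2 hA
  -- the centralizer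
  have hfull : CentFull A := by
    set M : Matrix (Fin 3) (Fin 3) F := !![c, 0, 0; 0, 0, -(d / c); 0, 1, A.trace - c] with hM
    have hMv : (kry M ![1, 1, 0]).det ≠ 0 := by
      have e : (kry M ![1, 1, 0]).det * c = c * c * c - e2 A * c + 2 * d := by
        simp [kry, hM, det_fin_three, mulVec, dotProduct, Fin.sum_univ_three]
        field_simp
        linear_combination hc
      exact fun h => hsimple (by rw [← e, h, zero_mul])
    have hMd : M.det = d := by simp [hM, det_fin_three]; field_simp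
    have hMt : M.trace = A.trace := by simp [hM, trace_fin_three]
    have hMe : e2 M = e2 A := by
      have e : e2 M = c * (A.trace - c) + d / c := by simp [e2, hM]
      rw [e]
      refine mul_right_cancel₀ hc0 ?_
      rw [add_mul, div_mul_cancel₀ _ hc0]
      linear_combination -hc
    refine CentFull.sim (A := M) (fun t _ => ⟨diagonal ![t, 1, 1], by simp [det_diagonal, Fin.prod_univ_three], by
      ext i j
      fin_cases i <;> fin_cases j <;> simp [hM, Matrix.mul_apply, Fin.sum_univ_three, mul_comm]⟩) ?_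
    have h1 := kry_sim hMv
    rw [hMd, hMt, hMe] at h1
    exact (kry_sim hv).trans h1.symm
  refine hfull.covS ?_
  obtain ⟨f, hf, hfd, δA, hfA, hδA, hAf⟩ := exists_compMat hv
  have hAs : Sim A (compMat f hf hfd) := hAf.sim hδA
  have hdC : (compMat f hf hfd).det = d := hAs.det_eq.symm
  have hf0 : f.coeff 0 ≠ 0 := fun h0 => hA (by rw [← hdC, compMat_det, h0, mul_zero])
  obtain ⟨g, hgdef⟩ : ∃ g, (compMat f hf hfd)⁻¹.charpoly = g := ⟨_, rfl⟩
  have hg : g.Monic := hgdef ▸ Matrix.charpoly_monic _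
  have hgd : g.natDegree = 3 := by rw [← hgdef, Matrix.charpoly_natDegree_eq_dim, Fintype.card_fin]
  have hdg : (compMat g hg hgd).det = d⁻¹ := by
    rw [Matrix.det_eq_sign_charpoly_coeff, compMat_charpoly, ← hgdef, ← Matrix.det_eq_sign_charpoly_coeff,
      det_nonsing_inv, Ring.inverse_eq_inv, hdC]
  have hg0 : g.coeff 0 ≠ 0 := by
    intro h0
    rw [compMat_det g hg hgd, h0, mul_zero] at hdg
    exact inv_ne_zero hA hdg.symm
  obtain ⟨κ, hκ, hinv⟩ := compMat_inv (by norm_num) f hf hfd hf0 g hg hgd hgdef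
  obtain ⟨H, hH, hHs, hHc⟩ := exists_companion (by norm_num) g hg hgd hg0 1 one_ne_zero
  have hHd : H.det = d⁻¹ := by rw [hHs.det_eq one_ne_zero, hdg]
  -- the target `d • A⁻¹`
  set D := d • A⁻¹ with hD
  have hDd : D.det = d * d := by
    rw [hD, det_smul, det_nonsing_inv, Ring.inverse_eq_inv, Fintype.card_fin, ← hd]
    field_simp
  set e0 := d / c with he0
  have he00 : e0 ≠ 0 := div_ne_zero hA hc0
  have hDe : D.trace = e2 A ∧ e2 D = d * A.trace := by
    have hadj : D = A.adjugate := by
      rw [hD, Matrix.inv_def, smul_smul, hd, Ring.inverse_eq_inv, mul_inv_cancel₀ hA, one_smul]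
    rw [hadj, hd, adjugate_fin_three]
    constructor
    · simp [trace_fin_three, e2]; ring
    · simp [e2, det_fin_three, trace_fin_three]; ring
  set t := e2 A - e0 with ht
  set N := d * c with hN
  have hN0 : N ≠ 0 := mul_ne_zero hA hc0
  have hquad : e0 * e0 - t * e0 + N ≠ 0 := by
    have e : (e0 * e0 - t * e0 + N) * (c * c) = d * (c * c * c - e2 A * c + 2 * d) := by
      rw [ht, he0, hN]; field_simp; ring
    exact fun h => mul_ne_zero hA hsimple (by rw [← e, h, zero_mul])
  set U : Matrix (Fin 3) (Fin 3) F := !![e0, 0, 0; 0, 1, 1; 0, 0, N] with hU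
  set τ := t - 1 - N with hτ
  have hUup : U.IsUpperTriangular := by
    intro i j hij
    have hij' : j.val < i.val := hij
    fin_cases i <;> fin_cases j <;> simp [hU] at hij' ⊢
  have hUd : U.det = d * d := by simp [hU, det_fin_three, he0, hN]; field_simp
  obtain ⟨w, hw⟩ := exists_pair le_rfl f hf hfd hUup (fun i => by fin_cases i <;> simp [hU, he00, hN0])
    hH hHc τ (by rw [hdC, hUd, hHd]; field_simp)
  set T := (1 + upd 1 w) * transvection (2 : Fin 3) 1 τ * U with hT
  have hrow : ∀ i j : Fin 3, i ≠ 0 → T i j = (transvection (2 : Fin 3) 1 τ * U) i j := by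
    intro i j hi
    rw [hT, Matrix.mul_assoc, Matrix.add_mul, Matrix.one_mul, Matrix.add_apply, add_eq_left, Matrix.mul_apply]
    refine Finset.sum_eq_zero fun l _ => ?_
    have h0 : upd 1 w i l = 0 := by
      by_contra h
      rcases upd_zero h with h1 | h1
      · exact hi (Fin.ext (by simp; omega))
      · omega
    rw [h0, zero_mul]
  have hEU : transvection (2 : Fin 3) 1 τ * U = !![e0, 0, 0; 0, 1, 1; 0, τ, τ + N] := by
    ext i j
    fin_cases i <;> fin_cases j <;>
      simp [transvection, hU, Matrix.mul_apply, Fin.sum_univ_three, Matrix.single, Matrix.one_apply] <;> ring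
  have t10 : T 1 0 = 0 := by rw [hrow _ _ (by decide), hEU]; simp
  have t11 : T 1 1 = 1 := by rw [hrow _ _ (by decide), hEU]; simp
  have t12 : T 1 2 = 1 := by rw [hrow _ _ (by decide), hEU]; simp
  have t20 : T 2 0 = 0 := by rw [hrow _ _ (by decide), hEU]; simp
  have t21 : T 2 1 = τ := by rw [hrow _ _ (by decide), hEU]; simp
  have t22 : T 2 2 = τ + N := by rw [hrow _ _ (by decide), hEU]; simp
  have t00 : T 0 0 = e0 := by
    have h0 : upd 1 w (0 : Fin 3) 0 = 0 := by
      by_contra h
      rcases upd_zero h with h1 | h1 <;> simp at h1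
    rw [hT, Matrix.mul_assoc, hEU]
    simp [Matrix.add_mul, Matrix.mul_apply, Fin.sum_univ_three, h0]
  have hTd : T.det = d * d := by
    rw [hT, det_mul, det_mul, det_one_add_upd 1 le_rfl, det_transvection_of_ne _ _ (by decide), hUd,
      one_mul, one_mul]
  have hTt : T.trace = D.trace := by
    rw [hDe.1, trace_fin_three, t00, t11, t22, hτ, ht]; ring
  have hTe : e2 T = e2 D := by
    rw [hDe.2]
    have e : e2 T = e0 * t + N := by
      simp only [e2, t00, t10, t11, t12, t20, t21, t22, hτ]
      ring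
    have e' : e0 * c = d := div_mul_cancel₀ _ hc0
    rw [e, ht, hN]
    refine mul_right_cancel₀ (mul_ne_zero hc0 hc0) ?_
    linear_combination (c * e2 A - e0 * c - d) * e' + d * hc
  have hTns : ∀ a : F, T ≠ a • 1 := fun a h => by
    have := congrFun (congrFun h 1) 2
    simp [t12] at this
  rcases exists_kry hF hTns with ⟨x, hx⟩ | ⟨l, p, r, -, -, P, Q, hPQ, eT⟩
  · have hTD : Sim T D := by
      have h1 := kry_sim hx
      rw [hTd, ← hDd, hTt, hTe] at h1
      exact h1.trans (kry_sim (kry_smul_inv hA hv hA)).symm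
    have hcov : Cov 2 A T := by
      refine ⟨[T * H, H⁻¹], rfl, fun X hX => ?_, by
        simp [Matrix.mul_assoc, mul_nonsing_inv _ (show IsUnit H.det by rw [hHd]; exact isUnit_iff_ne_zero.2 (inv_ne_zero hA))]⟩
      simp only [List.mem_cons, List.not_mem_nil, or_false] at hX
      rcases hX with rfl | rfl
      · refine (hw.sim ?_).trans hAs.symm
        refine mul_ne_zero (Finset.prod_ne_zero_iff.2 fun i _ => Finset.prod_ne_zero_iff.2 fun j _ => ?_)
          (weight_ne_zero hH)
        split_ifs with h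
        · rcases (show (⟨j + 1, h⟩ : Fin 3) = 1 ∨ (⟨j + 1, h⟩ : Fin 3) = 2 by
            rcases Nat.lt_or_ge j 1 with h1 | h1
            · left; exact Fin.ext (by simp; omega)
            · right; exact Fin.ext (by simp; omega)) with e | e <;> simp [e, hU, hN0]
        · exact one_ne_zero
      · exact (((hHs.inv one_ne_zero (by rw [hHd]; exact inv_ne_zero hA)).trans hinv).sim
          (by simpa using hκ)).trans hAs.symm
    have h2 := (hcov.conj hTD.symm).add (Cov.single (Sim.refl A))
    rwa [hD, Matrix.smul_mul, nonsing_inv_mul _ hu] at h2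
  · exfalso
    have hr : Classical.SLThreeSquare.rankOne l p r = l • 1 + vecMulVec p r := by
      ext i j
      simp [Classical.SLThreeSquare.rankOne, Matrix.one_apply, vecMulVec_apply]
    have e1 : T - l • 1 = vecMulVec (P *ᵥ p) (r ᵥ* Q) := by
      rw [eT, hr, Matrix.mul_add, Matrix.add_mul, Matrix.mul_smul, Matrix.mul_one, Matrix.smul_mul, hPQ,
        add_sub_cancel_left, mul_vecMulVec, vecMulVec_mul]
    have ent : ∀ i j : Fin 3, T i j - (if i = j then l else 0) = (P *ᵥ p) i * (r ᵥ* Q) j := fun i j => by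
      have := congrFun (congrFun e1 i) j
      simpa [Matrix.one_apply, vecMulVec_apply] using this
    have m00 := ent 0 0
    have m02 := ent 0 2
    have m10 := ent 1 0
    have m12 := ent 1 2
    have m11 := ent 1 1
    have m21 := ent 2 1
    have m22 := ent 2 2
    simp [t00, t10, t11, t12, t21, t22] at m00 m02 m10 m12 m11 m21 m22
    set u := P *ᵥ p
    set s := r ᵥ* Q
    have hu1 : u 1 ≠ 0 := fun h => by simp [h] at m12
    have hs0 : s 0 = 0 := m10.resolve_left hu1
    have hl : e0 = l := sub_eq_zero.1 (by rw [m00, hs0, mul_zero])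
    refine hquad ?_
    rw [hl, show t = τ + 1 + N by rw [hτ]; ring]
    linear_combination (τ + N - l) * m11 + (u 1 * s 1) * m22 - τ * m12 - (u 1 * s 2) * m21

/-- **The scalar `det A` is a product of three conjugates.** -/
theorem covS_three_scalar [Fintype F] (hF : 4 ≤ Fintype.card F) {A : Matrix (Fin 3) (Fin 3) F}
    (hA : A.det ≠ 0) {v : Fin 3 → F} (hv : (kry A v).det ≠ 0) : CovS 3 A (A.det • 1) := by
  classical
  have hev : ∀ a : F, (A - a • 1).det = -(a * a * a - A.trace * (a * a) + e2 A * a - A.det) := fun a => by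
    simp [det_fin_three, trace_fin_three, e2]
    ring
  by_cases hno : ∀ a : F, (A - a • 1).det ≠ 0
  · exact covS_three_norm hF hA hno
  push Not at hno
  obtain ⟨a, ha⟩ := hno
  rw [hev, neg_eq_zero] at ha
  by_cases hs : a * a * a - e2 A * a + 2 * A.det ≠ 0
  · exact covS_three_root hF hA hv ha hs
  push Not at hs
  set b := A.trace - 2 * a with hb
  have ha0 : a ≠ 0 := by
    rintro rfl
    exact hA (by simpa using ha)
  have hE : e2 A = a * a + 2 * a * b := by
    refine mul_right_cancel₀ ha0 ?_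
    rw [hb]
    linear_combination 2 * ha + hs
  have hd : A.det = a * a * b := by rw [hE, hb] at ha; rw [hb]; linear_combination -ha
  have hb0 : b ≠ 0 := fun h => hA (by rw [hd, h, mul_zero])
  by_cases hab : b = a
  · set M : Matrix (Fin 3) (Fin 3) F := !![a, a, 0; 0, a, a; 0, 0, a] with hM
    have hMv : (kry M ![0, 0, 1]).det ≠ 0 := by
      simp [kry, hM, det_fin_three, mulVec, dotProduct, Fin.sum_univ_three, ha0]
    have hMA : Sim A M := by
      have h1 := kry_sim hMv
      have e1 : M.det = A.det := by rw [hd, hab]; simp [hM, det_fin_three]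
      have e2' : e2 M = e2 A := by rw [hE, hab]; simp [e2, hM]; ring
      have e3 : M.trace = A.trace := by
        rw [show A.trace = b + 2 * a by rw [hb]; ring, hab]; simp [hM, trace_fin_three]; ring
      rw [e1, e2', e3] at h1
      exact (kry_sim hv).trans h1.symm
    have h3 := CovS.transport_scalar hMA (covS_three_jord hF (a := a))
    rwa [← show A.det = a * a * a by rw [hd, hab]] at h3
  · refine covS_three_root hF hA hv (c := b) ?_ ?_
    · rw [hE, hd, show A.trace = b + 2 * a by rw [hb]; ring]; ring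
    · rw [hE, hd]
      have : b * b * b - (a * a + 2 * a * b) * b + 2 * (a * a * b) = b * ((b - a) * (b - a)) := by ring
      rw [this]
      exact mul_ne_zero hb0 (mul_ne_zero (sub_ne_zero.2 hab) (sub_ne_zero.2 hab))

end Cfsg.Agent.CoverPSL
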