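import Cfsg.Agent.Lib.CoverPSL.Mix
import Cfsg.Agent.Lib.Classical.Thompson.SmallField

/-!
# Scalar multiples of unipotent matrices with cube zero

For `A = k (1 + N)`, `N³ = 0`, the scalar `det A` is a product of `n` conjugates by matrices of
determinant one: blockwise polynomials in `N`, with the determinants of the conjugators matched.
-/

set_option autoImplicit false

namespace Cfsg.Agent.CoverPSL

open Matrix Polynomial Cfsg.Agent.Classical.Thompson

variable {F : Type*} [Field F]

/-- A scalar target does not see the determinant of the conjugator. -/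
theorem CovS.scalar_sim {ι : Type*} [Fintype ι] [DecidableEq ι] {m : ℕ} {A V : Matrix ι ι F} {a : F}
    (h : CovS m V (a • 1)) (hA : Sim A V) : CovS m A (a • 1) := by
  obtain ⟨δ, hδ, P, hP, hAP⟩ := exists_simD hA
  have hu : IsUnit P.det := by rw [hP]; exact isUnit_iff_ne_zero.2 hδ
  obtain ⟨l, hl, hX, hp⟩ := h
  refine ⟨l.map fun X => P * X * P⁻¹, by rw [List.length_map, hl], fun Y hY => ?_, ?_⟩
  · obtain ⟨X, hXl, rfl⟩ := List.mem_map.1 hY
    obtain ⟨H, hH, e⟩ := hX X hXl
    refine ⟨P * H * P⁻¹, ?_, ?_⟩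
    · rw [det_mul, det_mul, det_nonsing_inv, Ring.inverse_eq_inv, hH, hP, mul_one, mul_inv_cancel₀ hδ]
    · calc P * X * P⁻¹ * (P * H * P⁻¹) = P * X * (P⁻¹ * P) * H * P⁻¹ := by simp only [Matrix.mul_assoc]
        _ = P * (X * H) * P⁻¹ := by rw [nonsing_inv_mul _ hu, Matrix.mul_one]; simp only [Matrix.mul_assoc]
        _ = P * H * (V * P⁻¹) := by rw [e]; simp only [Matrix.mul_assoc]
        _ = P * H * P⁻¹ * A := by
          rw [show V * P⁻¹ = P⁻¹ * A by
            calc V * P⁻¹ = P⁻¹ * (P * V) * P⁻¹ := by rw [← Matrix.mul_assoc, nonsing_inv_mul _ hu, Matrix.one_mul]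
              _ = P⁻¹ * A := by rw [← hAP, Matrix.mul_assoc, Matrix.mul_assoc, mul_nonsing_inv _ hu, Matrix.mul_one]]
          simp only [Matrix.mul_assoc]
  · rw [prod_conj P P⁻¹ (mul_nonsing_inv _ hu), hp, Matrix.mul_smul, Matrix.mul_one, Matrix.smul_mul,
      mul_nonsing_inv _ hu]

theorem CovS.smul {ι : Type*} [Fintype ι] [DecidableEq ι] {m : ℕ} {A B : Matrix ι ι F}
    (h : CovS m A B) (c : F) : CovS m (c • A) (c ^ m • B) := by
  obtain ⟨l, hl, hX, hp⟩ := h
  refine ⟨l.map fun X => c • X, by rw [List.length_map, hl], fun Y hY => ?_, by rw [list_prod_smul, hl, hp]⟩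
  obtain ⟨X, hXl, rfl⟩ := List.mem_map.1 hY
  obtain ⟨P, hP, e⟩ := hX X hXl
  exact ⟨P, hP, by rw [Matrix.smul_mul, Matrix.mul_smul, e]⟩

/-! ### One block -/

/-- `1 + x S + y S²` for the lower shift `S` -/
def upoly (j : ℕ) (x y : F) : Matrix (Fin j) (Fin j) F :=
  1 + x • (Classical.RegularUnipotentConj.shift F j)ᵀ +
    y • ((Classical.RegularUnipotentConj.shift F j)ᵀ * (Classical.RegularUnipotentConj.shift F j)ᵀ)

theorem upoly_mul {j : ℕ} (hj : j ≤ 3) (x y x' y' : F) :
    upoly j x y * upoly j x' y' = upoly j (x + x') (y + y' + x * x') := by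
  set S := (Classical.RegularUnipotentConj.shift F j)ᵀ with hS
  have h3 : S * S * S = 0 := by
    have h := jord_nil (F := F) j
    rw [jord_sub, ← hS] at h
    have h' := pow_eq_zero_of_le hj h
    rwa [pow_succ, pow_two] at h'
  simp only [upoly, ← hS, Matrix.add_mul, Matrix.mul_add, Matrix.one_mul, Matrix.mul_one, Matrix.smul_mul,
    Matrix.mul_smul, smul_smul, ← Matrix.mul_assoc, h3, Matrix.zero_mul, smul_zero, add_zero]
  module

/-- the determinant of the conjugator -/
def udet (j : ℕ) (x : F) : F := if j = 2 then x else if j = 3 then x ^ 3 else 1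

theorem udet_ne_zero {j : ℕ} {x : F} (hx : x ≠ 0) : udet j x ≠ 0 := by
  rw [udet]; split_ifs <;> simp [hx]

theorem upoly_simD {j : ℕ} (hj1 : 1 ≤ j) (hj : j ≤ 3) {x : F} (hx : x ≠ 0) (y : F) :
    SimD (udet j x) (upoly j x y) (jord F j) := by
  interval_cases j
  · refine ⟨1, by simp [udet], ?_⟩
    ext i k
    rw [Subsingleton.elim i 0, Subsingleton.elim k 0]
    simp [upoly, jord, Classical.RegularUnipotentConj.shift, Matrix.mul_apply]
  · refine ⟨!![1, 0; 0, x], by simp [udet, det_fin_two], ?_⟩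
    ext i k
    fin_cases i <;> fin_cases k <;>
      simp [upoly, jord, Classical.RegularUnipotentConj.shift, Matrix.mul_apply, Fin.sum_univ_two, Matrix.one_apply]
  · refine ⟨!![1, 0, 0; 0, x, 0; 0, y, x ^ 2], by simp [udet, det_fin_three]; ring, ?_⟩
    ext i k
    fin_cases i <;> fin_cases k <;>
      simp [upoly, jord, Classical.RegularUnipotentConj.shift, Matrix.mul_apply, Fin.sum_univ_three, Matrix.one_apply] <;>
      ring

theorem upoly_prod {j : ℕ} (hj : j ≤ 3) : ∀ l : List F,
    ∃ c : F, (l.map fun x => upoly j x 0).prod = upoly j l.sum c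
  | [] => ⟨0, by simp [upoly]⟩
  | x :: l => by
    obtain ⟨c, hc⟩ := upoly_prod hj l
    exact ⟨0 + c + x * l.sum, by rw [List.map_cons, List.prod_cons, hc, upoly_mul hj, List.sum_cons]⟩

/-- A block of each factor, with product one. -/
theorem exists_block {j n : ℕ} (hj1 : 1 ≤ j) (hj : j ≤ 3) (x : Fin n → F) (hx : ∀ i, x i ≠ 0)
    (hsum : ∑ i, x i = 0) :
    ∃ Z : Fin n → Matrix (Fin j) (Fin j) F, (∀ i, SimD (udet j (x i)) (Z i) (jord F j)) ∧
      (List.ofFn Z).prod = 1 := by
  rcases n with _ | n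
  · exact ⟨fun i => i.elim0, fun i => i.elim0, by simp⟩
  obtain ⟨c, hc⟩ := upoly_prod hj (List.ofFn fun i : Fin n => x i.succ)
  refine ⟨Fin.cons (upoly j (x 0) (-c - x 0 * ∑ i : Fin n, x i.succ)) fun i => upoly j (x i.succ) 0,
    fun i => ?_, ?_⟩
  · refine Fin.cases ?_ (fun i => ?_) i
    · rw [Fin.cons_zero]; exact upoly_simD hj1 hj (hx 0) _
    · rw [Fin.cons_succ]; exact upoly_simD hj1 hj (hx i.succ) _
  · rw [List.ofFn_succ, List.prod_cons, Fin.cons_zero]
    simp only [Fin.cons_succ]
    rw [List.map_ofFn] at hc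
    rw [show (fun i : Fin n => upoly j (x i.succ) 0) = (fun x => upoly j x 0) ∘ fun i : Fin n => x i.succ from rfl,
      hc, upoly_mul hj, List.sum_ofFn]
    rw [Fin.sum_univ_succ] at hsum
    simp [upoly, hsum]
    left; ring

/-! ### The parameters -/

theorem exists_sum_zero [Fintype F] (h3 : 3 ≤ Fintype.card F) : ∀ k : ℕ, 2 ≤ k →
    ∃ l : List F, l.length = k ∧ (∀ x ∈ l, x ≠ 0) ∧ l.sum = 0 := by
  intro k
  induction k using Nat.strong_induction_on with
  | _ k ih =>
    intro hk
    obtain ⟨a, ha0, ha1⟩ := exists_ne_zero_one h3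
    rcases lt_trichotomy k 3 with h | rfl | h
    · obtain rfl : k = 2 := by omega
      exact ⟨[1, -1], rfl, by simp, by simp⟩
    · exact ⟨[a, 1 - a, -1], rfl, by simp [ha0, sub_ne_zero.2 (Ne.symm ha1)], by simp; ring⟩
    · obtain ⟨l, hl, hl0, hls⟩ := ih (k - 2) (by omega) (by omega)
      exact ⟨1 :: -1 :: l, by simp [hl]; omega, by simpa using hl0, by simp [hls]⟩

/-- Three rows with constant product and zero sums. -/
theorem exists_table (h2 : (2 : F) ≠ 0) : ∀ p : ℕ,
    ∃ l : List (F × F × F), l.length = 4 * p + 6 ∧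
      (∀ t ∈ l, t.1 ≠ 0 ∧ t.2.1 ≠ 0 ∧ t.2.2 ≠ 0 ∧ t.1 * t.2.1 * t.2.2 = -2) ∧
      (l.map fun t => t.1).sum = 0 ∧ (l.map fun t => t.2.1).sum = 0 ∧ (l.map fun t => t.2.2).sum = 0
  | 0 => by
    refine ⟨[(1, 1, -2), (1, -2, 1), (-2, 1, 1), (1, 1, -2), (1, -2, 1), (-2, 1, 1)], rfl, ?_, ?_, ?_, ?_⟩
    · simp [h2]
    all_goals (simp; try ring)
  | p + 1 => by
    obtain ⟨l, hl, hl0, hs1, hs2, hs3⟩ := exists_table h2 p
    refine ⟨(-2, 1, 1) :: (2, 1, -1) :: (-2, -1, -1) :: (2, -1, 1) :: l, by simp [hl]; omega, ?_, ?_, ?_, ?_⟩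
    · simp only [List.forall_mem_cons]
      refine ⟨?_, ?_, ?_, ?_, hl0⟩ <;> simp [h2]
    · simp [hs1]
    · simp [hs2]
    · simp [hs3]

/-- Parameters for all blocks, the determinants of the conjugators differing by centraliser values. -/
theorem exists_params [Fintype F] (h3 : 3 ≤ Fintype.card F) {r n : ℕ} (k : Fin r → ℕ)
    (hk : ∀ b, 1 ≤ k b ∧ k b ≤ 3) (hsum : ∑ b, k b = n) (hn : 5 ≤ n) :
    ∃ (x : Fin r → Fin n → F) (c : F) (s : Fin r → Fin n → F), c ≠ 0 ∧ (∀ b i, x b i ≠ 0 ∧ s b i ≠ 0) ∧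
      (∀ b, ∑ i, x b i = 0) ∧ ∀ i, ∏ b, udet (k b) (x b i) = c * ∏ b, s b i ^ k b := by
  classical
  obtain ⟨l, hl, hl0, hls⟩ := exists_sum_zero h3 n (by omega)
  subst hl
  have hy : ∀ i : Fin l.length, l.get i ≠ 0 := fun i => hl0 _ (List.get_mem l i)
  have hys : ∑ i, l.get i = 0 := by rw [← List.sum_ofFn, List.ofFn_get, hls]
  have full : (∀ t : F, t ≠ 0 → ∃ s : Fin r → F, (∀ b, s b ≠ 0) ∧ ∏ b, s b ^ k b = t) →
      ∃ (x : Fin r → Fin l.length → F) (c : F) (s : Fin r → Fin l.length → F), c ≠ 0 ∧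
        (∀ b i, x b i ≠ 0 ∧ s b i ≠ 0) ∧
        (∀ b, ∑ i, x b i = 0) ∧ ∀ i, ∏ b, udet (k b) (x b i) = c * ∏ b, s b i ^ k b := by
    intro hfull
    choose s hs0 hs using fun i : Fin l.length => hfull (∏ b, udet (k b) (l.get i))
      (Finset.prod_ne_zero_iff.2 fun b _ => udet_ne_zero (hy i))
    exact ⟨fun _ i => l.get i, 1, fun b i => s i b, one_ne_zero, fun b i => ⟨hy i, hs0 i b⟩,
      fun _ => hys, fun i => by rw [one_mul, hs i]⟩
  by_cases h1 : ∃ b, k b = 1
  · obtain ⟨b₁, hb₁⟩ := h1
    refine full fun t ht => ⟨fun b => if b = b₁ then t else 1, fun b => ?_, ?_⟩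
    · dsimp only
      split_ifs <;> simp [ht]
    · rw [Finset.prod_eq_single b₁ (fun b _ hb => by simp [hb]) (by simp)]
      simp [hb₁]
  push Not at h1
  by_cases h23 : (∃ b, k b = 3) ∧ ∃ b, k b = 2
  · obtain ⟨⟨b₃, hb₃⟩, b₂, hb₂⟩ := h23
    have hne : b₂ ≠ b₃ := fun h => by rw [h, hb₃] at hb₂; omega
    refine full fun t ht => ⟨fun b => if b = b₃ then t else if b = b₂ then t⁻¹ else 1, fun b => ?_, ?_⟩
    · dsimp only
      split_ifs <;> simp [ht]
    · rw [← Finset.mul_prod_erase _ _ (Finset.mem_univ b₃), Finset.prod_eq_single b₂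
        (fun b hb hb' => by simp [hb', (Finset.mem_erase.1 hb).1]) (by simp [hne])]
      simp [hb₃, hb₂, hne]
      field_simp
  by_cases h2' : ∀ b, k b = 3
  · exact ⟨fun _ i => l.get i, 1, fun _ i => l.get i, one_ne_zero, fun _ i => ⟨hy i, hy i⟩, fun _ => hys,
      fun i => by simp [udet, h2']⟩
  -- all blocks have size two
  have hall : ∀ b, k b = 2 := fun b => by
    push Not at h2'
    obtain ⟨b', hb'⟩ := h2'
    have := hk b; have := hk b'; have := h1 b; have := h1 b'
    by_contra hne
    exact h23 ⟨⟨b, by omega⟩, b', by omega⟩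
  have hr : l.length = 2 * r := by
    rw [← hsum, Finset.sum_congr rfl fun b _ => hall b, Finset.sum_const, Finset.card_univ, Fintype.card_fin,
      smul_eq_mul, mul_comm]
  by_cases hchar : (2 : F) = 0
  · haveI : CharP F 2 := CharTwo.of_one_ne_zero_of_two_eq_zero one_ne_zero hchar
    refine full fun t ht => ?_
    obtain ⟨u, rfl⟩ := FiniteField.isSquare_of_char_two (ringChar.eq F 2) t
    let b₀ : Fin r := ⟨0, by omega⟩
    refine ⟨fun b => if b = b₀ then u else 1, fun b => ?_, ?_⟩
    · dsimp only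
      split_ifs <;> simp [left_ne_zero_of_mul ht]
    · rw [Finset.prod_eq_single b₀ (fun b _ hb => by simp [hb]) (by simp)]
      simp [hall, pow_two]
  rcases Nat.even_or_odd r with hev | hod
  · obtain ⟨q, hq⟩ := hev
    refine ⟨fun _ i => l.get i, 1, fun b i => if b.val < q then l.get i else 1, one_ne_zero,
      fun b i => ⟨hy i, by dsimp only; split_ifs <;> first | exact hy i | exact one_ne_zero⟩, fun _ => hys, fun i => ?_⟩
    rw [one_mul]
    simp only [udet, hall, if_true, Finset.prod_const, Finset.card_univ, Fintype.card_fin, ite_pow, one_pow,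
      Finset.prod_ite, mul_one]
    rw [Fin.card_filter_val_lt, min_eq_right (by omega), ← pow_mul]
    congr 1
    omega
  · obtain ⟨q, hq⟩ := hod
    obtain ⟨T, hTl, hT0, hT1, hT2, hT3⟩ := exists_table hchar (q - 1)
    have hlen : T.length = l.length := by omega
    let col : Fin l.length → F × F × F := fun i => T.get (Fin.cast hlen.symm i)
    have hcol : List.ofFn col = T := by
      refine List.ext_getElem (by simp [hlen]) fun i h₁ h₂ => ?_
      simp [col]
    let x : Fin r → Fin l.length → F := fun b i =>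
      if b.val = 0 then (col i).1 else if b.val = 1 then (col i).2.1
        else if b.val = 2 then (col i).2.2 else l.get i
    let s : Fin r → Fin l.length → F := fun b i => if 2 < b.val ∧ b.val < q + 2 then l.get i else 1
    refine ⟨x, -2, s, neg_ne_zero.2 hchar, fun b i => ⟨?_, ?_⟩, fun b => ?_, fun i => ?_⟩
    · obtain ⟨h1', h2'', h3', -⟩ := hT0 (col i) (List.get_mem T _)
      simp only [x]; split_ifs
      exacts [h1', h2'', h3', hy i]
    · simp only [s]; split_ifs
      exacts [hy i, one_ne_zero]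
    · simp only [x]
      split_ifs
      · rw [← List.sum_ofFn, ← hT1, ← hcol, List.map_ofFn]; rfl
      · rw [← List.sum_ofFn, ← hT2, ← hcol, List.map_ofFn]; rfl
      · rw [← List.sum_ofFn, ← hT3, ← hcol, List.map_ofFn]; rfl
      · exact hys
    · obtain ⟨-, -, -, hprod⟩ := hT0 (col i) (List.get_mem T _)
      simp only [udet, hall, if_true]
      obtain ⟨m, rfl⟩ : ∃ m, r = 3 + m := ⟨r - 3, by omega⟩
      rw [Fin.prod_univ_add, Fin.prod_univ_add, Fin.prod_univ_three, Fin.prod_univ_three]
      simp only [x, s, Fin.val_castAdd, Fin.val_natAdd, Fin.val_zero, Fin.val_one, Fin.val_two,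
        OfNat.ofNat_ne_zero, one_ne_zero, if_true, if_false, show (2 : ℕ) ≠ 1 from by omega,
        lt_self_iff_false, false_and, Nat.not_lt_zero, show ¬ (2 : ℕ) < 1 from by omega, one_pow, one_mul]
      have hf : ∀ j : Fin m, ¬ (3 + j.val = 0) ∧ ¬ (3 + j.val = 1) ∧ ¬ (3 + j.val = 2) :=
        fun j => ⟨by omega, by omega, by omega⟩
      simp only [(hf _).1, (hf _).2.1, (hf _).2.2, if_false, Finset.prod_const, Finset.card_univ, Fintype.card_fin,
        hprod, show ∀ j : Fin m, 2 < 3 + j.val from fun j => by omega, true_and, ite_pow, one_pow,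
        Finset.prod_ite, mul_one]
      congr 1
      have hcard : (Finset.univ.filter fun j : Fin m => 3 + j.val < q + 2).card = q - 1 := by
        have e : (Finset.univ.filter fun j : Fin m => 3 + j.val < q + 2) =
            Finset.univ.filter fun j : Fin m => j.val < q - 1 :=
          Finset.filter_congr fun j _ => by omega
        rw [e, Fin.card_filter_val_lt, min_eq_right (by omega)]
      rw [hcard, ← pow_mul]
      congr 1
      omega

/-! ### Assembly -/

theorem simD_jord {j : ℕ} (f : F[X]) (hf : f.Monic) (hd : f.natDegree = j) (hj : 1 ≤ j)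
    (h3 : (compMat f hf hd - 1) ^ 3 = 0) : j ≤ 3 ∧ SimD 1 (jord F j) (compMat f hf hd) := by
  classical
  set b := (AdjoinRoot.powerBasis' hf).basis.reindex (finCongr hd)
  have h0 : AdjoinRoot.mk f ((X - C 1) ^ 3) = 0 := by
    refine Algebra.leftMulMatrix_injective b ?_
    rw [map_zero, ← h3, map_pow, map_sub, AdjoinRoot.mk_X, map_one, map_one, map_pow, map_sub, map_one]
    rfl
  obtain ⟨i, hi, he⟩ := (dvd_prime_pow (prime_X_sub_C (1 : F)) 3).1 (AdjoinRoot.mk_eq_zero.1 h0)
  have hf' : f = (X - C 1) ^ i := eq_of_monic_of_associated hf ((monic_X_sub_C 1).pow i) he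
  have hij : i = j := by rw [← hd, hf', natDegree_pow, natDegree_X_sub_C, mul_one]
  refine ⟨by omega, hess_simD ?_ f hf hd ?_⟩
  · intro a c
    constructor <;> intro h <;>
      simp only [jord, Classical.RegularUnipotentConj.shift, Matrix.add_apply, Matrix.transpose_apply,
        Matrix.one_apply, Matrix.of_apply, Fin.ext_iff]
    · rw [if_neg (by omega), if_neg (by omega), add_zero]
    · rw [if_neg (by omega), if_pos (by omega), zero_add]
  · have hT : (jord F j)ᵀ.IsUpperTriangular := by
      intro a c hac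
      have hac' : c.val < a.val := hac
      simp [jord, Classical.RegularUnipotentConj.shift, ne_of_lt hac', Fin.ext_iff]
      omega
    rw [← charpoly_transpose, charpoly_of_isUpperTriangular _ hT, hf', hij,
      Finset.prod_congr rfl fun a _ => show X - C ((jord F j)ᵀ a a) = X - C 1 by
        simp [jord, Classical.RegularUnipotentConj.shift], Finset.prod_const, Finset.card_univ, Fintype.card_fin]

/-- Scalar multiples of unipotent matrices with cube zero. -/
theorem covS_uni [Fintype F] (hq : 3 ≤ Fintype.card F) {n : ℕ} (hn : 5 ≤ n) {A : Matrix (Fin n) (Fin n) F} {k : F}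
    (hk : k ≠ 0) (h : (A - k • 1) ^ 3 = 0) : CovS n A (A.det • 1) := by
  classical
  set u := k⁻¹ • A with hu
  have hA : A = k • u := by rw [hu, smul_smul, mul_inv_cancel₀ hk, one_smul]
  have hu3 : (u - 1) ^ 3 = 0 := by
    have e : A - k • 1 = k • (u - 1) := by rw [hA, smul_sub]
    rw [e, _root_.smul_pow] at h
    exact (smul_eq_zero.1 h).resolve_left (pow_ne_zero _ hk)
  obtain ⟨r, j, f, hf, hd, e, hj1, hsim⟩ := exists_cyclic u
  have hblk3 : ∀ b, (compMat (f b) (hf b) (hd b) - 1) ^ 3 = 0 := by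
    obtain ⟨P, Q, hPQ, he⟩ := hsim.symm
    intro b
    have h1 : ((blockDiagonal' fun b => compMat (f b) (hf b) (hd b)).reindex e e - 1) ^ 3 = 0 := by
      have h2 : (blockDiagonal' fun b => compMat (f b) (hf b) (hd b)).reindex e e - 1 = P * (u - 1) * Q := by
        rw [he, Matrix.mul_sub, Matrix.sub_mul, Matrix.mul_one, hPQ]
      have hQP : Q * P = 1 := mul_eq_one_comm.1 hPQ
      have h3' : ∀ N : Matrix (Fin n) (Fin n) F, (P * N * Q) ^ 3 = P * N ^ 3 * Q := fun N => by
        rw [pow_succ, pow_two, pow_succ, pow_two]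
        calc P * N * Q * (P * N * Q) * (P * N * Q) = P * N * (Q * P) * N * (Q * P) * N * Q := by
              simp only [Matrix.mul_assoc]
          _ = _ := by rw [hQP]; simp only [Matrix.mul_one, Matrix.mul_assoc]
      rw [h2, h3', hu3, Matrix.mul_zero, Matrix.zero_mul]
    have h4 : ((blockDiagonal' fun b => compMat (f b) (hf b) (hd b)) - 1) ^ 3 = 0 := by
      have h5 : (blockDiagonal' fun b => compMat (f b) (hf b) (hd b)).reindex e e - 1 =
          Matrix.reindexAlgEquiv F F e ((blockDiagonal' fun b => compMat (f b) (hf b) (hd b)) - 1) := by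
        rw [map_sub, map_one]; rfl
      rw [h5, ← map_pow] at h1
      exact (Matrix.reindexAlgEquiv F F e).injective (h1.trans (map_zero _).symm)
    have h6 : blockDiagonal' (fun b => (compMat (f b) (hf b) (hd b) - 1) ^ 3) = 0 := by
      rw [← h4, ← blockDiagonal'_one, ← blockDiagonal'_sub, ← blockDiagonal'_pow]
      rfl
    have h7 := congrFun (blockDiagonal'_injective (h6.trans blockDiagonal'_zero.symm)) b
    exact h7
  have hjb : ∀ b, 1 ≤ j b ∧ j b ≤ 3 := fun b => ⟨hj1 b, (simD_jord _ (hf b) (hd b) (hj1 b) (hblk3 b)).1⟩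
  have hnsum : ∑ b, j b = n := by
    have := Fintype.card_congr e
    simpa using this
  obtain ⟨x, c, s, hc, hne, hsum, hdet⟩ := exists_params hq j hjb hnsum hn
  choose Z hZ hZp using fun b => exists_block (hjb b).1 (hjb b).2 (x b) (fun i => (hne b i).1) (hsum b)
  set J := (blockDiagonal' fun b => jord F (j b)).reindex e e with hJ
  have huJ : Sim u J := by
    refine hsim.trans (Sim.reindex ?_ e)
    choose P hP he using fun b => ((simD_jord _ (hf b) (hd b) (hj1 b) (hblk3 b)).2.symm one_ne_zero)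
    refine sim_of_mul_eq (P := blockDiagonal' P) ?_ ?_
    · rw [det_blockDiag']
      exact Finset.prod_ne_zero_iff.2 fun b _ => by rw [hP b]; simp
    · rw [← blockDiagonal'_mul, ← blockDiagonal'_mul]
      exact congrArg _ (funext he)
  set M : Fin n → Matrix (Fin n) (Fin n) F := fun i => (blockDiagonal' fun b => Z b i).reindex e e
  have hM : ∀ i, SimD c (M i) J := by
    intro i
    choose P hP he using fun b => hZ b i
    refine ⟨(blockDiagonal' fun b => (s b i)⁻¹ • P b).reindex e e, ?_, ?_⟩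
    · rw [det_reindex_self, det_blockDiag']
      simp only [det_smul, Fintype.card_fin, hP]
      rw [Finset.prod_mul_distrib, hdet i, ← mul_assoc, mul_comm _ c, mul_assoc, ← Finset.prod_mul_distrib,
        Finset.prod_eq_one fun b _ => by rw [inv_pow, inv_mul_cancel₀ (pow_ne_zero _ (hne b i).2)], mul_one]
    · simp only [M, hJ, reindex_apply, submatrix_mul_equiv, ← blockDiagonal'_mul, Matrix.mul_smul,
        Matrix.smul_mul, he]
  -- a representative for which every conjugator has determinant one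
  let D : Matrix (Fin n) (Fin n) F := diagonal fun i => if i = (⟨0, by omega⟩ : Fin n) then c else 1
  have hD : D.det = c := by
    rw [det_diagonal, Finset.prod_ite_eq']
    simp
  have hDu : IsUnit D.det := by rw [hD]; exact isUnit_iff_ne_zero.2 hc
  set V := D * J * D⁻¹ with hV
  have hcov : CovS n V ((1 : F) • 1) := by
    refine ⟨List.ofFn M, List.length_ofFn, fun X hX => ?_, ?_⟩
    · obtain ⟨i, rfl⟩ := List.mem_ofFn.1 hX
      have h2 : SimD c⁻¹ J V := ⟨D⁻¹, by rw [det_nonsing_inv, Ring.inverse_eq_inv, hD], by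
        rw [hV, ← Matrix.mul_assoc, ← Matrix.mul_assoc, nonsing_inv_mul _ hDu, Matrix.one_mul]⟩
      simpa [hc] using (hM i).trans h2
    · have key : ∀ (q : ℕ) (W : Fin q → ∀ b, Matrix (Fin (j b)) (Fin (j b)) F),
          (List.ofFn fun i => (blockDiagonal' (W i)).reindex e e).prod =
            (blockDiagonal' fun b => (List.ofFn fun i => W i b).prod).reindex e e := by
        intro q
        induction q with
        | zero =>
          intro W
          simp [show (fun b => (1 : Matrix (Fin (j b)) (Fin (j b)) F)) = 1 from rfl, blockDiagonal'_one]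
        | succ q ih =>
          intro W
          simp only [List.ofFn_succ, List.prod_cons, ih fun i => W i.succ, blockDiagonal'_mul]
          simp [submatrix_mul_equiv]
      rw [show List.ofFn M = List.ofFn fun i => (blockDiagonal' fun b => Z b i).reindex e e from rfl, key]
      simp [hZp, show (fun b => (1 : Matrix (Fin (j b)) (Fin (j b)) F)) = 1 from rfl, blockDiagonal'_one]
  have hJV : Sim J V := by
    refine ⟨D⁻¹, D, nonsing_inv_mul _ hDu, ?_⟩
    rw [hV, ← Matrix.mul_assoc, ← Matrix.mul_assoc, nonsing_inv_mul _ hDu, Matrix.one_mul, Matrix.mul_assoc,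
      nonsing_inv_mul _ hDu, Matrix.mul_one]
  have h1 := (hcov.scalar_sim (huJ.trans hJV)).smul k
  have hdu : u.det = 1 := by
    rw [huJ.det_eq, hJ, det_reindex_self, det_blockDiag']
    exact Finset.prod_eq_one fun b _ => jord_det (j b)
  have hAd : A.det = k ^ n := by rw [hA, det_smul, hdu, Fintype.card_fin, mul_one]
  rw [hAd]
  simpa [← hA] using h1

end Cfsg.Agent.CoverPSL
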