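import Cfsg.Agent.Lib.CoverPSL.Models
import Cfsg.Agent.Lib.CoverPSL.ThreeS
import Cfsg.Agent.Lib.CoverPSL.Pseudo
import Cfsg.Agent.Lib.CoverPSL.Uni

/-!
# Scalar target: the small classes with eigenspaces of codimension three
-/

set_option autoImplicit false

namespace Cfsg.Agent.CoverPSL

open Matrix Cfsg.Agent.Classical.Thompson

variable {F : Type*} [Field F] [Fintype F]

theorem exists_add_smul {V : Type*} [AddCommGroup V] [Module F V] [FiniteDimensional F V] {E I : Submodule F V}
    (hEI : E ≤ I) (h : Module.finrank F I = Module.finrank F E + 1) {z : V} (hzI : z ∈ I) (hzE : z ∉ E) :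
    ∀ x ∈ I, ∃ e ∈ E, ∃ c : F, x = e + c • z := by
  intro x hx
  have hlt : E < E ⊔ Submodule.span F {z} :=
    lt_of_le_of_ne le_sup_left fun he =>
      hzE (he ▸ Submodule.mem_sup_right (Submodule.mem_span_singleton_self z))
  have h1 := Submodule.finrank_lt_finrank_of_lt hlt
  have he : E ⊔ Submodule.span F {z} = I :=
    Submodule.eq_of_le_of_finrank_le (sup_le hEI ((Submodule.span_singleton_le_iff_mem _ _).2 hzI)) (by omega)
  rw [← he] at hx
  obtain ⟨e, he, y, hy, rfl⟩ := Submodule.mem_sup.1 hx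
  obtain ⟨c, rfl⟩ := Submodule.mem_span_singleton.1 hy
  exact ⟨e, he, c, rfl⟩

/-- the indices of the five-dimensional models -/
def fiveEquiv : Fin 2 ⊕ (Fin 1 ⊕ Fin 2) ≃ Fin 5 :=
  (Equiv.sumCongr (Equiv.refl _) finSumFinEquiv).trans finSumFinEquiv

/-- `k J₂ ⊕ a ⊕ R` in dimension five. -/
theorem mix_five (hF : 4 ≤ Fintype.card F) {A : Matrix (Fin 5) (Fin 5) F} (hA : A.det = 1) {k a : F}
    (hk : k ≠ 0) (ha : a ≠ 0) (hak : a ≠ k) {R R' : Matrix (Fin 2) (Fin 2) F} (hR' : Sim R' R)
    (hsim : Sim A ((fromBlocks (k • jord F 2) 0 0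
      (fromBlocks (a • (1 : Matrix (Fin 1) (Fin 1) F)) 0 0 R)).reindex fiveEquiv fiveEquiv))
    (hns : ∀ c : F, fromBlocks ((((a * R.det) ^ (1 + 2) * R.det ^ 2))⁻¹ • (1 : Matrix (Fin 1) (Fin 1) F)) 0 0
      (R * R') ≠ c • 1)
    (h3 : ∀ B : Matrix (Fin 3) (Fin 3) F,
      B.det = ((fromBlocks (a • (1 : Matrix (Fin 1) (Fin 1) F)) 0 0 R).reindex finSumFinEquiv finSumFinEquiv).det ^ 3 →
      (∀ c : F, B ≠ c • 1) →
      Cov 3 ((fromBlocks (a • (1 : Matrix (Fin 1) (Fin 1) F)) 0 0 R).reindex finSumFinEquiv finSumFinEquiv) B) :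
    CovS 5 A 1 := by
  classical
  have hdet : k ^ 2 * (a * R.det) = 1 := by
    rw [← hA, hsim.det_eq, det_reindex_self]
    simp [det_smul, jord_det]
  have hdR : R.det ≠ 0 := fun h => by rw [h, mul_zero, mul_zero] at hdet; exact zero_ne_one hdet
  set G := fromBlocks ((((a * R.det) ^ (1 + 2) * R.det ^ 2))⁻¹ • (1 : Matrix (Fin 1) (Fin 1) F)) 0 0 (R * R')
    with hG
  have hGd : G.det = ((a * R.det) ^ 3)⁻¹ := by
    rw [hG, det_fromBlocks_zero₂₁, det_mul, hR'.det_eq, det_smul, det_one, Fintype.card_fin]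
    field_simp
    ring
  have hG0 : G.det ≠ 0 := by rw [hGd]; exact inv_ne_zero (pow_ne_zero _ (mul_ne_zero ha hdR))
  refine covS_one_of_model fiveEquiv hsim (((centFull_smul_one 0 a).fromBlocks_left _).fromBlocks_right _)
    (mix_cov hF le_rfl hk ha hak hR' hdet ?_)
  have h := (h3 (G⁻¹.reindex finSumFinEquiv finSumFinEquiv) ?_ ?_).reindex
    (finSumFinEquiv (m := 1) (n := 2)).symm
  · convert h using 1 <;> (ext i j; simp [hG])
  · rw [det_reindex_self, det_reindex_self, det_nonsing_inv, Ring.inverse_eq_inv, hGd, inv_inv,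
      det_fromBlocks_zero₂₁]
    simp
  · intro c hc
    refine inv_ne_smul_one hG0 hns c ?_
    ext i j
    have := congrFun (congrFun hc (finSumFinEquiv i)) (finSumFinEquiv j)
    simpa [Matrix.one_apply] using this

/-- One eigenspace of codimension three, inside the image. -/
theorem covS_one_inside (hF : 4 ≤ Fintype.card F) {A : Matrix (Fin 5) (Fin 5) F} (hA : A.det = 1) {k : F}
    (hr : (A - k • 1).rank = 3)
    (hle : LinearMap.ker (A - k • 1).mulVecLin ≤ LinearMap.range (A - k • 1).mulVecLin) : CovS 5 A 1 := by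
  classical
  have hk : k ≠ 0 := by
    rintro rfl
    have h := rank_of_isUnit A ((isUnit_iff_isUnit_det A).2 (by rw [hA]; exact isUnit_one))
    rw [zero_smul, sub_zero, h, Fintype.card_fin] at hr
    omega
  set N := A - k • 1 with hN
  have hAN : ∀ x, A *ᵥ x = N *ᵥ x + k • x := fun x => by simp [N, sub_mulVec, smul_mulVec]
  set I := LinearMap.range N.mulVecLin with hI
  set E := LinearMap.ker N.mulVecLin with hE
  have hIN : ∀ x, N *ᵥ x ∈ I := fun x => ⟨x, rfl⟩
  have hEN : ∀ x, x ∈ E ↔ N *ᵥ x = 0 := fun x => LinearMap.mem_ker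
  have hIf : Module.finrank F I = 3 := hr
  have hEf : Module.finrank F E = 2 := by
    have h := LinearMap.finrank_range_add_finrank_ker N.mulVecLin
    rw [Module.finrank_pi, Fintype.card_fin, ← hI, ← hE] at h
    omega
  obtain ⟨z, hzI, hzE⟩ : ∃ z ∈ I, z ∉ E := SetLike.exists_of_lt (lt_of_le_of_ne hle fun h => by rw [h] at hEf; omega)
  set l := N *ᵥ z with hl
  obtain ⟨e₀, he₀, t, ht⟩ := exists_add_smul hle (by omega) hzI hzE l (hIN z)
  have hNl : N *ᵥ l = t • l := by
    rw [ht, mulVec_add, (hEN e₀).1 he₀, zero_add, mulVec_smul, ← hl, ← ht]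
  by_cases ht0 : t = 0
  · have h3 : N ^ 3 = 0 := by
      refine ext_of_mulVec_single fun j => ?_
      obtain ⟨e, he, c, hec⟩ := exists_add_smul hle (by omega) hzI hzE _ (hIN (Pi.single j 1))
      rw [zero_mulVec, pow_succ, pow_two, ← mulVec_mulVec, ← mulVec_mulVec, hec]
      simp [mulVec_add, mulVec_smul, (hEN e).1 he, ← hl, hNl, ht0]
    simpa [hA] using covS_uni (by omega) (le_refl 5) hk h3
  have hlE : l ∉ E := fun h => hzE ((hEN z).2 (by
    have h1 := (hEN l).1 h
    rw [hNl] at h1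
    exact (smul_eq_zero.1 h1).resolve_left ht0))
  let b := Module.finBasisOfFinrankEq F E hEf
  obtain ⟨y₀, hy₀'⟩ : (b 0 : Fin 5 → F) ∈ I := hle (b 0).2
  obtain ⟨y₁, hy₁'⟩ : (b 1 : Fin 5 → F) ∈ I := hle (b 1).2
  have hy₀ : N *ᵥ y₀ = (b 0 : Fin 5 → F) := hy₀'
  have hy₁ : N *ᵥ y₁ = (b 1 : Fin 5 → F) := hy₁'
  have hNb : ∀ i, N *ᵥ (b i : Fin 5 → F) = 0 := fun i => (hEN _).1 (b i).2
  set a := k + t with ha
  let v : Fin 2 ⊕ (Fin 1 ⊕ Fin 2) → Fin 5 → F :=
    Sum.elim ![y₀, k⁻¹ • (b 0 : Fin 5 → F)] (Sum.elim (fun _ => l) ![y₁, k⁻¹ • (b 1 : Fin 5 → F)])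
  have hsim : Sim A ((fromBlocks (k • jord F 2) 0 0
      (fromBlocks (a • (1 : Matrix (Fin 1) (Fin 1) F)) 0 0 (k • jord F 2))).reindex fiveEquiv fiveEquiv) := by
    refine sim_of_fam fiveEquiv _ v (fun w => ?_) ?_
    · have hv : ∀ i, v i ∈ Submodule.span F (Set.range v) := fun i => Submodule.subset_span ⟨i, rfl⟩
      have hb : ∀ i : Fin 2, (b i : Fin 5 → F) ∈ Submodule.span F (Set.range v) := fun i => by
        have h0 := Submodule.smul_mem _ k (hv (Sum.inl 1))
        have h1 := Submodule.smul_mem _ k (hv (Sum.inr (Sum.inr 1)))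
        fin_cases i
        · simpa [v, smul_smul, hk] using h0
        · simpa [v, smul_smul, hk] using h1
      have hEs : ∀ x ∈ E, x ∈ Submodule.span F (Set.range v) := fun x hx => by
        have := congrArg Subtype.val (b.sum_repr ⟨x, hx⟩)
        rw [AddSubmonoidClass.coe_finsetSum] at this
        rw [← show _ = x from this]
        exact Submodule.sum_mem _ fun i _ => Submodule.smul_mem _ _ (hb i)
      obtain ⟨e, he, c, hec⟩ := exists_add_smul hle (by omega) (hIN z) hlE _ (hIN w)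
      have hes := congrArg Subtype.val (b.sum_repr ⟨e, he⟩)
      rw [Fin.sum_univ_two] at hes
      simp only [Submodule.coe_add, Submodule.coe_smul] at hes
      set r₀ := b.repr ⟨e, he⟩ 0
      set r₁ := b.repr ⟨e, he⟩ 1
      have h1 : w - r₀ • y₀ - r₁ • y₁ - (c / t) • l ∈ E := by
        rw [hEN, mulVec_sub, mulVec_sub, mulVec_sub, mulVec_smul, mulVec_smul, mulVec_smul, hy₀, hy₁, hNl,
          smul_smul, div_mul_cancel₀ _ ht0, hec, ← hl, ← hes]
        abel
      simpa [v] using add_mem (add_mem (add_mem (hEs _ h1) (Submodule.smul_mem _ (c / t) (hv (Sum.inr (Sum.inl 0)))))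
        (Submodule.smul_mem _ r₁ (hv (Sum.inr (Sum.inr 0))))) (Submodule.smul_mem _ r₀ (hv (Sum.inl 0)))
    · rintro (j | j | j)
      · fin_cases j <;> simp [v, hAN, hy₀, hNb, mulVec_smul, Fintype.sum_sum_type, jord,
          Classical.RegularUnipotentConj.shift, Matrix.one_apply, smul_smul, hk, add_comm]
      · simp [v, hAN, hNl, Fintype.sum_sum_type, Fin.fin_one_eq_zero, ha, add_smul, add_comm]
      · fin_cases j <;> simp [v, hAN, hy₁, hNb, mulVec_smul, Fintype.sum_sum_type, jord,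
          Classical.RegularUnipotentConj.shift, Matrix.one_apply, smul_smul, hk, add_comm]
  have ha0 : a ≠ 0 := by
    intro h
    have h1 := hsim.det_eq
    rw [hA, det_reindex_self] at h1
    simp [h] at h1
  have hak : a ≠ k := by simpa [ha] using ht0
  refine mix_five hF hA hk ha0 hak (sim_scale (jord_transpose_sim 2) k) hsim (fun c hc => ?_) fun B hB hns => ?_
  · have := congrFun (congrFun hc (Sum.inr 1)) (Sum.inr 0)
    simp [jord, Classical.RegularUnipotentConj.shift, Matrix.mul_apply, Fin.sum_univ_two, hk] at this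
  · have e : (fromBlocks (a • (1 : Matrix (Fin 1) (Fin 1) F)) 0 0 (k • jord F 2)).reindex finSumFinEquiv
        finSumFinEquiv = !![a, 0, 0; 0, k, 0; 0, k, k] := by
      ext i j
      obtain ⟨i, rfl⟩ := (finSumFinEquiv (m := 1) (n := 2)).surjective i
      obtain ⟨j, rfl⟩ := (finSumFinEquiv (m := 1) (n := 2)).surjective j
      rcases i with i | i <;> rcases j with j | j <;> fin_cases i <;> fin_cases j <;>
        simp [jord, Classical.RegularUnipotentConj.shift, Matrix.one_apply] <;> rfl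
    rw [e] at hB ⊢
    have hkry : (kry (!![a, 0, 0; 0, k, 0; 0, k, k] : Matrix (Fin 3) (Fin 3) F) ![1, 1, 0]).det ≠ 0 := by
      have e' : (kry (!![a, 0, 0; 0, k, 0; 0, k, k] : Matrix (Fin 3) (Fin 3) F) ![1, 1, 0]).det =
          k * (a - k) ^ 2 := by
        simp [kry, det_fin_three, mulVec, dotProduct, Fin.sum_univ_three]
        ring
      rw [e']
      exact mul_ne_zero hk (pow_ne_zero _ (sub_ne_zero.2 hak))
    exact (covS_three hF (by simp [det_fin_three, ha0, hk]) hkry hB hns).cov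

/-- `k J₂ ⊕ k ⊕ k' k'` -/
theorem covS_one_jump (hF : 4 ≤ Fintype.card F) {A : Matrix (Fin 5) (Fin 5) F} (hA : A.det = 1) {k k' : F}
    (hne : k ≠ k') (hr : (A - k • 1).rank = 3) (hr' : (A - k' • 1).rank = 3) {w : Fin 5 → F}
    (hw : w ∉ LinearMap.ker (A - k • 1).mulVecLin ⊔ LinearMap.ker (A - k' • 1).mulVecLin)
    (hw' : (A - k • 1) *ᵥ w ∈ LinearMap.ker (A - k • 1).mulVecLin ⊔ LinearMap.ker (A - k' • 1).mulVecLin) :
    CovS 5 A 1 := by
  classical
  have hu : IsUnit A := (isUnit_iff_isUnit_det A).2 (by rw [hA]; exact isUnit_one)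
  have h0 : ∀ c : F, (A - c • 1).rank = 3 → c ≠ 0 := fun c hc h => by
    rw [h, zero_smul, sub_zero, rank_of_isUnit A hu, Fintype.card_fin] at hc
    omega
  have hk := h0 k hr
  have hk' := h0 k' hr'
  set E := LinearMap.ker (A - k • 1).mulVecLin with hE
  set E' := LinearMap.ker (A - k' • 1).mulVecLin with hE'
  have memE : ∀ (c : F) (x : Fin 5 → F), x ∈ LinearMap.ker (A - c • 1).mulVecLin ↔ A *ᵥ x = c • x := fun c x => by
    rw [LinearMap.mem_ker, mulVecLin_apply, sub_mulVec, smul_mulVec, one_mulVec, sub_eq_zero]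
  have hdim : ∀ c : F, (A - c • 1).rank = 3 → Module.finrank F (LinearMap.ker (A - c • 1).mulVecLin) = 2 := by
    intro c hc
    have h := LinearMap.finrank_range_add_finrank_ker (A - c • 1).mulVecLin
    rw [Module.finrank_pi, Fintype.card_fin, ← Matrix.rank, hc] at h
    omega
  obtain ⟨e, he, e', he', hee⟩ := Submodule.mem_sup.1 hw'
  set y := w - (k' - k)⁻¹ • e' with hy
  have hyE : y ∉ E ⊔ E' := fun h => hw (by
    have := add_mem h (Submodule.mem_sup_right (E'.smul_mem (k' - k)⁻¹ he') : _ ∈ E ⊔ E')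
    simpa [hy] using this)
  have hAy : A *ᵥ y = k • y + e := by
    have h1 : A *ᵥ w = k • w + (e + e') := by rw [hee, sub_mulVec, smul_mulVec, one_mulVec]; abel
    rw [hy, mulVec_sub, mulVec_smul, (memE k' e').1 he', h1]
    have h2 : ((k' - k)⁻¹ * k') = 1 + (k' - k)⁻¹ * k := by
      field_simp [sub_ne_zero.2 (Ne.symm hne)]
      ring
    rw [smul_smul, h2]
    module
  have he0 : e ≠ 0 := fun h => hyE (Submodule.mem_sup_left ((memE k y).2 (by rw [hAy, h, add_zero])))
  obtain ⟨x, hxE, hxe⟩ : ∃ x ∈ E, x ∉ Submodule.span F {e} := by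
    by_contra hall
    push Not at hall
    have h1 := Submodule.finrank_mono (show E ≤ Submodule.span F {e} from hall)
    rw [hdim k hr, finrank_span_singleton he0] at h1
    omega
  let b := Module.finBasisOfFinrankEq F E' (hdim k' hr')
  let v : Fin 2 ⊕ (Fin 1 ⊕ Fin 2) → Fin 5 → F :=
    Sum.elim ![y, k⁻¹ • e] (Sum.elim (fun _ => (b 0 : Fin 5 → F)) ![x, (b 1 : Fin 5 → F)])
  have hsim : Sim A ((fromBlocks (k • jord F 2) 0 0
      (fromBlocks (k' • (1 : Matrix (Fin 1) (Fin 1) F)) 0 0 (diagonal ![k, k']))).reindex fiveEquiv fiveEquiv) := by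
    refine sim_of_fam fiveEquiv _ v (fun z => ?_) ?_
    · have hv : ∀ i, v i ∈ Submodule.span F (Set.range v) := fun i => Submodule.subset_span ⟨i, rfl⟩
      have hes : e ∈ Submodule.span F (Set.range v) := by
        simpa [v, smul_smul, hk] using Submodule.smul_mem _ k (hv (Sum.inl 1))
      have hEs : E ≤ Submodule.span F (Set.range v) := fun u hu => by
        obtain ⟨p, hp, c, rfl⟩ := exists_add_smul (E := Submodule.span F {e})
          ((Submodule.span_singleton_le_iff_mem _ _).2 he) (by rw [hdim k hr, finrank_span_singleton he0]) hxE hxe u hu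
        obtain ⟨d, rfl⟩ := Submodule.mem_span_singleton.1 hp
        exact add_mem (Submodule.smul_mem _ d hes) (Submodule.smul_mem _ c (hv (Sum.inr (Sum.inr 0))))
      have hE's : E' ≤ Submodule.span F (Set.range v) := fun u hu => by
        have := congrArg Subtype.val (b.sum_repr ⟨u, hu⟩)
        rw [AddSubmonoidClass.coe_finsetSum] at this
        rw [← show _ = u from this]
        refine Submodule.sum_mem _ fun i _ => Submodule.smul_mem _ _ ?_
        fin_cases i
        exacts [hv (Sum.inr (Sum.inl 0)), hv (Sum.inr (Sum.inr 1))]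
      have hdisj : E ⊓ E' = ⊥ := by
        refine (Submodule.eq_bot_iff _).2 fun u hu => ?_
        have h3 : (k - k') • u = 0 := by rw [sub_smul, ← (memE k u).1 hu.1, ← (memE k' u).1 hu.2, sub_self]
        exact (smul_eq_zero.1 h3).resolve_left (sub_ne_zero.2 hne)
      have hsum := Submodule.finrank_sup_add_finrank_inf_eq E E'
      rw [hdisj, finrank_bot, hdim k hr, hdim k' hr'] at hsum
      obtain ⟨p, hp, c, rfl⟩ := exists_add_smul (E := E ⊔ E') le_top
        (by rw [finrank_top, Module.finrank_pi, Fintype.card_fin]; omega) Submodule.mem_top hyE z Submodule.mem_top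
      exact add_mem (sup_le hEs hE's hp) (Submodule.smul_mem _ c (hv (Sum.inl 0)))
    · have hAe : A *ᵥ e = k • e := (memE k e).1 he
      have hAx : A *ᵥ x = k • x := (memE k x).1 hxE
      have hAb : ∀ i, A *ᵥ (b i : Fin 5 → F) = k' • (b i : Fin 5 → F) := fun i => (memE k' _).1 (b i).2
      rintro (j | j | j)
      · fin_cases j <;> simp [v, hAy, hAe, mulVec_smul, Fintype.sum_sum_type, jord,
          Classical.RegularUnipotentConj.shift, Matrix.one_apply, smul_smul, hk, mul_comm k]
      · simp [v, hAb, Fintype.sum_sum_type, Fin.fin_one_eq_zero]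
      · fin_cases j <;> simp [v, hAx, hAb, Fintype.sum_sum_type]
  have h3 : ∀ B : Matrix (Fin 3) (Fin 3) F,
      B.det = ((fromBlocks (k' • (1 : Matrix (Fin 1) (Fin 1) F)) 0 0 (diagonal ![k, k'])).reindex finSumFinEquiv
        finSumFinEquiv).det ^ 3 → (∀ c : F, B ≠ c • 1) →
      Cov 3 ((fromBlocks (k' • (1 : Matrix (Fin 1) (Fin 1) F)) 0 0 (diagonal ![k, k'])).reindex finSumFinEquiv
        finSumFinEquiv) B := by
    have e : (fromBlocks (k' • (1 : Matrix (Fin 1) (Fin 1) F)) 0 0 (diagonal ![k, k'])).reindex finSumFinEquiv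
        finSumFinEquiv = diagonal ![k', k, k'] := by
      ext i j
      obtain ⟨i, rfl⟩ := (finSumFinEquiv (m := 1) (n := 2)).surjective i
      obtain ⟨j, rfl⟩ := (finSumFinEquiv (m := 1) (n := 2)).surjective j
      rcases i with i | i <;> rcases j with j | j <;> fin_cases i <;> fin_cases j <;>
        simp [Matrix.one_apply] <;> rfl
    rw [e]
    intro B hB hns
    refine ((pseudo_covS (by omega) le_rfl (by simp [det_diagonal, Fin.prod_univ_three, hk, hk']) (c := k') ?_).1
      B hB hns).cov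
    rw [show diagonal ![k', k, k'] - k' • (1 : Matrix (Fin 3) (Fin 3) F) = diagonal ![0, k - k', 0] by
      ext i j; fin_cases i <;> fin_cases j <;> simp, rank_diagonal]
    rw [Fintype.card_eq_one_iff]
    refine ⟨⟨1, by simp [sub_ne_zero.2 hne]⟩, ?_⟩
    rintro ⟨i, hi⟩
    fin_cases i <;> simp at hi ⊢
  have hdet : k ^ 2 * (k' * (k * k')) = 1 := by
    rw [← hA, hsim.det_eq, det_reindex_self]
    simp [det_smul, jord_det, Fin.prod_univ_two]
  by_cases hsq : k * k = k' * k'
  · refine mix_five hF hA hk hk' (Ne.symm hne) (R' := diagonal ![k', k]) ?_ hsim (fun c hc => ?_) h3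
    · convert ClassSquareGauss.Linear.sim_perm (diagonal ![k, k']) (Equiv.swap 0 1) using 1
      ext i j; fin_cases i <;> fin_cases j <;> simp
    · have h1 := congrFun (congrFun hc (Sum.inl 0)) (Sum.inl 0)
      have h2 := congrFun (congrFun hc (Sum.inr 0)) (Sum.inr 0)
      simp [det_diagonal, Fin.prod_univ_two] at h1 h2
      obtain rfl : k' = -k := by
        rcases mul_self_eq_mul_self_iff.1 hsq with h | h
        · exact absurd h hne
        · linear_combination h
      have h5 : k ^ 5 = 1 := by linear_combination hdet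
      have hz : (k * (-k)) * (((-k) * (k * -k)) ^ 3 * (k * -k) ^ 2) = 1 := by
        have hne0 : ((-k) * (k * -k)) ^ 3 * (k * -k) ^ 2 ≠ 0 := by simp [hk]
        refine (mul_eq_one_iff_eq_inv₀ hne0).2 ?_
        linear_combination h2 - h1
      have h15 : -(k ^ 15) = 1 := by linear_combination hz
      have h2' : (2 : F) = 0 := by
        linear_combination (-1 : F) * h15 + (-1 : F) * (k ^ 10 + k ^ 5 + 1) * h5
      exact hne (by linear_combination k * h2')
  · refine mix_five hF hA hk hk' (Ne.symm hne) (Sim.refl _) hsim (fun c hc => hsq ?_) h3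
    have h1 := congrFun (congrFun hc (Sum.inr 0)) (Sum.inr 0)
    have h2 := congrFun (congrFun hc (Sum.inr 1)) (Sum.inr 1)
    simp at h1 h2
    rw [h1, h2]

/-- Two eigenspaces of codimension three. -/
theorem covS_one_two_three (hF : 4 ≤ Fintype.card F) {n : ℕ} (hn : 5 ≤ n) {A : Matrix (Fin n) (Fin n) F}
    (hA : A.det = 1) {k k' : F} (hne : k ≠ k') (hr : (A - k • 1).rank = 3) (hr' : (A - k' • 1).rank = 3) :
    CovS n A 1 := by
  classical
  set E := LinearMap.ker (A - k • 1).mulVecLin with hE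
  set E' := LinearMap.ker (A - k' • 1).mulVecLin with hE'
  have memE : ∀ (c : F) (x : Fin n → F), x ∈ LinearMap.ker (A - c • 1).mulVecLin ↔ A *ᵥ x = c • x := fun c x => by
    rw [LinearMap.mem_ker, mulVecLin_apply, sub_mulVec, smul_mulVec, one_mulVec, sub_eq_zero]
  have hdim : ∀ c : F, (A - c • 1).rank = 3 → Module.finrank F (LinearMap.ker (A - c • 1).mulVecLin) = n - 3 := by
    intro c hc
    have h := LinearMap.finrank_range_add_finrank_ker (A - c • 1).mulVecLin
    rw [Module.finrank_pi, Fintype.card_fin, ← Matrix.rank, hc] at h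
    omega
  have hdisj : E ⊓ E' = ⊥ := by
    refine (Submodule.eq_bot_iff _).2 fun u hu => ?_
    have h3 : (k - k') • u = 0 := by rw [sub_smul, ← (memE k u).1 hu.1, ← (memE k' u).1 hu.2, sub_self]
    exact (smul_eq_zero.1 h3).resolve_left (sub_ne_zero.2 hne)
  have hsum := Submodule.finrank_sup_add_finrank_inf_eq E E'
  rw [hdisj, finrank_bot, hdim k hr, hdim k' hr'] at hsum
  set S := Submodule.span F {v : Fin n → F | ∃ c : F, A *ᵥ v = c • v}
  have hES : E ⊔ E' ≤ S :=
    sup_le (fun u hu => Submodule.subset_span ⟨k, (memE k u).1 hu⟩)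
      fun u hu => Submodule.subset_span ⟨k', (memE k' u).1 hu⟩
  by_cases htop : E ⊔ E' = ⊤
  · exact covS_one_of_eigen (by omega) hA fun x => hES (htop ▸ Submodule.mem_top)
  have hlt : Module.finrank F ↥(E ⊔ E') < n := by
    have := Submodule.finrank_lt htop
    rwa [Module.finrank_pi, Fintype.card_fin] at this
  obtain rfl : n = 5 := by omega
  obtain ⟨w, -, hw⟩ := SetLike.exists_of_lt (lt_top_iff_ne_top.2 htop)
  have hdec := exists_add_smul (E := E ⊔ E') (I := ⊤) le_top
    (by rw [finrank_top, Module.finrank_pi, Fintype.card_fin]; omega) Submodule.mem_top hw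
  obtain ⟨u, hu, a, hua⟩ := hdec (A *ᵥ w) Submodule.mem_top
  have hN : ∀ c : F, c = a → (A - c • 1) *ᵥ w = u := fun c hc => by
    rw [hc, sub_mulVec, smul_mulVec, one_mulVec, hua, add_sub_cancel_right]
  by_cases hak : k = a
  · exact covS_one_jump hF hA hne hr hr' hw (by rw [hN k hak]; exact hu)
  by_cases hak' : k' = a
  · exact covS_one_jump hF hA (Ne.symm hne) hr' hr (by rwa [sup_comm]) (by rw [hN k' hak', sup_comm]; exact hu)
  obtain ⟨e, he, e', he', rfl⟩ := Submodule.mem_sup.1 hu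
  have hd : a - k ≠ 0 := sub_ne_zero.2 (Ne.symm hak)
  have hd' : a - k' ≠ 0 := sub_ne_zero.2 (Ne.symm hak')
  set v := w + ((a - k)⁻¹ • e + (a - k')⁻¹ • e') with hv
  have hvS : v ∈ S := Submodule.subset_span ⟨a, by
    rw [hv, mulVec_add, mulVec_add, mulVec_smul, mulVec_smul, hua, (memE k e).1 he, (memE k' e').1 he',
      smul_smul, smul_smul]
    have e1 : (a - k)⁻¹ * k = a * (a - k)⁻¹ - 1 := by field_simp; ring
    have e2 : (a - k')⁻¹ * k' = a * (a - k')⁻¹ - 1 := by field_simp; ring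
    rw [e1, e2]
    module⟩
  have hwS : w ∈ S := by
    have h1 : (a - k)⁻¹ • e + (a - k')⁻¹ • e' ∈ S :=
      hES (Submodule.add_mem_sup (Submodule.smul_mem _ _ he) (Submodule.smul_mem _ _ he'))
    simpa [hv] using sub_mem hvS h1
  refine covS_one_of_eigen (by omega) hA fun x => ?_
  obtain ⟨p, hp, c, rfl⟩ := hdec x Submodule.mem_top
  exact add_mem (hES hp) (Submodule.smul_mem _ c hwS)

end Cfsg.Agent.CoverPSL
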