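import Cfsg.Agent.Lib.CoverPSL.Three
import Cfsg.Agent.Lib.CoverPSL.Split

/-!
# The special classes of dimension four

`covNF_four_special`: for `diag (a, b, a, b)` and `J₂ ⊕ J₂` every non-scalar matrix of the right
determinant is a product of four conjugates without a common eigenvector for one eigenvalue.
-/

set_option autoImplicit false

namespace Cfsg.Agent.CoverPSL

open Matrix Polynomial Cfsg.Agent.Classical.Thompson

variable {F : Type*} [Field F]

/-- Four vectors on which `A` acts as `M`. -/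
theorem sim_of_vectors {n : ℕ} {A M : Matrix (Fin n) (Fin n) F} (vs : Fin n → Fin n → F)
    (hli : LinearIndependent F vs) (h : ∀ j, A *ᵥ vs j = ∑ i, M i j • vs i) : Sim A M := by
  set P : Matrix (Fin n) (Fin n) F := Matrix.of fun i j => vs j i with hP
  have hcol : P.col = vs := rfl
  have hu : IsUnit P := Matrix.linearIndependent_cols_iff_isUnit.1 (hcol ▸ hli)
  refine sim_of_mul_eq (P := P) (((Matrix.isUnit_iff_isUnit_det P).1 hu).ne_zero) ?_
  ext i j
  have := congrFun (h j) i
  simp only [Finset.sum_apply, Pi.smul_apply, smul_eq_mul] at this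
  rw [Matrix.mul_apply, Matrix.mul_apply]
  simpa [hP, mulVec, dotProduct, mul_comm] using this

theorem finrank_ker_four {A : Matrix (Fin 4) (Fin 4) F} {k : F} (h : (A - k • 1).rank = 2) :
    Module.finrank F (LinearMap.ker (A - k • 1).mulVecLin) = 2 := by
  have h3 := LinearMap.finrank_range_add_finrank_ker (A - k • 1).mulVecLin
  rw [← Matrix.rank, Module.finrank_pi, Fintype.card_fin] at h3
  omega

/-- Two planes of eigenvectors. -/
theorem sim_pair_model {A : Matrix (Fin 4) (Fin 4) F} {a b : F} (hab : a ≠ b)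
    (ha : (A - a • 1).rank = 2) (hb : (A - b • 1).rank = 2) : Sim A (diagonal ![a, b, a, b]) := by
  let u := Module.finBasisOfFinrankEq F _ (finrank_ker_four ha)
  let w := Module.finBasisOfFinrankEq F _ (finrank_ker_four hb)
  have hu : ∀ i, A *ᵥ (u i).1 = a • (u i).1 := fun i => by
    simpa [sub_mulVec, smul_mulVec, sub_eq_zero] using LinearMap.mem_ker.1 (u i).2
  have hw : ∀ i, A *ᵥ (w i).1 = b • (w i).1 := fun i => by
    simpa [sub_mulVec, smul_mulVec, sub_eq_zero] using LinearMap.mem_ker.1 (w i).2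
  refine sim_of_vectors ![(u 0).1, (w 0).1, (u 1).1, (w 1).1] ?_ ?_
  · rw [Fintype.linearIndependent_iff]
    intro g hg
    simp only [Fin.sum_univ_four, Matrix.cons_val_zero, Matrix.cons_val_one, Matrix.cons_val] at hg
    set x := g 0 • (u 0).1 + g 2 • (u 1).1 with hx
    have hxw : x = -(g 1 • (w 0).1 + g 3 • (w 1).1) :=
      eq_neg_of_add_eq_zero_left (by rw [hx, ← hg]; abel)
    have e1 : A *ᵥ x = a • x := by
      rw [hx, mulVec_add, mulVec_smul, mulVec_smul, hu, hu]; module
    have e2 : A *ᵥ x = b • x := by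
      rw [hxw, mulVec_neg, mulVec_add, mulVec_smul, mulVec_smul, hw, hw]; module
    have hx0 : x = 0 := by
      have : (a - b) • x = 0 := by rw [sub_smul, ← e1, ← e2, sub_self]
      exact (smul_eq_zero.1 this).resolve_left (sub_ne_zero.2 hab)
    have h1 := Fintype.linearIndependent_iff.1 u.linearIndependent ![g 0, g 2] (Subtype.ext (by
      simpa [Fin.sum_univ_two, hx] using hx0))
    have h2 := Fintype.linearIndependent_iff.1 w.linearIndependent ![g 1, g 3] (Subtype.ext (by
      simpa [Fin.sum_univ_two] using neg_eq_zero.1 (hxw.symm.trans hx0)))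
    intro i
    fin_cases i
    · simpa using h1 0
    · simpa using h2 0
    · simpa using h1 1
    · simpa using h2 1
  · intro j
    fin_cases j <;> simp [Fin.sum_univ_four, hu, hw]

/-- the model of `J₂ ⊕ J₂` -/
def jordModel (k : F) : Matrix (Fin 4) (Fin 4) F :=
  !![k, 0, 0, 0; 0, k, 0, 0; 1, 0, k, 0; 0, 1, 0, k]

theorem sim_jord_model {A : Matrix (Fin 4) (Fin 4) F} {k : F} (hk : (A - k • 1).rank = 2)
    (hle : LinearMap.ker (A - k • 1).mulVecLin ≤ LinearMap.range (A - k • 1).mulVecLin) :
    Sim A (jordModel k) := by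
  set N := (A - k • 1).mulVecLin with hN
  have heq : LinearMap.ker N = LinearMap.range N :=
    Submodule.eq_of_le_of_finrank_eq hle (by
      rw [hN, finrank_ker_four hk]; exact hk.symm)
  have hNN : ∀ v, N (N v) = 0 := fun v => by
    have : N v ∈ LinearMap.ker N := heq ▸ LinearMap.mem_range_self N v
    exact this
  let r := Module.finBasisOfFinrankEq F (LinearMap.range N) hk
  obtain ⟨v0, hv0⟩ := (r 0).2
  obtain ⟨v1, hv1⟩ := (r 1).2
  have hA : ∀ v, A *ᵥ v = k • v + N v := fun v => by simp [hN, sub_mulVec, smul_mulVec]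
  refine sim_of_vectors ![v0, v1, N v0, N v1] ?_ ?_
  · rw [Fintype.linearIndependent_iff]
    intro g hg
    simp only [Fin.sum_univ_four, Matrix.cons_val_zero, Matrix.cons_val_one, Matrix.cons_val] at hg
    have h1 : g 0 • N v0 + g 1 • N v1 = 0 := by
      have := congrArg N hg
      simpa [hNN] using this
    have h2 := Fintype.linearIndependent_iff.1 r.linearIndependent ![g 0, g 1] (Subtype.ext (by
      simpa [Fin.sum_univ_two, ← hv0, ← hv1] using h1))
    have g0 : g 0 = 0 := by simpa using h2 0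
    have g1 : g 1 = 0 := by simpa using h2 1
    rw [g0, g1, zero_smul, zero_smul, zero_add, zero_add] at hg
    have h3 := Fintype.linearIndependent_iff.1 r.linearIndependent ![g 2, g 3] (Subtype.ext (by
      simpa [Fin.sum_univ_two, ← hv0, ← hv1] using hg))
    intro i
    fin_cases i
    · exact g0
    · exact g1
    · simpa using h3 0
    · simpa using h3 1
  · intro j
    fin_cases j <;> simp [jordModel, Fin.sum_univ_four, hA, hNN, add_comm]

/-- `diag (a, b, a, b)` times itself contains a regular Jordan block. -/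
theorem exists_pair_four_diag {a b : F} (ha : a ≠ 0) (hb : b ≠ 0) (hab : a ≠ b) :
    ∃ D : Matrix (Fin 4) (Fin 4) F, Geom1 D ∧ D.charpoly.Splits ∧ CovNF 2 (diagonal ![a, b, a, b]) D := by
  have hba : b - a ≠ 0 := sub_ne_zero.2 (Ne.symm hab)
  set X : Matrix (Fin 4) (Fin 4) F := !![a, 1, 0, 0; 0, b, 0, 0; 0, 0, a, 1; 0, 0, 0, b] with hX
  set Y : Matrix (Fin 4) (Fin 4) F := !![b, 0, 0, 0; 0, a, b - a, 0; 0, 0, b, 0; 0, 0, 0, a] with hY
  set D : Matrix (Fin 4) (Fin 4) F :=
    !![a * b, a, b - a, 0; 0, a * b, b * (b - a), 0; 0, 0, a * b, a; 0, 0, 0, a * b] with hD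
  have hXY : X * Y = D := by
    ext i j
    fin_cases i <;> fin_cases j <;> simp [hX, hY, hD, Matrix.mul_apply, Fin.sum_univ_four] <;> ring
  have hXs : Sim X (diagonal ![a, b, a, b]) := by
    refine sim_of_mul_eq (P := !![1, 1, 0, 0; 0, b - a, 0, 0; 0, 0, 1, 1; 0, 0, 0, b - a]) ?_ ?_
    · rw [det_of_isUpperTriangular]
      · simp [Fin.prod_univ_four, hba]
      · intro i j hij
        have hij' : j.val < i.val := hij
        fin_cases i <;> fin_cases j <;> simp at hij' ⊢
    · ext i j
      fin_cases i <;> fin_cases j <;> simp [hX, Matrix.mul_apply, Fin.sum_univ_four] <;> ring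
  have hYs : Sim Y (diagonal ![a, b, a, b]) := by
    refine sim_of_vectors ![![0, 1, 0, 0], ![1, 0, 0, 0], ![0, 0, 0, 1], ![0, 1, 1, 0]] ?_ ?_
    · rw [Fintype.linearIndependent_iff]
      intro g hg
      have e0 := congrFun hg 0
      have e1 := congrFun hg 1
      have e2 := congrFun hg 2
      have e3 := congrFun hg 3
      simp [Fin.sum_univ_four] at e0 e1 e2 e3
      rw [e2, add_zero] at e1
      intro i
      fin_cases i <;> simp [e0, e1, e2, e3]
    · intro j
      fin_cases j <;> ext i <;> fin_cases i <;>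
        simp [hY, mulVec, dotProduct, Fin.sum_univ_four]
  have hup : D.IsUpperTriangular := by
    intro i j hij
    have hij' : j.val < i.val := hij
    fin_cases i <;> fin_cases j <;> simp [hD] at hij' ⊢
  have hker : ∀ (c : F) (v : Fin 4 → F), D *ᵥ v = c • v → v ≠ 0 →
      c = a * b ∧ v 1 = 0 ∧ v 2 = 0 ∧ v 3 = 0 := by
    intro c v hv hne
    have e0 : a * b * v 0 + a * v 1 + (b - a) * v 2 = c * v 0 := by
      simpa [hD, mulVec, dotProduct, Fin.sum_univ_four] using congrFun hv 0
    have e1 : a * b * v 1 + b * (b - a) * v 2 = c * v 1 := by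
      simpa [hD, mulVec, dotProduct, Fin.sum_univ_four] using congrFun hv 1
    have e2 : a * b * v 2 + a * v 3 = c * v 2 := by
      simpa [hD, mulVec, dotProduct, Fin.sum_univ_four] using congrFun hv 2
    have e3 : a * b * v 3 = c * v 3 := by
      simpa [hD, mulVec, dotProduct, Fin.sum_univ_four] using congrFun hv 3
    by_cases hc : c = a * b
    · subst hc
      have v3 : v 3 = 0 := (mul_eq_zero.1 (show a * v 3 = 0 by linear_combination e2)).resolve_left ha
      have v2 : v 2 = 0 := (mul_eq_zero.1 (show b * (b - a) * v 2 = 0 by linear_combination e1)).resolve_left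
        (mul_ne_zero hb hba)
      have v1 : v 1 = 0 := (mul_eq_zero.1 (show a * v 1 = 0 by rw [v2] at e0; linear_combination e0)).resolve_left ha
      exact ⟨rfl, v1, v2, v3⟩
    · exfalso
      have hd : a * b - c ≠ 0 := sub_ne_zero.2 (Ne.symm hc)
      have v3 : v 3 = 0 := (mul_eq_zero.1 (show (a * b - c) * v 3 = 0 by linear_combination e3)).resolve_left hd
      have v2 : v 2 = 0 := (mul_eq_zero.1 (show (a * b - c) * v 2 = 0 by
        rw [v3] at e2; linear_combination e2)).resolve_left hd
      have v1 : v 1 = 0 := (mul_eq_zero.1 (show (a * b - c) * v 1 = 0 by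
        rw [v2] at e1; linear_combination e1)).resolve_left hd
      have v0 : v 0 = 0 := (mul_eq_zero.1 (show (a * b - c) * v 0 = 0 by
        rw [v1, v2] at e0; linear_combination e0)).resolve_left hd
      exact hne (funext fun i => by fin_cases i <;> assumption)
  refine ⟨D, fun c v w hv hw hv0 => ?_, ?_, [X, Y], rfl, ?_, by simp [hXY], fun c y hy => ?_⟩
  · obtain ⟨-, v1, v2, v3⟩ := hker c v hv hv0
    have hv00 : v 0 ≠ 0 := fun h => hv0 (funext fun i => by fin_cases i <;> assumption)
    by_cases hw0 : w = 0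
    · exact ⟨0, by simp [hw0]⟩
    obtain ⟨-, w1, w2, w3⟩ := hker c w hw hw0
    refine ⟨w 0 / v 0, funext fun i => ?_⟩
    fin_cases i <;> simp [v1, v2, v3, w1, w2, w3, div_mul_cancel₀ _ hv00]
  · rw [Matrix.charpoly_of_isUpperTriangular _ hup]
    exact Splits.prod fun i _ => Splits.X_sub_C _
  · intro Z hZ
    simp only [List.mem_cons, List.not_mem_nil, or_false] at hZ
    rcases hZ with rfl | rfl
    · exact hXs
    · exact hYs
  · by_contra hne
    have hy1 : X *ᵥ y = c • y := hy X (by simp)
    have hy2 : Y *ᵥ y = c • y := hy Y (by simp)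
    have hDy : D *ᵥ y = (c * c) • y := by
      rw [← hXY, ← mulVec_mulVec, hy2, mulVec_smul, hy1, smul_smul]
    obtain ⟨hcc, v1, v2, v3⟩ := hker _ y hDy hne
    have hv0 : y 0 ≠ 0 := fun h => hne (funext fun i => by fin_cases i <;> assumption)
    have hca : a = c := by
      have := congrFun hy1 0
      simp [hX, mulVec, dotProduct, Fin.sum_univ_four, v1, v2, v3, hv0] at this
      exact this
    exact hab (mul_left_cancel₀ ha (by rw [← hca] at hcc; exact hcc))

/-- `J₂ ⊕ J₂` times itself contains `J₂(e) ⊕ J₂(f)`. -/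
theorem exists_pair_four_jord [Fintype F] (hF : 4 ≤ Fintype.card F) {a : F} (ha : a ≠ 0) :
    ∃ D : Matrix (Fin 4) (Fin 4) F, Geom1 D ∧ D.charpoly.Splits ∧ CovNF 2 (jordModel a) D := by
  classical
  set d := a * a with hd
  have hd0 : d ≠ 0 := mul_ne_zero ha ha
  obtain ⟨e, -, he⟩ := Finset.exists_mem_notMem_of_card_lt_card (s := ({0, d} : Finset F))
    (t := Finset.univ) (lt_of_le_of_lt Finset.card_le_two (by rw [Finset.card_univ]; omega))
  simp only [Finset.mem_insert, Finset.mem_singleton, not_or] at he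
  set κ := (e - d) * (e - d) / e with hκ
  have hκ0 : κ ≠ 0 := div_ne_zero (mul_ne_zero (sub_ne_zero.2 he.2) (sub_ne_zero.2 he.2)) he.1
  have hκe : κ * e = (e - d) * (e - d) := div_mul_cancel₀ _ he.1
  set X : Matrix (Fin 4) (Fin 4) F := !![a, 0, 0, 0; 0, a, 0, 0; κ, 1, a, 0; 0, κ, 0, a] with hX
  set Y : Matrix (Fin 4) (Fin 4) F := !![a, 0, 1, 0; 0, a, 0, 1; 0, 0, a, 0; 0, 0, 0, a] with hY
  set D : Matrix (Fin 4) (Fin 4) F :=
    !![d, 0, a, 0; 0, d, 0, a; a * κ, a, d + κ, 1; 0, a * κ, 0, d + κ] with hD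
  have hXY : X * Y = D := by
    ext i j
    fin_cases i <;> fin_cases j <;> simp [hX, hY, hD, hd, Matrix.mul_apply, Fin.sum_univ_four] <;> ring
  have hXs : Sim X (jordModel a) := by
    refine sim_of_mul_eq (P := !![1, 0, 0, 0; 0, 1, 0, 0; 0, 0, κ, 1; 0, 0, 0, κ]) ?_ ?_
    · rw [det_of_isUpperTriangular]
      · simp [Fin.prod_univ_four, hκ0]
      · intro i j hij
        have hij' : j.val < i.val := hij
        fin_cases i <;> fin_cases j <;> simp at hij' ⊢
    · ext i j
      fin_cases i <;> fin_cases j <;> simp [hX, jordModel, Matrix.mul_apply, Fin.sum_univ_four] <;> ring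
  have hYs : Sim Y (jordModel a) := by
    refine sim_of_vectors ![![0, 0, 1, 0], ![0, 0, 0, 1], ![1, 0, 0, 0], ![0, 1, 0, 0]] ?_ ?_
    · rw [Fintype.linearIndependent_iff]
      intro g hg
      have e0 := congrFun hg 0
      have e1 := congrFun hg 1
      have e2 := congrFun hg 2
      have e3 := congrFun hg 3
      simp [Fin.sum_univ_four] at e0 e1 e2 e3
      intro i
      fin_cases i <;> simp [e0, e1, e2, e3]
    · intro j
      fin_cases j <;> ext i <;> fin_cases i <;>
        simp [hY, jordModel, mulVec, dotProduct, Fin.sum_univ_four]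
  -- eigenvectors of `D`
  have hker : ∀ (c : F) (v : Fin 4 → F), D *ᵥ v = c • v → v ≠ 0 →
      a * a * κ + (d + κ - c) * (c - d) = 0 ∧ v 1 = 0 ∧ v 3 = 0 ∧ a * v 2 = (c - d) * v 0 := by
    intro c v hv hne
    have e0 : d * v 0 + a * v 2 = c * v 0 := by
      simpa [hD, mulVec, dotProduct, Fin.sum_univ_four] using congrFun hv 0
    have e1 : d * v 1 + a * v 3 = c * v 1 := by
      simpa [hD, mulVec, dotProduct, Fin.sum_univ_four] using congrFun hv 1
    have e2 : a * κ * v 0 + a * v 1 + (d + κ) * v 2 + v 3 = c * v 2 := by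
      simpa [hD, mulVec, dotProduct, Fin.sum_univ_four] using congrFun hv 2
    have e3 : a * κ * v 1 + (d + κ) * v 3 = c * v 3 := by
      simpa [hD, mulVec, dotProduct, Fin.sum_univ_four] using congrFun hv 3
    set Q := a * a * κ + (d + κ - c) * (c - d) with hQ
    have q1 : Q * v 1 = 0 := by rw [hQ]; linear_combination a * e3 - (d + κ - c) * e1
    have q0 : Q * v 0 + (a * a + c - d) * v 1 = 0 := by
      rw [hQ]; linear_combination a * e2 - e1 - (d + κ - c) * e0
    have hQ0 : Q = 0 := by
      by_contra hQ'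
      have v1 := (mul_eq_zero.1 q1).resolve_left hQ'
      rw [v1, mul_zero, add_zero] at q0
      have v0 := (mul_eq_zero.1 q0).resolve_left hQ'
      have v2 : v 2 = 0 := (mul_eq_zero.1 (show a * v 2 = 0 by rw [v0] at e0; linear_combination e0)).resolve_left ha
      have v3 : v 3 = 0 := (mul_eq_zero.1 (show a * v 3 = 0 by rw [v1] at e1; linear_combination e1)).resolve_left ha
      exact hne (funext fun i => by fin_cases i <;> assumption)
    have hc : c ≠ 0 := by
      rintro rfl
      rw [hQ, hd] at hQ0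
      exact mul_ne_zero hd0 hd0 (by rw [hd]; linear_combination -hQ0)
    have v1 : v 1 = 0 := by
      rw [hQ0, zero_mul, zero_add, show a * a + c - d = c by rw [hd]; ring] at q0
      exact (mul_eq_zero.1 q0).resolve_left hc
    have v3 : v 3 = 0 := (mul_eq_zero.1 (show a * v 3 = 0 by rw [v1] at e1; linear_combination e1)).resolve_left ha
    exact ⟨hQ0, v1, v3, by linear_combination e0⟩
  refine ⟨D, fun c v w hv hw hv0 => ?_, ?_, [X, Y], rfl, ?_, by simp [hXY], fun c y hy => ?_⟩
  · obtain ⟨-, v1, v3, v2⟩ := hker c v hv hv0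
    have hv00 : v 0 ≠ 0 := fun h => hv0 (funext fun i => by
      have v20 : v 2 = 0 := (mul_eq_zero.1 (show a * v 2 = 0 by rw [v2, h, mul_zero])).resolve_left ha
      fin_cases i <;> assumption)
    by_cases hw0 : w = 0
    · exact ⟨0, by simp [hw0]⟩
    obtain ⟨-, w1, w3, w2⟩ := hker c w hw hw0
    refine ⟨w 0 / v 0, funext fun i => ?_⟩
    fin_cases i
    · simp [div_mul_cancel₀ _ hv00]
    · simp [v1, w1]
    · refine mul_left_cancel₀ ha ?_
      simp only [Pi.smul_apply, smul_eq_mul]
      show a * w 2 = a * (w 0 / v 0 * v 2)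
      rw [w2, show a * (w 0 / v 0 * v 2) = w 0 / v 0 * (a * v 2) by ring, v2]
      field_simp
    · simp [v3, w3]
  · let T : Matrix (Fin 2) (Fin 2) F := !![d, a; a * κ, d + κ]
    let σ : Fin 2 ⊕ Fin 2 ≃ Fin 4 := finSumFinEquiv.trans (Equiv.swap (1 : Fin 4) 2)
    have hre : D = (fromBlocks T !![0, 0; a, 1] 0 T).reindex σ σ := by
      rw [← (Matrix.reindex σ σ).symm_apply_eq]
      ext (i | i) (j | j) <;> fin_cases i <;> fin_cases j <;>
        simp [hD, T, σ, Equiv.swap_apply_def, finSumFinEquiv]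
    have hT : T.charpoly = (Polynomial.X - C e) * (Polynomial.X - C (d * d / e)) := by
      have h1 : e * (d * d / e) = d * d := mul_div_cancel₀ _ he.1
      have htr : T.trace = e + d * d / e := by
        have h0 : κ = e + d * d / e - 2 * d := by
          refine mul_right_cancel₀ he.1 ?_
          rw [hκe]; linear_combination -h1
        simp [T, trace_fin_two, h0]
        ring
      have hdet : T.det = e * (d * d / e) := by
        rw [h1]; simp [T, det_fin_two, hd]; ring
      rw [Matrix.charpoly_fin_two, htr, hdet, map_add, map_mul]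
      ring
    have hsp : T.charpoly.Splits := hT ▸ (Splits.X_sub_C _).mul (Splits.X_sub_C _)
    rw [hre, Matrix.charpoly_reindex, Matrix.charpoly_fromBlocks_zero₂₁]
    exact hsp.mul hsp
  · intro Z hZ
    simp only [List.mem_cons, List.not_mem_nil, or_false] at hZ
    rcases hZ with rfl | rfl
    · exact hXs
    · exact hYs
  · by_contra hne
    have hy1 : X *ᵥ y = c • y := hy X (by simp)
    have hy2 : Y *ᵥ y = c • y := hy Y (by simp)
    have hDy : D *ᵥ y = (c * c) • y := by
      rw [← hXY, ← mulVec_mulVec, hy2, mulVec_smul, hy1, smul_smul]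
    obtain ⟨hQ, v1, v3, v2⟩ := hker _ y hDy hne
    have hv0 : y 0 ≠ 0 := fun h => hne (funext fun i => by
      have v20 : y 2 = 0 := (mul_eq_zero.1 (show a * y 2 = 0 by rw [v2, h, mul_zero])).resolve_left ha
      fin_cases i <;> assumption)
    have hca : a = c := by
      have := congrFun hy1 0
      simp [hX, mulVec, dotProduct, Fin.sum_univ_four, hv0] at this
      exact this
    rw [← hca, ← hd, sub_self, mul_zero, add_zero] at hQ
    exact mul_ne_zero hd0 hκ0 hQ

/-- Two eigenvalue planes: all determinants occur in the centraliser. -/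
theorem centFull_pair_model (a b : F) : CentFull (diagonal ![a, b, a, b]) := fun t _ =>
  ⟨diagonal ![t, 1, 1, 1], by simp [det_diagonal, Fin.prod_univ_four], by
    rw [diagonal_mul_diagonal, diagonal_mul_diagonal]; congr 1; funext i; exact mul_comm _ _⟩

/-- **The special classes of dimension four.** -/
theorem covNF_four_special [Fintype F] (hF : 4 ≤ Fintype.card F) {A : Matrix (Fin 4) (Fin 4) F}
    (hA : A.det ≠ 0) (hs : Special A) {B : Matrix (Fin 4) (Fin 4) F} (hB : B.det = A.det ^ 4)
    (hns : ∀ c : F, B ≠ c • 1) : CovNF 4 A B := by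
  have key : ∀ M D : Matrix (Fin 4) (Fin 4) F, Sim A M → Geom1 D → D.charpoly.Splits → CovNF 2 M D →
      CovNF 4 A B := by
    intro M D hAM hg hsp hcov
    have hDd : D.det = A.det ^ 2 := by rw [hcov.cov.det_eq, hAM.det_eq]
    obtain ⟨L, U, hL, hU, rfl⟩ := sq_geom1 hF 4 D hg hsp (by rw [hDd]; exact pow_ne_zero _ hA) B
      (by rw [hB, hDd, ← pow_mul]) (fun _ => hns)
    obtain ⟨l, hl, hX, hp, he⟩ := (hcov.conj hL).add (hcov.cov.conj hU)
    exact ⟨l, hl, fun X hXl => (hX X hXl).trans hAM.symm, hp, he⟩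
  obtain ⟨-, ⟨k, k', hne, hk, hk'⟩ | ⟨k, hk, hle⟩⟩ := hs
  · have hAM := sim_pair_model hne hk hk'
    have hdet : (diagonal ![k, k', k, k']).det ≠ 0 := hAM.det_eq ▸ hA
    simp [det_diagonal, Fin.prod_univ_four] at hdet
    obtain ⟨D, hg, hsp, hcov⟩ := exists_pair_four_diag (a := k) (b := k') (by tauto) (by tauto) hne
    exact key _ D hAM hg hsp hcov
  · have hAM := sim_jord_model hk hle
    have hk0 : k ≠ 0 := by
      rintro rfl
      refine hA ?_
      rw [hAM.det_eq, jordModel]
      exact det_eq_zero_of_row_eq_zero (0 : Fin 4) fun j => by fin_cases j <;> simp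
    obtain ⟨D, hg, hsp, hcov⟩ := exists_pair_four_jord hF hk0
    exact key _ D hAM hg hsp hcov

end Cfsg.Agent.CoverPSL
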