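import Cfsg.Agent.Lib.CoverPSL.Four
import Cfsg.Agent.Lib.CoverPSL.ThreeS

/-!
# The special classes of dimension four, conjugators of determinant one

For `J₂ ⊕ J₂` the pair `(L(1/z) ⊕ L(z), L(-1/y) ⊕ U(y))` has a product with a simple eigenvalue.
-/

set_option autoImplicit false

namespace Cfsg.Agent.CoverPSL

open Matrix Polynomial Cfsg.Agent.Classical.Thompson

variable {F : Type*} [Field F]

theorem Geom1.smul {ι : Type*} [Fintype ι] {D : Matrix ι ι F} (h : Geom1 D) {c : F} (hc : c ≠ 0) :
    Geom1 (c • D) := by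
  intro μ v w hv hw hv0
  rw [smul_mulVec] at hv hw
  exact h (c⁻¹ * μ) v w (by rw [← smul_smul, ← hv, smul_smul, inv_mul_cancel₀ hc, one_smul])
    (by rw [← smul_smul, ← hw, smul_smul, inv_mul_cancel₀ hc, one_smul]) hv0

theorem charpoly_smul_congr {ι : Type*} [Fintype ι] [DecidableEq ι] {A B : Matrix ι ι F} {c : F} (hc : c ≠ 0)
    (h : A.charpoly = B.charpoly) : (c • A).charpoly = (c • B).charpoly := by
  have key : ∀ M : Matrix ι ι F, (c • M).charpoly =
      C (c ^ Fintype.card ι) * M.charpoly.comp (C c⁻¹ * X) := by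
    intro M
    have e : charmatrix (c • M) = C c • (compRingHom (C c⁻¹ * X)).mapMatrix (charmatrix M) := by
      ext1 i j
      by_cases hij : i = j
      · subst hij
        simp only [charmatrix_apply_eq, Matrix.smul_apply, RingHom.mapMatrix_apply, Matrix.map_apply,
          smul_eq_mul, coe_compRingHom_apply, sub_comp, X_comp, C_comp, C_mul]
        have h1 : C c * C c⁻¹ = (1 : F[X]) := by rw [← C_mul, mul_inv_cancel₀ hc, C_1]
        linear_combination -(X : F[X]) * h1
      · simp [charmatrix_apply_ne _ _ _ hij, C_mul]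
    rw [Matrix.charpoly, e, det_smul, ← RingHom.map_det, coe_compRingHom_apply, ← C_pow]
    rfl
  rw [key, key, h]

/-- `J₂ ⊕ J₂` times itself contains `J₂(a²) ⊕ diag (e, f)`, conjugators of determinant one. -/
theorem exists_pairS_jord [Fintype F] (hF : 4 ≤ Fintype.card F) {a : F} (ha : a ≠ 0) :
    ∃ D : Matrix (Fin 4) (Fin 4) F, ∃ e f : F, Geom1 D ∧ CentFull D ∧ e * f = a * a * (a * a) ∧
      D.charpoly = (X - C (a * a)) ^ 2 * ((X - C e) * (X - C f)) ∧ CovS 2 (jordModel a) D := by
  classical
  set d := a * a with hd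
  have hd0 : d ≠ 0 := mul_ne_zero ha ha
  obtain ⟨e, -, he⟩ := Finset.exists_mem_notMem_of_card_lt_card (s := ({0, d, -d} : Finset F))
    (t := Finset.univ) (lt_of_le_of_lt Finset.card_le_three (by rw [Finset.card_univ]; omega))
  simp only [Finset.mem_insert, Finset.mem_singleton, not_or] at he
  set f := d * d / e with hf
  have hef : e * f = d * d := mul_div_cancel₀ _ he.1
  have hne : e ≠ f := fun h => by
    have h1 : (e - d) * (e + d) = 0 := by linear_combination e * h + hef
    rcases mul_eq_zero.1 h1 with h2 | h2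
    · exact he.2.1 (sub_eq_zero.1 h2)
    · exact he.2.2 (eq_neg_of_add_eq_zero_left h2)
  set κ := (e + f - 2 * d) / d with hκ
  have hκd : κ * d = e + f - 2 * d := div_mul_cancel₀ _ hd0
  have hκ0 : κ ≠ 0 := by
    intro h
    rw [h, zero_mul] at hκd
    have h1 : (e - d) * (e - d) = 0 := by linear_combination -e * hκd - hef
    exact he.2.1 (sub_eq_zero.1 (by rcases mul_eq_zero.1 h1 with h2 | h2 <;> exact h2))
  obtain ⟨y, hy, hyκ⟩ : ∃ y : F, y ≠ 0 ∧ y * y ≠ κ := by
    by_cases h1 : (1 : F) * 1 = κ
    · obtain ⟨y, -, hy⟩ := Finset.exists_mem_notMem_of_card_lt_card (s := ({0, 1, -1} : Finset F))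
        (t := Finset.univ) (lt_of_le_of_lt Finset.card_le_three (by rw [Finset.card_univ]; omega))
      simp only [Finset.mem_insert, Finset.mem_singleton, not_or] at hy
      refine ⟨y, hy.1, fun h => ?_⟩
      rw [← h1, one_mul] at h
      exact (mul_self_eq_one_iff.1 h).elim hy.2.1 hy.2.2
    · exact ⟨1, one_ne_zero, h1⟩
  set z := κ / y with hz
  have hz0 : z ≠ 0 := div_ne_zero hκ0 hy
  have hzy : z * y = κ := div_mul_cancel₀ _ hy
  set s := 1 / z - 1 / y with hs
  have hs0 : s ≠ 0 := by
    rw [hs, sub_ne_zero]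
    intro h
    rw [one_div, one_div, _root_.inv_inj] at h
    exact hyκ (by rw [← hzy, h])
  -- the matrices
  set X' : Matrix (Fin 4) (Fin 4) F := !![a, 0, 0, 0; 0, a, 0, 0; a * (1 / z), 0, a, 0; 0, a * z, 0, a] with hX
  set Y : Matrix (Fin 4) (Fin 4) F := !![a, 0, 0, 0; 0, a, 0, a * y; a * (-(1 / y)), 0, a, 0; 0, 0, 0, a] with hY
  set D : Matrix (Fin 4) (Fin 4) F := !![d, 0, 0, 0; 0, d, 0, d * y; d * s, 0, d, 0; 0, d * z, 0, d + d * κ] with hD
  have hXY : X' * Y = D := by
    ext i j
    fin_cases i <;> fin_cases j <;>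
      simp [hX, hY, hD, hd, hs, ← hzy, Matrix.mul_apply, Fin.sum_univ_four] <;> ring
  have hXs : SimD 1 X' (jordModel a) := by
    refine ⟨diagonal ![1 / a, 1, 1 / z, a * z], ?_, ?_⟩
    · simp [det_diagonal, Fin.prod_univ_four]; field_simp
    · ext i j
      fin_cases i <;> fin_cases j <;>
        simp [hX, jordModel, Matrix.mul_apply, Fin.sum_univ_four, Matrix.diagonal] <;> field_simp
  have hYs : SimD 1 Y (jordModel a) := by
    refine ⟨!![1 / a, 0, 0, 0; 0, 0, 0, a * y; 0, 0, -(1 / y), 0; 0, 1, 0, 0], ?_, ?_⟩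
    · simp [Matrix.det_succ_row_zero, Fin.sum_univ_four, Fin.sum_univ_three, Fin.succAbove]
      field_simp
    · ext i j
      fin_cases i <;> fin_cases j <;>
        simp [hY, jordModel, Matrix.mul_apply, Fin.sum_univ_four] <;> field_simp
  -- eigenvectors
  have hT : ∀ c : F, (d - c) * (d + d * κ - c) - d * z * (d * y) = (e - c) * (f - c) := fun c => by
    linear_combination c * (-hκd) + (d * d) * 0 - hef - d * d * hzy
  refine ⟨D, e, f, fun c v w hv hw hv0 => ?_, fun t ht => ?_, hef, ?_, [X', Y], rfl, ?_, by simp [hXY]⟩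
  · have ker : ∀ x : Fin 4 → F, D *ᵥ x = c • x →
        d * x 0 = c * x 0 ∧ d * x 1 + d * y * x 3 = c * x 1 ∧ d * s * x 0 + d * x 2 = c * x 2 ∧
          d * z * x 1 + (d + d * κ) * x 3 = c * x 3 := fun x hx =>
      ⟨by simpa [hD, mulVec, dotProduct, Fin.sum_univ_four] using congrFun hx 0,
        by simpa [hD, mulVec, dotProduct, Fin.sum_univ_four] using congrFun hx 1,
        by simpa [hD, mulVec, dotProduct, Fin.sum_univ_four] using congrFun hx 2,
        by simpa [hD, mulVec, dotProduct, Fin.sum_univ_four] using congrFun hx 3⟩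
    have hdy : d * y ≠ 0 := mul_ne_zero hd0 hy
    by_cases hc : c = d
    · have h : ∀ x : Fin 4 → F, D *ᵥ x = c • x → x 0 = 0 ∧ x 1 = 0 ∧ x 3 = 0 := by
        intro x hx
        obtain ⟨-, e1, e2, e3⟩ := ker x hx
        subst hc
        have x0 : x 0 = 0 := (mul_eq_zero.1 (show d * s * x 0 = 0 by linear_combination e2)).resolve_left
          (mul_ne_zero hd0 hs0)
        have x3 : x 3 = 0 := (mul_eq_zero.1 (show d * y * x 3 = 0 by linear_combination e1)).resolve_left hdy
        have x1 : x 1 = 0 := (mul_eq_zero.1 (show d * z * x 1 = 0 by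
          rw [x3] at e3; linear_combination e3)).resolve_left (mul_ne_zero hd0 hz0)
        exact ⟨x0, x1, x3⟩
      obtain ⟨v0, v1, v3⟩ := h v hv
      obtain ⟨w0, w1, w3⟩ := h w hw
      have v2 : v 2 ≠ 0 := fun h2 => hv0 (funext fun i => by fin_cases i <;> assumption)
      refine ⟨w 2 / v 2, funext fun i => ?_⟩
      fin_cases i <;> simp [v0, v1, v3, w0, w1, w3, div_mul_cancel₀ _ v2]
    · have h : ∀ x : Fin 4 → F, D *ᵥ x = c • x →
          x 0 = 0 ∧ x 2 = 0 ∧ d * y * x 3 = (c - d) * x 1 := by
        intro x hx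
        obtain ⟨e0, e1, e2, -⟩ := ker x hx
        have hcd : c - d ≠ 0 := sub_ne_zero.2 hc
        have x0 : x 0 = 0 := (mul_eq_zero.1 (show (c - d) * x 0 = 0 by linear_combination -e0)).resolve_left hcd
        have x2 : x 2 = 0 := (mul_eq_zero.1 (show (c - d) * x 2 = 0 by
          rw [x0] at e2; linear_combination -e2)).resolve_left hcd
        exact ⟨x0, x2, by linear_combination e1⟩
      obtain ⟨v0, v2, v3⟩ := h v hv
      obtain ⟨w0, w2, w3⟩ := h w hw
      have v1 : v 1 ≠ 0 := fun h1 => hv0 (funext fun i => by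
        have : v 3 = 0 := (mul_eq_zero.1 (show d * y * v 3 = 0 by rw [v3, h1, mul_zero])).resolve_left hdy
        fin_cases i <;> assumption)
      refine ⟨w 1 / v 1, funext fun i => ?_⟩
      fin_cases i
      · simp [v0, w0]
      · simp [div_mul_cancel₀ _ v1]
      · simp [v2, w2]
      · refine mul_left_cancel₀ hdy ?_
        simp only [Pi.smul_apply, smul_eq_mul]
        show d * y * w 3 = d * y * (w 1 / v 1 * v 3)
        rw [w3, show d * y * (w 1 / v 1 * v 3) = w 1 / v 1 * (d * y * v 3) by ring, v3]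
        field_simp
  · -- a polynomial in the block with the simple eigenvalues
    set q := (t - 1) / (e - f) with hq
    have hqe : q * (e - f) = t - 1 := div_mul_cancel₀ _ (sub_ne_zero.2 hne)
    set p := 1 - q * f with hp
    refine ⟨!![1, 0, 0, 0; 0, p + q * d, 0, q * (d * y); 0, 0, 1, 0; 0, q * (d * z), 0, p + q * (d + d * κ)], ?_, ?_⟩
    · have h1 : (p + q * d) * (p + q * (d + d * κ)) - q * (d * z) * (q * (d * y)) = t := by
        have := hT 0
        rw [hp]
        linear_combination (q * q) * this + hqe + (q * (1 - q * f)) * hκd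
      rw [← h1]
      simp [Matrix.det_succ_row_zero, Fin.sum_univ_four, Fin.sum_univ_three, Fin.succAbove]
      ring
    · ext i j
      fin_cases i <;> fin_cases j <;> simp [hD, Matrix.mul_apply, Fin.sum_univ_four] <;> ring
  · let P : Matrix (Fin 2) (Fin 2) F := !![d, 0; d * s, d]
    let T : Matrix (Fin 2) (Fin 2) F := !![d, d * y; d * z, d + d * κ]
    let σ : Fin 2 ⊕ Fin 2 ≃ Fin 4 := finSumFinEquiv.trans (Equiv.swap (1 : Fin 4) 2)
    have hre : D = (fromBlocks P 0 0 T).reindex σ σ := by
      rw [← (Matrix.reindex σ σ).symm_apply_eq]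
      ext (i | i) (j | j) <;> fin_cases i <;> fin_cases j <;>
        simp [hD, P, T, σ, Equiv.swap_apply_def, finSumFinEquiv]
    have hP : P.charpoly = (Polynomial.X - C d) ^ 2 := by
      rw [Matrix.charpoly_fin_two, show P.trace = d + d by simp [P, trace_fin_two],
        show P.det = d * d by simp [P, det_fin_two], map_add C d d, map_mul C d d]
      ring
    have hTc : T.charpoly = (Polynomial.X - C e) * (Polynomial.X - C f) := by
      rw [Matrix.charpoly_fin_two, show T.trace = e + f by
          simp [T, trace_fin_two]; linear_combination hκd,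
        show T.det = e * f by rw [hef]; simp [T, det_fin_two]; linear_combination -(d * d) * hzy,
        map_add C e f, map_mul C e f]
      ring
    rw [hre, Matrix.charpoly_reindex, Matrix.charpoly_fromBlocks_zero₂₁, hP, hTc]
  · intro Z hZ
    simp only [List.mem_cons, List.not_mem_nil, or_false] at hZ
    rcases hZ with rfl | rfl
    · exact hXs
    · exact hYs

/-- Non-scalar targets and the scalar `det A` for the model of `J₂ ⊕ J₂`. -/
theorem covS_jordModel [Fintype F] (hF : 4 ≤ Fintype.card F) {a : F} (ha : a ≠ 0) :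
    (∀ B : Matrix (Fin 4) (Fin 4) F, B.det = (jordModel a).det ^ 4 → (∀ c : F, B ≠ c • 1) →
      CovS 4 (jordModel a) B) ∧ CovS 4 (jordModel a) ((jordModel a).det • 1) := by
  classical
  obtain ⟨D, e, f, hg, hfull, hef, hch, hcov⟩ := exists_pairS_jord hF ha
  set d := a * a with hd
  have hdd : d * d ≠ 0 := mul_ne_zero (mul_ne_zero ha ha) (mul_ne_zero ha ha)
  have he : e ≠ 0 := fun h => hdd (by rw [← hef, h, zero_mul])
  have hfne : f ≠ 0 := fun h => hdd (by rw [← hef, h, mul_zero])
  have hdet : (jordModel a).det = d * d := by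
    rw [det_of_isLowerTriangular]
    · simp [jordModel, Fin.prod_univ_four, hd]; ring
    · intro i j hij
      have hij' : i.val < j.val := hij
      fin_cases i <;> fin_cases j <;> simp [jordModel] at hij' ⊢
  have hsp : D.charpoly.Splits := by
    rw [hch]; exact ((Splits.X_sub_C _).pow 2).mul ((Splits.X_sub_C _).mul (Splits.X_sub_C _))
  have hDd : D.det = (d * d) ^ 2 := by rw [hcov.cov.det_eq, hdet]
  refine ⟨fun B hB hns => ?_, ?_⟩
  · obtain ⟨L, U, hL, hU, rfl⟩ := sq_geom1 hF 4 D hg hsp (by rw [hDd]; exact pow_ne_zero _ hdd) B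
      (by rw [hB, hDd, hdet, ← pow_mul]) (fun _ => hns)
    exact CovS.add (hcov.conj (hfull.simD_one hL)) (hcov.conj (hfull.simD_one hU))
  · have hu : IsUnit D.det := by rw [hDd]; exact isUnit_iff_ne_zero.2 (pow_ne_zero _ hdd)
    set U := (d * d) • D⁻¹ with hU
    have hchU : U.charpoly = D.charpoly := by
      let δv : Fin 4 → F := ![d, d, e, f]
      have hdiag : D.charpoly = (diagonal δv).charpoly := by
        rw [hch, Matrix.charpoly_diagonal]; simp [δv, Fin.prod_univ_four]; ring
      have h1 : D⁻¹.charpoly = (diagonal fun i => (δv i)⁻¹).charpoly := by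
        rw [charpoly_inv_congr hu.ne_zero hdiag]
        congr 1
        refine Matrix.inv_eq_right_inv ?_
        rw [diagonal_mul_diagonal, ← diagonal_one]
        congr 1
        funext i
        refine mul_inv_cancel₀ ?_
        fin_cases i <;> simp [δv, hd, ha, he, hfne]
      have key : ((d * d) • D⁻¹).charpoly = ((d * d) • diagonal fun i => (δv i)⁻¹).charpoly :=
        charpoly_smul_congr hdd h1
      rw [hU, key, ← diagonal_smul, Matrix.charpoly_diagonal, hch]
      have h2 : d * d * e⁻¹ = f := by rw [← hef]; field_simp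
      have h3 : d * d * f⁻¹ = e := by rw [← hef]; field_simp
      have h4 : d * d * d⁻¹ = d := by
        have : d ≠ 0 := mul_ne_zero ha ha
        field_simp
      rw [Fin.prod_univ_four]
      simp only [δv, Pi.smul_apply, smul_eq_mul, Matrix.cons_val_zero, Matrix.cons_val_one, Matrix.cons_val,
        h2, h3, h4]
      ring
    have hgU : Geom1 U := (hg.inv hu.ne_zero).smul hdd
    have hsim : Sim U D := geom1_sim 4 U D hgU hg (show U.charpoly.Splits by rw [hchU]; exact hsp) (by
      rw [hU, det_smul, det_nonsing_inv, Ring.inverse_eq_inv]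
      exact mul_ne_zero (pow_ne_zero _ hdd) (inv_ne_zero hu.ne_zero)) hchU
    have h := CovS.add hcov (hcov.conj (hfull.simD_one hsim))
    rwa [hU, Matrix.mul_smul, mul_nonsing_inv _ hu, ← hdet] at h

/-- **The special classes of dimension four, conjugators of determinant one.** -/
theorem covS_four_special [Fintype F] (hF : 4 ≤ Fintype.card F) {A : Matrix (Fin 4) (Fin 4) F}
    (hA : A.det ≠ 0) (hs : Special A) {B : Matrix (Fin 4) (Fin 4) F} (hB : B.det = A.det ^ 4)
    (hns : ∀ c : F, B ≠ c • 1) : CovS 4 A B := by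
  rcases hs with ⟨-, ⟨k, k', hne, hk, hk'⟩ | ⟨k, hk, hle⟩⟩
  · have hAM := sim_pair_model hne hk hk'
    exact ((centFull_pair_model k k').sim hAM).covS
      (covNF_four_special hF hA ⟨rfl, Or.inl ⟨k, k', hne, hk, hk'⟩⟩ hB hns).cov
  · have hAM := sim_jord_model hk hle
    have hk0 : k ≠ 0 := by
      rintro rfl
      refine hA ?_
      rw [hAM.det_eq, jordModel]
      exact det_eq_zero_of_row_eq_zero (0 : Fin 4) fun j => by fin_cases j <;> simp
    exact CovS.transport hAM (covS_jordModel hF hk0).1 hB hns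

theorem covS_four_special_scalar [Fintype F] (hF : 4 ≤ Fintype.card F) {A : Matrix (Fin 4) (Fin 4) F}
    (hA : A.det ≠ 0) (hs : Special A) : CovS 4 A (A.det • 1) := by
  rcases hs with ⟨-, ⟨k, k', hne, hk, hk'⟩ | ⟨k, hk, hle⟩⟩
  · have hAM := sim_pair_model hne hk hk'
    have hd : A.det = (k * k') * (k * k') := by
      rw [hAM.det_eq]; simp [det_diagonal, Fin.prod_univ_four]; ring
    have hk0 : k ≠ 0 := fun h => hA (by rw [hd, h]; ring)
    have hk'0 : k' ≠ 0 := fun h => hA (by rw [hd, h]; ring)
    refine ((centFull_pair_model k k').sim hAM).covS (Cov.congr ?_ hAM.symm)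
    set X' : Matrix (Fin 4) (Fin 4) F := diagonal ![k, k', k, k'] with hX
    set Y : Matrix (Fin 4) (Fin 4) F := diagonal ![k', k, k', k] with hY
    have hYX : Sim Y X' := by
      refine sim_of_vectors ![![0, 1, 0, 0], ![1, 0, 0, 0], ![0, 0, 0, 1], ![0, 0, 1, 0]] ?_ ?_
      · rw [Fintype.linearIndependent_iff]
        intro g hg
        have e0 := congrFun hg 0
        have e1 := congrFun hg 1
        have e2 := congrFun hg 2
        have e3 := congrFun hg 3
        simp [Fin.sum_univ_four] at e0 e1 e2 e3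
        intro i
        fin_cases i <;> simp [e0, e1, e2, e3]
      · intro j
        fin_cases j <;> ext i <;> fin_cases i <;>
          simp [hX, hY, mulVec, dotProduct, Fin.sum_univ_four]
    refine ⟨[X', Y, X', Y], rfl, fun Z hZ => ?_, ?_⟩
    · simp only [List.mem_cons, List.not_mem_nil, or_false] at hZ
      rcases hZ with rfl | rfl | rfl | rfl
      · exact Sim.refl _
      · exact hYX
      · exact Sim.refl _
      · exact hYX
    · rw [hd]
      ext i j
      fin_cases i <;> fin_cases j <;> simp [hX, hY, diagonal, Matrix.mul_apply, Fin.sum_univ_four] <;> ring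
  · have hAM := sim_jord_model hk hle
    have hk0 : k ≠ 0 := by
      rintro rfl
      refine hA ?_
      rw [hAM.det_eq, jordModel]
      exact det_eq_zero_of_row_eq_zero (0 : Fin 4) fun j => by fin_cases j <;> simp
    rw [hAM.det_eq]
    exact CovS.transport_scalar hAM (covS_jordModel hF hk0).2

end Cfsg.Agent.CoverPSL
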