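import Cfsg.Agent.Lib.CoverPSL.Glue

/-!
# Four conjugates of a class with one-dimensional eigenspaces

`covS_four_geom1`: if all eigenspaces of `A` are at most lines (in particular without eigenvalue)
every non-scalar matrix of determinant `det A ^ 4` is a product of four conjugates, conjugators of
determinant one; `cov_four_geom1` is the version for all dimensions and arbitrary conjugators.
-/

set_option autoImplicit false

namespace Cfsg.Agent.CoverPSL

open Matrix Polynomial Cfsg.Agent.Classical.Thompson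

variable {F : Type*} [Field F]

/-- Multiplicities are realised in the centralizer of a split matrix with lines as eigenspaces. -/
theorem cd_geom1 {n : ℕ} {D : Matrix (Fin n) (Fin n) F} (hg : Geom1 D) (hD : D.det ≠ 0) (δ : F) {x : F} :
    CD D (x ^ D.charpoly.rootMultiplicity δ) := by
  classical
  by_cases hroot : D.charpoly.eval δ = 0
  · have hev : (D - δ • 1).det = 0 := (det_sub_eq_zero_iff D δ).2 hroot
    have hδ : δ ≠ 0 := by rintro rfl; exact hD (by simpa using hev)
    obtain ⟨a, m, e, B, -, hB, -, hsim⟩ := exists_eigen_block hg hδ hev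
    have hjch : (δ • jord F a).charpoly = (X - C δ) ^ a := by
      rw [← Matrix.charpoly_transpose, Matrix.charpoly_of_isUpperTriangular]
      · simp [jord, Cfsg.Agent.Classical.RegularUnipotentConj.shift]
      · intro i j hij
        have hij' : j.val < i.val := hij
        simp [jord, Cfsg.Agent.Classical.RegularUnipotentConj.shift,
          show ¬ (i.val + 1 = j.val) by omega, Ne.symm (show i ≠ j from fun h => by subst h; omega)]
    have ha : D.charpoly.rootMultiplicity δ = a := by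
      rw [Sim.charpoly_eq hsim, Matrix.charpoly_reindex, Matrix.charpoly_fromBlocks_zero₂₁, hjch,
        rootMultiplicity_mul (mul_ne_zero (pow_ne_zero _ (X_sub_C_ne_zero δ)) (Matrix.charpoly_monic B).ne_zero),
        rootMultiplicity_X_sub_C_pow, rootMultiplicity_eq_zero (fun h => hB ((det_sub_eq_zero_iff B δ).2 h)),
        add_zero]
    rw [ha]
    have hJ : CD (δ • jord F a) (x ^ a) := ⟨x • 1, by simp, by simp [Matrix.smul_mul, Matrix.mul_smul, smul_smul, mul_comm]⟩
    simpa using ((hJ.blocks (CD.one B)).reindex e).sim hsim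
  · rw [rootMultiplicity_eq_zero (fun h => hroot h), pow_zero]
    exact CD.one D

theorem centFull_of_cd {ι : Type*} [Fintype ι] [DecidableEq ι] {A : Matrix ι ι F}
    (h : ∀ t : F, t ≠ 0 → CD A t) : CentFull A := h

/-- An irreducible companion matrix has all determinants in its centralizer. -/
theorem centFull_irr [Fintype F] {k : ℕ} (p : F[X]) (hp : p.Monic) (hd : p.natDegree = k)
    (hirr : Irreducible p) : CentFull (compMat p hp hd) := by
  classical
  subst hd
  haveI := Fact.mk hirr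
  haveI : Module.Finite F (AdjoinRoot p) := hp.finite_adjoinRoot
  haveI : Finite (AdjoinRoot p) := Module.finite_of_finite F
  set b := (AdjoinRoot.powerBasis' hp).basis.reindex (finCongr (rfl : p.natDegree = p.natDegree)) with hb
  intro t _
  obtain ⟨y, hy⟩ := FiniteField.norm_surjective F (AdjoinRoot p) t
  refine ⟨Algebra.leftMulMatrix b y, by rw [← hy, Algebra.norm_eq_matrix_det b], ?_⟩
  show _ * Algebra.leftMulMatrix b (AdjoinRoot.root p) = Algebra.leftMulMatrix b (AdjoinRoot.root p) * _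
  rw [← map_mul, mul_comm, map_mul]

/-- A split matrix with lines as eigenspaces is a companion matrix. -/
theorem sim_compMat_split [Finite F] {t : ℕ} (ht : 2 ≤ t) {T : Matrix (Fin t) (Fin t) F} (hg : Geom1 T)
    (hs : T.charpoly.Splits) (hT : T.det ≠ 0) :
    ∃ (f : F[X]) (hf : f.Monic) (hd : f.natDegree = t), f.coeff 0 ≠ 0 ∧ Sim T (compMat f hf hd) := by
  have hd : T.charpoly.natDegree = t := by rw [Matrix.charpoly_natDegree_eq_dim, Fintype.card_fin]
  have h0 : T.charpoly.coeff 0 ≠ 0 := fun h => hT (by rw [Matrix.det_eq_sign_charpoly_coeff, h, mul_zero])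
  exact ⟨T.charpoly, Matrix.charpoly_monic T, hd, h0, geom1_sim t T _ hg
    (compMat_geom1 ht _ _ hd h0) hs hT (compMat_charpoly _ _ _).symm⟩

theorem sim_perm {ι : Type*} [Fintype ι] [DecidableEq ι] (M : Matrix ι ι F) (π : Equiv.Perm ι) :
    Sim (M.reindex π π) M := by
  refine ⟨(π⁻¹).permMatrix F, π.permMatrix F, ?_, ?_⟩
  · rw [← Matrix.permMatrix_mul, mul_inv_cancel, Equiv.Perm.permMatrix, Equiv.Perm.one_def, Equiv.toPEquiv_refl,
      PEquiv.toMatrix_refl]
  · ext i j
    simp [Equiv.Perm.permMatrix, PEquiv.toMatrix_toPEquiv_mul, PEquiv.mul_toMatrix_toPEquiv, Equiv.Perm.inv_def]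

theorem pair_empty (T : Matrix (Fin 0) (Fin 0) F) : Pair T 1 1 1 :=
  ⟨one_ne_zero, one_ne_zero, T, T, SimD.refl T, SimD.refl T,
    fun c v w _ _ hv => absurd (_root_.funext fun i => i.elim0) hv, by simp⟩

/-- A pair for every matrix with lines as eigenspaces. -/
theorem exists_pair_geom1 [Fintype F] (hF : 4 ≤ Fintype.card F) {n : ℕ} {A : Matrix (Fin n) (Fin n) F}
    (hg : Geom1 A) (hA : A.det ≠ 0) :
    ∃ π : F[X], π.Splits ∧ ∃ σ ω, Pair A π σ ω := by
  classical
  obtain ⟨m, t, e, R, T, hR, hgT, hsT, hT0, hsim⟩ := exists_eigen_part hg hA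
  obtain ⟨π, ⟨σ, ω, hpR⟩, hspR, -⟩ := exists_res hF hR
  obtain ⟨πT, hspT, σT, ωT, hpT⟩ : ∃ πT : F[X], πT.Splits ∧ ∃ σT ωT, Pair T πT σT ωT := by
    rcases Nat.lt_or_ge t 2 with ht | ht
    · rcases Nat.eq_zero_or_pos t with rfl | ht0
      · exact ⟨1, Splits.one, 1, 1, pair_empty T⟩
      · obtain rfl : t = 1 := by omega
        refine ⟨(T * T).charpoly, ?_, 1, 1, one_ne_zero, one_ne_zero, T, T, SimD.refl T, SimD.refl T,
          ?_, rfl⟩
        · rw [Matrix.charpoly_of_isUpperTriangular]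
          · exact Splits.prod fun i _ => Splits.X_sub_C _
          · intro i j hij; exact absurd hij (by simp [Subsingleton.elim i j])
        · intro c v w _ _ hv
          have hv0 : v 0 ≠ 0 := fun h => hv (_root_.funext fun i => by rw [Subsingleton.elim i 0]; exact h)
          exact ⟨w 0 / v 0, _root_.funext fun i => by
            rw [Subsingleton.elim i 0]; simp [div_mul_cancel₀ _ hv0]⟩
    · obtain ⟨f, hf, hd, hf0, hTf⟩ := sim_compMat_split ht hgT hsT hT0
      obtain ⟨πT, h1, σT, ωT, h2⟩ := exists_pair_comp hF ht f hf hd hf0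
      obtain ⟨δ, hδ, hd'⟩ := exists_simD hTf.symm
      exact ⟨πT, h1, _, _, h2.congr hδ hd'⟩
  obtain ⟨δ, hδ, hd⟩ := exists_simD hsim.symm
  exact ⟨π * πT, hspR.mul hspT, _, _, ((hpR.glue hpT hR hT0 0).reindex e).congr hδ hd⟩

/-- A cyclic block gives any two conjugator determinants. -/
theorem pair_main [Finite F] {k : ℕ} (hk : 3 ≤ k) (f : F[X]) (hf : f.Monic) (hd : f.natDegree = k)
    (hf0 : f.coeff 0 ≠ 0) (e : Fin k → F) (he : ∀ i, e i ≠ 0)
    (hsimple : ∀ i j : Fin k, i.val = 0 → j.val ≠ 0 → e i ≠ e j)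
    (hprod : ∏ i, e i = (compMat f hf hd).det ^ 2) (σ ω : F) (hσ : σ ≠ 0) (hω : ω ≠ 0) :
    Pair (compMat f hf hd) (∏ i, (X - C (e i))) σ ω := by
  have hdC : (compMat f hf hd).det ≠ 0 := by
    rw [compMat_det]; exact mul_ne_zero (pow_ne_zero _ (neg_ne_zero.2 one_ne_zero)) hf0
  obtain ⟨g, hgdef⟩ : ∃ g, (compMat f hf hd)⁻¹.charpoly = g := ⟨_, rfl⟩
  have hg : g.Monic := hgdef ▸ Matrix.charpoly_monic _
  have hgd : g.natDegree = k := by rw [← hgdef, Matrix.charpoly_natDegree_eq_dim, Fintype.card_fin]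
  have hdg : (compMat g hg hgd).det = (compMat f hf hd).det⁻¹ := by
    rw [Matrix.det_eq_sign_charpoly_coeff, compMat_charpoly, ← hgdef, ← Matrix.det_eq_sign_charpoly_coeff,
      det_nonsing_inv, Ring.inverse_eq_inv]
  have hg0 : g.coeff 0 ≠ 0 := by
    intro h0
    rw [compMat_det g hg hgd, h0, mul_zero] at hdg
    exact inv_ne_zero hdC hdg.symm
  obtain ⟨κ, hκ, hinv⟩ := compMat_inv (by omega) f hf hd hf0 g hg hgd hgdef
  obtain ⟨T, H, -, -, hHs, hX, hgeom, hchar⟩ := exists_twist hk f hf hd g hg hgd hg0 e he hsimple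
    (by rw [hdg, hprod, pow_two, mul_assoc, mul_inv_cancel₀ hdC, mul_one]) (ω / κ) σ (div_ne_zero hω hκ) hσ
  have hHd : H.det ≠ 0 := by rw [hHs.det_eq (div_ne_zero hω hκ), hdg]; exact inv_ne_zero hdC
  have hTH : T * H * H⁻¹ = T := by
    rw [Matrix.mul_assoc, mul_nonsing_inv _ (isUnit_iff_ne_zero.2 hHd), Matrix.mul_one]
  refine ⟨hσ, hω, T * H, H⁻¹, hX, ?_, by rw [hTH]; exact hgeom, by rw [hTH]; exact hchar⟩
  have h := (hHs.inv (div_ne_zero hω hκ) hHd).trans hinv
  rwa [div_mul_cancel₀ _ hκ] at h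

/-- A spectrum with prescribed simple first value and prescribed product. -/
theorem exists_spectrum_first [Fintype F] (hF : 4 ≤ Fintype.card F) {k : ℕ} (hk : 3 ≤ k) (δ P : F)
    (hδ : δ ≠ 0) (hP : P ≠ 0) :
    ∃ e : Fin k → F, (∀ i, e i ≠ 0) ∧ (∀ i j : Fin k, i.val = 0 → j.val ≠ 0 → e i ≠ e j) ∧
      e ⟨0, by omega⟩ = δ ∧ ∏ i, e i = P := by
  classical
  obtain ⟨c, -, hc⟩ := Finset.exists_mem_notMem_of_card_lt_card (s := ({0, δ} : Finset F))
    (t := Finset.univ) (lt_of_le_of_lt Finset.card_le_two (by rw [Finset.card_univ]; omega))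
  simp only [Finset.mem_insert, Finset.mem_singleton, not_or] at hc
  let a : Fin k := ⟨k - 2, by omega⟩
  let b : Fin k := ⟨k - 1, by omega⟩
  let e₀ : Fin k → F := fun i => if i.val = 0 then δ else if i = a ∨ i = b then 1 else c
  have he₀ : ∀ i, e₀ i ≠ 0 := fun i => by simp only [e₀]; split_ifs <;> simp [hc.1, hδ]
  obtain ⟨x, y, hx, hy, hx1, hy1, hxy⟩ := exists_two_avoid hF δ (P / ∏ i, e₀ i)
    (div_ne_zero hP (Finset.prod_ne_zero_iff.2 fun i _ => he₀ i))
  refine ⟨fun i => e₀ i * (if i = a then x else if i = b then y else 1), fun i => ?_, ?_, ?_, ?_⟩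
  · refine mul_ne_zero (he₀ i) ?_
    split_ifs <;> simp [hx, hy]
  · intro i j hi hj
    have hia : i ≠ a := fun h => by have := congrArg Fin.val h; simp [a] at this; omega
    have hib : i ≠ b := fun h => by have := congrArg Fin.val h; simp [b] at this; omega
    simp only [e₀, if_pos hi, if_neg hj, if_neg hia, if_neg hib, mul_one]
    by_cases hja : j = a
    · simp [hja, Ne.symm hx1]
    · by_cases hjb : j = b
      · subst hjb; simp [hja, Ne.symm hy1]
      · simp [hja, hjb, Ne.symm hc.2]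
  · have hia : (⟨0, by omega⟩ : Fin k) ≠ a := fun h => by have := congrArg Fin.val h; simp [a] at this; omega
    have hib : (⟨0, by omega⟩ : Fin k) ≠ b := fun h => by have := congrArg Fin.val h; simp [b] at this; omega
    simp [e₀, hia, hib]
  · have hab : a ≠ b := fun h => by have := congrArg Fin.val h; simp [a, b] at this; omega
    rw [Finset.prod_mul_distrib, Finset.prod_eq_mul (s := Finset.univ) a b hab (f := fun i => if i = a then x else if i = b then y else 1)
      (fun c _ hc => by simp [hc.1, hc.2]) (by simp) (by simp)]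
    simp only [if_true, if_neg (Ne.symm hab)]
    rw [hxy, mul_div_cancel₀ _ (Finset.prod_ne_zero_iff.2 fun i _ => he₀ i)]

theorem rootMultiplicity_spectrum {k : ℕ} (hk : 1 ≤ k) (e : Fin k → F)
    (hsimple : ∀ i j : Fin k, i.val = 0 → j.val ≠ 0 → e i ≠ e j) :
    (∏ i, (X - C (e i))).rootMultiplicity (e ⟨0, hk⟩) = 1 := by
  classical
  rw [Finset.prod_eq_multiset_prod, ← count_roots]
  have : (Finset.univ.val.map fun i => X - C (e i)) = (Finset.univ.val.map e).map fun a => X - C a := by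
    rw [Multiset.map_map]; rfl
  rw [this, roots_multiset_prod_X_sub_C, Multiset.count_map, ← Finset.filter_val]
  show (Finset.univ.filter fun i => e ⟨0, hk⟩ = e i).card = 1
  rw [Finset.card_eq_one]
  refine ⟨⟨0, hk⟩, Finset.ext fun i => ?_⟩
  simp only [Finset.mem_filter, Finset.mem_univ, true_and, Finset.mem_singleton]
  exact ⟨fun h => Fin.ext (by_contra fun h' => hsimple ⟨0, hk⟩ i rfl h' h), fun h => h ▸ rfl⟩

/-- Both conjugators of determinant one, and an exponent `m` for adjusting the product. -/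
theorem exists_pair_special [Fintype F] (hF : 4 ≤ Fintype.card F) {n : ℕ} (hn : 3 ≤ n)
    {A : Matrix (Fin n) (Fin n) F} (hg : Geom1 A) (hA : A.det ≠ 0) :
    CentFull A ∨ ∃ (π : F[X]) (δ : F) (m : ℕ), π.Splits ∧ Pair A π 1 1 ∧ π.rootMultiplicity δ = m + 1 ∧
      ∀ x : F, x ≠ 0 → CD A (x ^ m) := by
  classical
  obtain ⟨r, t, e, R, T, hR, hgT, hsT, hT0, hsim⟩ := exists_eigen_part hg hA
  obtain ⟨γ, hγ, hγd⟩ := exists_simD hsim.symm
  rcases Nat.lt_or_ge t 3 with ht | ht
  swap
  · -- the split part is the main block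
    right
    obtain ⟨π, ⟨σ, ω, hpR⟩, hspR, hcd⟩ := exists_res hF hR
    obtain ⟨f, hf, hd, hf0, hTf⟩ := sim_compMat_split (by omega) hgT hsT hT0
    obtain ⟨ρ, hρ, hTd⟩ := exists_simD hTf.symm
    have hfd : (compMat f hf hd).det ≠ 0 := hTf.det_eq ▸ hT0
    obtain ⟨ev, hev, hsimple, hprod⟩ := exists_spectrum hF ht ((compMat f hf hd).det ^ 2) (pow_ne_zero _ hfd)
    have hσ := hpR.1
    have hω := hpR.2.1
    have hmain := (pair_main ht f hf hd hf0 ev hev hsimple hprod (σ * ρ * γ)⁻¹ (ω * ρ * γ)⁻¹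
      (inv_ne_zero (mul_ne_zero (mul_ne_zero hσ hρ) hγ)) (inv_ne_zero (mul_ne_zero (mul_ne_zero hω hρ) hγ))).congr
        hρ hTd
    have hπ : π.Monic := Pair.monic hpR
    refine ⟨π * ∏ i, (X - C (ev i)), ev ⟨0, by omega⟩, π.rootMultiplicity (ev ⟨0, by omega⟩),
      hspR.mul (Splits.prod fun i _ => Splits.X_sub_C _), ?_, ?_, fun x hx => ?_⟩
    · have h := ((hpR.glue hmain hR hT0 0).reindex e).congr hγ hγd
      rw [show σ * ((σ * ρ * γ)⁻¹ * ρ) * γ = 1 by field_simp,
        show ω * ((ω * ρ * γ)⁻¹ * ρ) * γ = 1 by field_simp] at h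
      exact h
    · rw [rootMultiplicity_mul (mul_ne_zero hπ.ne_zero (monic_prod_of_monic _ _ fun i _ => monic_X_sub_C _).ne_zero),
        rootMultiplicity_spectrum (by omega) ev hsimple]
    · simpa using ((((hcd _ x hx).blocks (CD.one T))).reindex e).sim hsim
  by_cases ht1 : t = 1
  · subst ht1
    refine Or.inl (centFull_of_cd fun x _ => ?_)
    have hT : CD T x := ⟨x • 1, by simp, by simp [Matrix.smul_mul, Matrix.mul_smul]⟩
    simpa using (((CD.one R).blocks hT).reindex e).sim hsim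
  have hr : 1 ≤ r := by
    have : r + t = n := by simpa using Fintype.card_congr e
    omega
  obtain ⟨p, v, k, m, hp, hd, e₁, R', hirr, hv, hp2, hroot, hR', hRs⟩ := exists_primary hr hR
  set Cm := compMat (p ^ v) (hp.pow v) hd with hCm
  have hroot' : ∀ a : F, (p ^ v).eval a ≠ 0 := fun a h => hroot a (by
    rw [eval_pow] at h; exact (pow_eq_zero_iff (by omega)).1 h)
  have hkd : k = v * p.natDegree := by rw [← hd, natDegree_pow]
  rcases Nat.lt_or_ge k 3 with hk | hk
  · -- a quadratic irreducible block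
    obtain rfl : v = 1 := by
      by_contra hv'
      have : 2 * 2 ≤ v * p.natDegree := Nat.mul_le_mul (by omega) hp2
      omega
    have hC : CentFull Cm := centFull_irr (p ^ 1) (hp.pow 1) hd (by rw [pow_one]; exact hirr)
    refine Or.inl (centFull_of_cd fun x hx => ?_)
    have h0 : CD Cm x := hC x hx
    have h1 : CD R x := by simpa using ((h0.blocks (CD.one R')).reindex e₁).sim hRs
    simpa using ((h1.blocks (CD.one T)).reindex e).sim hsim
  right
  obtain ⟨π', ⟨σ', ω', hpR'⟩, hspR', hcd'⟩ := exists_res hF hR'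
  obtain ⟨δ, hδ, πT, hspT, hmT, σT, ωT, hpT⟩ : ∃ δ : F, δ ≠ 0 ∧ ∃ πT : F[X], πT.Splits ∧
      πT.rootMultiplicity δ = 0 ∧ ∃ σT ωT, Pair T πT σT ωT := by
    rcases Nat.eq_zero_or_pos t with rfl | ht0
    · exact ⟨1, one_ne_zero, 1, Splits.one, rootMultiplicity_eq_zero (by simp), 1, 1, pair_empty T⟩
    obtain rfl : t = 2 := by omega
    obtain ⟨f, hf, hfd, hf0, hTf⟩ := sim_compMat_split le_rfl hgT hsT hT0
    set d := (compMat f hf hfd).det with hdd
    have hd0 : d ≠ 0 := by rw [hdd, ← hTf.det_eq]; exact hT0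
    obtain ⟨a, -, ha⟩ := Finset.exists_mem_notMem_of_card_lt_card (s := ({0, d, -d} : Finset F))
      (t := Finset.univ) (lt_of_le_of_lt Finset.card_le_three (by rw [Finset.card_univ]; omega))
    simp only [Finset.mem_insert, Finset.mem_singleton, not_or] at ha
    have hne : a ≠ d * d / a := fun h => by
      rw [eq_div_iff ha.1] at h
      rcases mul_self_eq_mul_self_iff.1 h with h1 | h1
      · exact ha.2.1 h1
      · exact ha.2.2 h1
    obtain ⟨X', Y, hX, hY, hgXY, hch⟩ := exists_cyclic_mul_two f hf hfd hf0 f hf hfd hf0 ![a, d * d / a]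
      (fun i => by fin_cases i <;> simp [ha.1, hd0]) hne
      (by simp [Fin.prod_univ_two, mul_div_cancel₀ _ ha.1, hdd])
    obtain ⟨σT, hσT, hXd⟩ := exists_simD (hX.trans hTf.symm)
    obtain ⟨ωT, hωT, hYd⟩ := exists_simD (hY.trans hTf.symm)
    refine ⟨d, hd0, ∏ i, (X - C ((![a, d * d / a] : Fin 2 → F) i)), Splits.prod fun i _ => Splits.X_sub_C _,
      rootMultiplicity_eq_zero ?_, σT, ωT, hσT, hωT, X', Y, hXd, hYd, hgXY, hch⟩
    simp only [IsRoot.def, Fin.prod_univ_two, eval_mul, eval_sub, eval_X, eval_C, mul_eq_zero, sub_eq_zero,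
      Matrix.cons_val_zero, Matrix.cons_val_one, not_or]
    refine ⟨fun h => ha.2.1 h.symm, fun h => ha.2.1 ?_⟩
    rw [eq_div_iff ha.1] at h
    exact mul_left_cancel₀ hd0 h
  have hCd : Cm.det ≠ 0 := (noEig_compMat.2 hroot').det_ne
  obtain ⟨ev, hev, hsimple, he0, hprod⟩ := exists_spectrum_first hF hk δ (Cm.det ^ 2) hδ (pow_ne_zero _ hCd)
  have hσ' := hpR'.1
  have hω' := hpR'.2.1
  have hσT := hpT.1
  have hωT := hpT.2.1
  -- `A` with the main block in the middle
  let τ : Fin m ⊕ (Fin k ⊕ Fin t) ≃ Fin n :=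
    (((Equiv.sumAssoc _ _ _).symm.trans (Equiv.sumCongr (Equiv.sumComm _ _) (Equiv.refl _))).trans
      (Equiv.sumCongr e₁ (Equiv.refl _))).trans e
  have hsim2 : Sim A ((fromBlocks R' 0 0 (fromBlocks Cm 0 0 T)).reindex τ τ) := by
    refine hsim.trans (((hRs.fromBlocks (Sim.refl T)).reindex e).trans ?_)
    rw [show (fromBlocks ((fromBlocks Cm 0 0 R').reindex e₁ e₁) 0 0 T).reindex e e =
      (fromBlocks R' 0 0 (fromBlocks Cm 0 0 T)).reindex τ τ by
      ext i j
      obtain ⟨x, rfl⟩ := τ.surjective i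
      obtain ⟨y, rfl⟩ := τ.surjective j
      rcases x with u | u <;> rcases y with w | w
      all_goals try (rcases u with u | u)
      all_goals try (rcases w with w | w)
      all_goals simp [τ]]
    exact Sim.refl _
  obtain ⟨ρ, hρ, hρd⟩ := exists_simD hsim2.symm
  have hmain := pair_main hk (p ^ v) (hp.pow v) hd (coeff_zero_of_no_root hroot') ev hev hsimple hprod
    (σ' * σT * ρ)⁻¹ (ω' * ωT * ρ)⁻¹ (inv_ne_zero (mul_ne_zero (mul_ne_zero hσ' hσT) hρ))
    (inv_ne_zero (mul_ne_zero (mul_ne_zero hω' hωT) hρ))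
  have hinner := hmain.glue hpT (noEig_compMat.2 hroot') hT0 0
  have hin0 : (fromBlocks Cm 0 0 T).det ≠ 0 := by rw [det_fromBlocks_zero₂₁]; exact mul_ne_zero hCd hT0
  refine ⟨π' * ((∏ i, (X - C (ev i))) * πT), δ, π'.rootMultiplicity δ,
    hspR'.mul ((Splits.prod fun i _ => Splits.X_sub_C _).mul hspT), ?_, ?_, fun x hx => ?_⟩
  · have h := ((hpR'.glue hinner hR' hin0 0).reindex τ).congr hρ hρd
    rw [show σ' * ((σ' * σT * ρ)⁻¹ * σT) * ρ = 1 by field_simp,
      show ω' * ((ω' * ωT * ρ)⁻¹ * ωT) * ρ = 1 by field_simp] at h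
    exact h
  · have h1 := (monic_prod_of_monic Finset.univ (fun i => X - C (ev i)) fun i _ => monic_X_sub_C _).mul (Pair.monic hpT)
    rw [rootMultiplicity_mul (mul_ne_zero (Pair.monic hpR').ne_zero h1.ne_zero), rootMultiplicity_mul h1.ne_zero,
      hmT, ← he0, rootMultiplicity_spectrum (by omega) ev hsimple]
  · simpa using (((hcd' δ x hx).blocks ((CD.one Cm).blocks (CD.one T))).reindex τ).sim hsim2

/-- Four conjugates, any conjugators. -/
theorem cov_four_geom1 [Fintype F] (hF : 4 ≤ Fintype.card F) {n : ℕ} {A : Matrix (Fin n) (Fin n) F}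
    (hg : Geom1 A) (hA : A.det ≠ 0) {B : Matrix (Fin n) (Fin n) F} (hB : B.det = A.det ^ 4)
    (hns : ∀ c : F, B ≠ c • 1) : Cov 4 A B := by
  classical
  obtain ⟨π, hsp, σ, ω, hσ, hω, X', Y, hX, hY, hgD, hch⟩ := exists_pair_geom1 hF hg hA
  have hcov : Cov 2 A (X' * Y) := (Cov.single (hX.sim hσ)).add (Cov.single (hY.sim hω))
  have hDd : (X' * Y).det = A.det ^ 2 := hcov.det_eq
  obtain ⟨L, U, hL, hU, rfl⟩ := sq_geom1 hF n (X' * Y) hgD (hch ▸ hsp)
    (by rw [hDd]; exact pow_ne_zero _ hA) B (by rw [hB, hDd, ← pow_mul]) (fun _ => hns)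
  exact Cov.add (hcov.conj hL) (hcov.conj hU)

/-- **Four conjugates, conjugators of determinant one.** -/
theorem covS_four_geom1 [Fintype F] (hF : 4 ≤ Fintype.card F) {n : ℕ} (hn : 3 ≤ n)
    {A : Matrix (Fin n) (Fin n) F} (hg : Geom1 A) (hA : A.det ≠ 0) {B : Matrix (Fin n) (Fin n) F}
    (hB : B.det = A.det ^ 4) (hns : ∀ c : F, B ≠ c • 1) : CovS 4 A B := by
  classical
  rcases exists_pair_special hF hn hg hA with hfull | ⟨π, δ, m, hsp, hpair, hmult, hcd⟩
  · exact hfull.covS (cov_four_geom1 hF hg hA hB hns)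
  obtain ⟨-, -, X', Y, ⟨P, hP, eP⟩, ⟨Q, hQ, eQ⟩, hgD, hch⟩ := hpair
  set D := X' * Y with hD
  have hDd : D.det = A.det ^ 2 := by
    rw [hD, det_mul, (show SimD 1 X' A from ⟨P, hP, eP⟩).det_eq one_ne_zero,
      (show SimD 1 Y A from ⟨Q, hQ, eQ⟩).det_eq one_ne_zero, pow_two]
  have hD0 : D.det ≠ 0 := by rw [hDd]; exact pow_ne_zero _ hA
  have key : ∀ L : Matrix (Fin n) (Fin n) F, Sim L D → CovS 2 A L := by
    intro L hL
    obtain ⟨ε, hε, R, hR, eR⟩ := exists_simD hL
    obtain ⟨Z, hZ, hZD⟩ := cd_geom1 hgD hD0 δ (x := ε⁻¹)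
    rw [hch, hmult] at hZ
    obtain ⟨W, hW, hWA⟩ := hcd ε (hε)
    set S := R * Z with hS
    have hSu : IsUnit S.det := by
      rw [hS, det_mul, hR, hZ]; exact isUnit_iff_ne_zero.2 (mul_ne_zero hε (pow_ne_zero _ (inv_ne_zero hε)))
    have hLS : L * S = S * D := by
      rw [hS, ← Matrix.mul_assoc, eR, Matrix.mul_assoc, ← hZD, ← Matrix.mul_assoc]
    have hd1 : ∀ M : Matrix (Fin n) (Fin n) F, M.det = 1 → (S * M * W).det = 1 := fun M hM => by
      rw [det_mul, det_mul, hS, det_mul, hR, hZ, hM, hW, mul_one, mul_assoc, inv_pow, pow_succ, mul_inv,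
        mul_comm ((ε ^ m)⁻¹) ε⁻¹, mul_assoc ε⁻¹, inv_mul_cancel₀ (pow_ne_zero _ hε), mul_one,
        mul_inv_cancel₀ hε]
    refine ⟨[S * X' * S⁻¹, S * Y * S⁻¹], rfl, ?_, ?_⟩
    · intro M hM
      simp only [List.mem_cons, List.not_mem_nil, or_false] at hM
      rcases hM with rfl | rfl
      · refine ⟨S * P * W, hd1 P hP, ?_⟩
        calc S * X' * S⁻¹ * (S * P * W) = S * X' * (S⁻¹ * S) * P * W := by simp only [Matrix.mul_assoc]
          _ = S * (X' * P) * W := by rw [nonsing_inv_mul _ hSu, Matrix.mul_one]; simp only [Matrix.mul_assoc]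
          _ = _ := by rw [eP]; simp only [Matrix.mul_assoc, hWA]
      · refine ⟨S * Q * W, hd1 Q hQ, ?_⟩
        calc S * Y * S⁻¹ * (S * Q * W) = S * Y * (S⁻¹ * S) * Q * W := by simp only [Matrix.mul_assoc]
          _ = S * (Y * Q) * W := by rw [nonsing_inv_mul _ hSu, Matrix.mul_one]; simp only [Matrix.mul_assoc]
          _ = _ := by rw [eQ]; simp only [Matrix.mul_assoc, hWA]
    · rw [List.prod_cons, List.prod_singleton]
      calc S * X' * S⁻¹ * (S * Y * S⁻¹) = S * X' * (S⁻¹ * S) * Y * S⁻¹ := by simp only [Matrix.mul_assoc]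
        _ = S * D * S⁻¹ := by rw [nonsing_inv_mul _ hSu, Matrix.mul_one, hD]; simp only [Matrix.mul_assoc]
        _ = L := by rw [← hLS, Matrix.mul_assoc, mul_nonsing_inv _ hSu, Matrix.mul_one]
  obtain ⟨L, U, hL, hU, rfl⟩ := sq_geom1 hF n D hgD (hch ▸ hsp) hD0 B
    (by rw [hB, hDd, ← pow_mul]) (fun _ => hns)
  exact CovS.add (key L hL) (key U hU)

theorem noEig_geom1 {ι : Type*} [Fintype ι] [DecidableEq ι] {A : Matrix ι ι F} (h : NoEig A) : Geom1 A :=
  fun c v _ hv _ hv0 => absurd (Matrix.exists_mulVec_eq_zero_iff.1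
    ⟨v, hv0, by rw [sub_mulVec, hv, smul_mulVec, one_mulVec, sub_self]⟩) (h c)

theorem adj_comp_two {H : Matrix (Fin 2) (Fin 2) F} (hH : IsHessS H) (h11 : H 1 1 = 0) (hd : H.det ≠ 0) :
    Sim H.adjugate H := by
  have h10 : H 1 0 ≠ 0 := (hH 1 0).2 rfl
  have h01 : H 0 1 ≠ 0 := fun h => hd (by simp [det_fin_two, h11, h])
  refine sim_of_mul_eq' (P := !![0, -(H 0 1) / H 1 0; 1, 0]) ?_ ?_
  · simp [det_fin_two, h10, h01]
  · ext i j
    fin_cases i <;> fin_cases j <;>
      simp [Matrix.adjugate_fin_two, Matrix.mul_apply, Fin.sum_univ_two, h11] <;> field_simp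
where
  sim_of_mul_eq' {A B P : Matrix (Fin 2) (Fin 2) F} (hP : P.det ≠ 0) (h : A * P = P * B) : Sim A B :=
    ⟨P, P⁻¹, mul_nonsing_inv _ (isUnit_iff_ne_zero.2 hP), by
      rw [← h, Matrix.mul_assoc, mul_nonsing_inv _ (isUnit_iff_ne_zero.2 hP), Matrix.mul_one]⟩

/-- In dimension four without eigenvalue the identity is a product of four conjugates. -/
theorem covS_four_one_noEig [Fintype F] (hF : 4 ≤ Fintype.card F) {A : Matrix (Fin 4) (Fin 4) F}
    (hA : NoEig A) (hdet : A.det = 1) : CovS 4 A 1 := by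
  classical
  have cyclic : ∀ (f : F[X]) (hf : f.Monic) (hd : f.natDegree = 4), Sim A (compMat f hf hd) → CovS 4 A 1 := by
    intro f hf hd hs
    obtain ⟨δ, hδ, h⟩ := exists_simD hs
    exact covS_four_one hF (by norm_num) hdet f hf hd hδ h
  obtain ⟨p, v, k, m, hp, hd, e, A', hirr, hv, hp2, hroot, hA', hsim⟩ := exists_primary (by norm_num) hA
  have hcard : k + m = 4 := by simpa using Fintype.card_congr e
  have hkd : k = v * p.natDegree := by rw [← hd, natDegree_pow]
  rcases Nat.eq_zero_or_pos m with rfl | hm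
  · obtain rfl : k = 4 := by omega
    refine cyclic (p ^ v) (hp.pow v) hd (hsim.trans ?_)
    set π : Equiv.Perm (Fin 4) := (Equiv.sumEmpty (Fin 4) (Fin 0)).symm.trans e
    rw [show (fromBlocks (compMat (p ^ v) (hp.pow v) hd) 0 0 A').reindex e e =
      (compMat (p ^ v) (hp.pow v) hd).reindex π π by
      ext i j
      obtain ⟨x, rfl⟩ := π.surjective i
      obtain ⟨y, rfl⟩ := π.surjective j
      simp [π]]
    exact sim_perm _ π
  obtain ⟨q, w, k', m', hq, hqd, e', A'', hqirr, hw, hq2, hqroot, hA'', hsim'⟩ := exists_primary hm hA'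
  have hcard' : k' + m' = m := by simpa using Fintype.card_congr e'
  have hkd' : k' = w * q.natDegree := by rw [← hqd, natDegree_pow]
  have hk2 : 2 ≤ k := by rw [hkd]; exact le_mul_of_one_le_of_le hv hp2
  have hk2' : 2 ≤ k' := by rw [hkd']; exact le_mul_of_one_le_of_le hw hq2
  obtain ⟨rfl, rfl, rfl⟩ : k = 2 ∧ k' = 2 ∧ m' = 0 := by omega
  obtain rfl : v = 1 := by nlinarith
  obtain rfl : w = 1 := by nlinarith
  obtain rfl : m = 2 := by omega
  have hA's : Sim A' (compMat (q ^ 1) (hq.pow 1) hqd) := by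
    refine hsim'.trans ?_
    set π : Equiv.Perm (Fin 2) := (Equiv.sumEmpty (Fin 2) (Fin 0)).symm.trans e'
    rw [show (fromBlocks (compMat (q ^ 1) (hq.pow 1) hqd) 0 0 A'').reindex e' e' =
      (compMat (q ^ 1) (hq.pow 1) hqd).reindex π π by
      ext i j
      obtain ⟨x, rfl⟩ := π.surjective i
      obtain ⟨y, rfl⟩ := π.surjective j
      simp [π]]
    exact sim_perm _ π
  have hs := hsim.trans (((Sim.refl (compMat (p ^ 1) (hp.pow 1) hd)).fromBlocks hA's).reindex e)
  by_cases hpq : p = q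
  · subst hpq
    set Cp := compMat (p ^ 1) (hp.pow 1) hd with hCp
    have hC0 : Cp.det ≠ 0 := (noEig_compMat.2 (by simpa using hroot)).det_ne
    obtain ⟨H, hH, hHs, hHc⟩ := exists_companion le_rfl (p ^ 1) (hp.pow 1) hd
      (coeff_zero_of_no_root (by simpa using hroot)) 1 one_ne_zero
    have hHC : Sim H Cp := hHs.sim one_ne_zero
    have hadj : Sim H.adjugate Cp :=
      (adj_comp_two hH (hHc 1 1 (by decide) (by decide)) (hHC.det_eq ▸ hC0)).trans hHC
    have hfull : CentFull A := centFull_of_cd fun x hx => by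
      have h1 : CD Cp x := centFull_irr (p ^ 1) (hp.pow 1) hd (by rw [pow_one]; exact hirr) x hx
      simpa using ((h1.blocks (CD.one Cp)).reindex e).sim hs
    refine hfull.covS ?_
    have hdd : Cp.det * Cp.det = 1 := by rw [← hdet, hs.det_eq, det_reindex_self, det_fromBlocks_zero₂₁]
    set X' := (fromBlocks H 0 0 H).reindex e e with hX
    set Y := (fromBlocks H.adjugate 0 0 H.adjugate).reindex e e with hY
    have hXY : X' * Y = H.det • 1 := by
      simp only [hX, hY, Matrix.reindex_apply, Matrix.submatrix_mul_equiv, fromBlocks_multiply,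
        Matrix.mul_adjugate, Matrix.zero_mul, Matrix.mul_zero, add_zero, zero_add]
      rw [show fromBlocks (H.det • (1 : Matrix (Fin 2) (Fin 2) F)) 0 0 (H.det • 1) =
        H.det • (1 : Matrix (Fin 2 ⊕ Fin 2) (Fin 2 ⊕ Fin 2) F) by rw [← fromBlocks_one, fromBlocks_smul, smul_zero],
        Matrix.submatrix_smul]
      simp
    refine ⟨[X', Y, X', Y], rfl, fun Z hZ => ?_, ?_⟩
    · simp only [List.mem_cons, List.not_mem_nil, or_false] at hZ
      rcases hZ with rfl | rfl | rfl | rfl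
      · exact ((hHC.fromBlocks hHC).reindex e).trans hs.symm
      · exact ((hadj.fromBlocks hadj).reindex e).trans hs.symm
      · exact ((hHC.fromBlocks hHC).reindex e).trans hs.symm
      · exact ((hadj.fromBlocks hadj).reindex e).trans hs.symm
    · simp only [List.prod_cons, List.prod_nil, mul_one]
      rw [← Matrix.mul_assoc, hXY, Matrix.smul_mul, Matrix.one_mul, smul_smul, hHC.det_eq, hdd, one_smul]
  · -- two different factors: a cyclic matrix
    have hco : IsCoprime (p ^ 1) (q ^ 1) := by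
      rw [pow_one, pow_one]
      refine (hirr.coprime_iff_not_dvd).2 fun h => hpq ?_
      exact eq_of_monic_of_associated hp hq (hirr.associated_of_dvd hqirr h)
    have hdeg : ((q ^ 1) * (p ^ 1)).natDegree = 2 + 2 := by
      rw [(hq.pow 1).natDegree_mul (hp.pow 1), hd, hqd]
    obtain ⟨e₂, N, h2⟩ := exists_tri le_rfl le_rfl (q ^ 1) (p ^ 1) (hq.pow 1) (hp.pow 1) hqd hd
      (coeff_zero_of_no_root (by simpa using hqroot)) (coeff_zero_of_no_root (by simpa using hroot))
      _ ((hq.pow 1).mul (hp.pow 1)) hdeg rfl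
    have h3 := h2.trans ((sim_upper (disj_coprime (p ^ 1) (q ^ 1) (hp.pow 1) (hq.pow 1) hd hqd hco) N).reindex e₂)
    refine cyclic _ ((hq.pow 1).mul (hp.pow 1)) hdeg (hs.trans ((Sim.symm ?_).trans h3.symm))
    set σ : Equiv.Perm (Fin 4) := e₂.symm.trans e
    rw [show ∀ M : Matrix (Fin 2 ⊕ Fin 2) (Fin 2 ⊕ Fin 2) F,
      M.reindex e e = (M.reindex e₂ e₂).reindex σ σ from fun M => by ext i j; simp [σ]]
    exact (sim_perm _ σ).symm

end Cfsg.Agent.CoverPSL
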