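import Cfsg.Agent.Lib.CoverPSL.Primary

/-!
# Gluing products of two conjugates

`Pair A π σ ω`: a product of two conjugates of `A`, conjugators of determinants `σ`, `ω`, has
one-dimensional eigenspaces and characteristic polynomial `π`.  `Pair.glue`: such products glue
along a block triangular matrix whose upper block has no eigenvalue.  `exists_res`: every matrix
without eigenvalue has one with split `π`, and centralizer determinants `x ^ multiplicity`.
-/

set_option autoImplicit false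

namespace Cfsg.Agent.CoverPSL

open Matrix Polynomial Cfsg.Agent.Classical.Thompson

variable {F : Type*} [Field F]

/-- Few non-constant affine functions have a common non-root. -/
theorem exists_avoid [Fintype F] {V : Type*} [AddCommGroup V] [Module F V] {α : Type*}
    (L : α → V →ₗ[F] F) (c : α → F) :
    ∀ S : Finset α, (∀ s ∈ S, L s ≠ 0) → S.card < Fintype.card F → ∃ w, ∀ s ∈ S, L s w + c s ≠ 0 := by
  classical
  intro S
  induction S using Finset.induction with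
  | empty => exact fun _ _ => ⟨0, by simp⟩
  | insert a S ha ih =>
    intro hL hcard
    rw [Finset.card_insert_of_notMem ha] at hcard
    obtain ⟨w, hw⟩ := ih (fun s hs => hL s (Finset.mem_insert_of_mem hs)) (by omega)
    obtain ⟨v, hv⟩ : ∃ v, L a v ≠ 0 := by
      by_contra h
      push Not at h
      exact hL a (Finset.mem_insert_self a S) (LinearMap.ext h)
    let bad : Finset F := insert (-(L a w + c a) / L a v) (S.image fun s => -(L s w + c s) / L s v)
    obtain ⟨t, -, ht⟩ := Finset.exists_mem_notMem_of_card_lt_card (s := bad) (t := Finset.univ) (by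
      rw [Finset.card_univ]
      exact lt_of_le_of_lt ((Finset.card_insert_le _ _).trans (Nat.add_le_add_right Finset.card_image_le 1))
        hcard)
    simp only [bad, Finset.mem_insert, Finset.mem_image, not_or, not_exists, not_and] at ht
    refine ⟨w + t • v, fun s hs => ?_⟩
    rw [map_add, map_smul, smul_eq_mul]
    rcases Finset.mem_insert.1 hs with rfl | hs'
    · intro h
      refine ht.1 ?_
      rw [eq_div_iff hv]
      linear_combination h
    · intro h
      by_cases hsv : L s v = 0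
      · rw [hsv, mul_zero, add_zero] at h
        exact hw s hs' h
      · refine ht.2 s hs' ?_
        rw [div_eq_iff hsv]
        linear_combination -h

variable {ι κ : Type*} [Fintype ι] [DecidableEq ι] [Fintype κ] [DecidableEq κ]

/-- The gluing step. -/
theorem exists_glue [Fintype F] {X1 Y1 : Matrix ι ι F} {X2 Y2 : Matrix κ κ F} (N M : Matrix ι κ F)
    (hno : NoEig X1) (hY2 : Y2.det ≠ 0) (hD1 : (X1 * Y1).det ≠ 0) (hg1 : Geom1 (X1 * Y1))
    (hg2 : Geom1 (X2 * Y2)) :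
    ∃ w : Matrix ι κ F,
      Geom1 (fromBlocks X1 N 0 X2 * fromBlocks Y1 (M + w * Y2 - Y1 * w) 0 Y2) := by
  classical
  set D1 := X1 * Y1 with hD1d
  set D2 := X2 * Y2 with hD2d
  let S : Finset F := Finset.univ.filter fun μ =>
    (D1 - μ • 1).det = 0 ∧ ∃ r : κ → F, r ≠ 0 ∧ D2 *ᵥ r = μ • r
  have hS : ∀ μ ∈ S, μ ≠ 0 := fun μ hμ h => by
    simp only [S, Finset.mem_filter] at hμ
    exact hD1 (by simpa [h] using hμ.2.1)
  have hdata : ∀ μ : {μ // μ ∈ S}, ∃ (l : ι → F) (r : κ → F), l ≠ 0 ∧ l ᵥ* D1 = μ.1 • l ∧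
      r ≠ 0 ∧ D2 *ᵥ r = μ.1 • r := by
    rintro ⟨μ, hμ⟩
    simp only [S, Finset.mem_filter] at hμ
    obtain ⟨-, h1, r, hr, hr'⟩ := hμ
    obtain ⟨l, hl, hl'⟩ := Matrix.exists_vecMul_eq_zero_iff.2 h1
    exact ⟨l, r, hl, by simpa [vecMul_sub, vecMul_smul, sub_eq_zero] using hl', hr, hr'⟩
  choose l r hl hlD hr hrD using hdata
  let L : {μ // μ ∈ S} → Matrix ι κ F →ₗ[F] F := fun μ =>
    { toFun := fun w => l μ ⬝ᵥ ((X1 * (w * Y2) - D1 * w) *ᵥ r μ)
      map_add' := fun u v => by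
        simp only [Matrix.add_mul, Matrix.mul_add, Matrix.add_mulVec, sub_mulVec, dotProduct_add,
          dotProduct_sub]
        ring
      map_smul' := fun c u => by
        simp only [Matrix.smul_mul, Matrix.mul_smul, ← smul_sub, smul_mulVec, dotProduct_smul, RingHom.id_apply] }
  let c : {μ // μ ∈ S} → F := fun μ => l μ ⬝ᵥ ((X1 * M + N * Y2) *ᵥ r μ)
  obtain ⟨w, hw⟩ := exists_avoid L c Finset.univ (fun μ _ h0 => by
    -- the linear part
    have hdual : ∀ (x : ι → F), x ≠ 0 → ∀ y : ι → F, (∀ u, x ⬝ᵥ u = 0 → y ⬝ᵥ u = 0) → ∃ a : F, y = a • x := by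
      intro x hx y hy
      obtain ⟨i, hi⟩ : ∃ i, x i ≠ 0 := by
        by_contra h
        push Not at h
        exact hx (_root_.funext h)
      refine ⟨y i / x i, _root_.funext fun j => ?_⟩
      have := hy (x i • Pi.single j 1 - x j • Pi.single i 1) (by simp [mul_comm])
      simp [sub_eq_zero] at this
      rw [Pi.smul_apply, smul_eq_mul, div_mul_eq_mul_div, eq_div_iff hi]
      linear_combination this
    have hY2r : Y2 *ᵥ r μ ≠ 0 := fun h =>
      hY2 (Matrix.exists_mulVec_eq_zero_iff.1 ⟨_, hr μ, h⟩)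
    obtain ⟨j, hj⟩ : ∃ j, (Y2 *ᵥ r μ) j ≠ 0 := by
      by_contra h
      push Not at h
      exact hY2r (_root_.funext h)
    obtain ⟨a, ha⟩ := hdual (l μ) (hl μ) (l μ ᵥ* X1) (fun u hu => by
      have h := LinearMap.congr_fun h0 (vecMulVec u (Pi.single j 1))
      have e1 : (X1 * (vecMulVec u (Pi.single j 1) * Y2)) *ᵥ r μ = (Y2 *ᵥ r μ) j • (X1 *ᵥ u) := by
        rw [← mulVec_mulVec, ← mulVec_mulVec, vecMulVec_mulVec, mulVec_smul]
        simp
      have e2 : l μ ⬝ᵥ ((D1 * vecMulVec u (Pi.single j 1)) *ᵥ r μ) = 0 := by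
        rw [← mulVec_mulVec, dotProduct_mulVec, hlD, smul_dotProduct, vecMulVec_mulVec, dotProduct_smul, hu]
        simp
      simp only [L, LinearMap.coe_mk, AddHom.coe_mk, LinearMap.zero_apply, sub_mulVec, dotProduct_sub, e1, e2,
        sub_zero, dotProduct_smul, smul_eq_mul] at h
      rw [← dotProduct_mulVec]
      exact (mul_eq_zero.1 h).resolve_left hj)
    refine hno a ?_
    refine Matrix.exists_vecMul_eq_zero_iff.1 ⟨l μ, hl μ, ?_⟩
    rw [vecMul_sub, ha, vecMul_smul, vecMul_one, sub_self]) (by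
    rw [Finset.card_univ, Fintype.card_coe]
    exact lt_of_le_of_lt (Finset.card_le_card (t := Finset.univ.erase 0) fun μ hμ =>
      Finset.mem_erase.2 ⟨hS μ hμ, Finset.mem_univ μ⟩) (by
        rw [Finset.card_erase_of_mem (Finset.mem_univ 0), Finset.card_univ]
        have := Fintype.card_pos (α := F)
        omega))
  refine ⟨w, ?_⟩
  set Z := X1 * (M + w * Y2 - Y1 * w) + N * Y2 with hZ
  have hD : fromBlocks X1 N 0 X2 * fromBlocks Y1 (M + w * Y2 - Y1 * w) 0 Y2 = fromBlocks D1 Z 0 D2 := by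
    simp [fromBlocks_multiply, hZ, hD1d, hD2d]
  rw [hD]
  intro μ v v' hv hv' hv0
  have split : ∀ x : ι ⊕ κ → F, fromBlocks D1 Z 0 D2 *ᵥ x = μ • x →
      D1 *ᵥ (x ∘ Sum.inl) + Z *ᵥ (x ∘ Sum.inr) = μ • (x ∘ Sum.inl) ∧
        D2 *ᵥ (x ∘ Sum.inr) = μ • (x ∘ Sum.inr) := by
    intro x hx
    rw [fromBlocks_mulVec] at hx
    refine ⟨_root_.funext fun i => by simpa using congrFun hx (Sum.inl i),
      _root_.funext fun i => by simpa using congrFun hx (Sum.inr i)⟩
  obtain ⟨a1, a2⟩ := split v hv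
  obtain ⟨b1, b2⟩ := split v' hv'
  by_cases hdet : (D1 - μ • 1).det = 0
  · -- an eigenvalue of the upper block: the lower parts vanish
    have hlow : ∀ x : ι ⊕ κ → F, fromBlocks D1 Z 0 D2 *ᵥ x = μ • x → x ∘ Sum.inr = 0 := by
      intro x hx
      by_contra hne
      obtain ⟨x1, x2⟩ := split x hx
      have hμS : μ ∈ S := by
        simp only [S, Finset.mem_filter, Finset.mem_univ, true_and]
        exact ⟨hdet, _, hne, x2⟩
      obtain ⟨b, hb⟩ := hg2 μ _ _ (hrD ⟨μ, hμS⟩) x2 (hr _)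
      have h := congrArg (l ⟨μ, hμS⟩ ⬝ᵥ ·) x1
      simp only [dotProduct_add, dotProduct_smul] at h
      rw [dotProduct_mulVec, hlD, smul_dotProduct, add_eq_left, hb, mulVec_smul, dotProduct_smul,
        smul_eq_mul] at h
      rcases mul_eq_zero.1 h with h | h
      · exact hne (by rw [hb, h, zero_smul])
      · refine hw ⟨μ, hμS⟩ (Finset.mem_univ _) ?_
        rw [← h, hZ]
        simp only [L, c, LinearMap.coe_mk, AddHom.coe_mk, hD1d]
        rw [← dotProduct_add, ← add_mulVec]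
        congr 2
        rw [Matrix.mul_sub, Matrix.mul_add, Matrix.mul_assoc X1 Y1]
        abel
    have v2 := hlow v hv
    have v2' := hlow v' hv'
    rw [v2, mulVec_zero, add_zero] at a1
    rw [v2', mulVec_zero, add_zero] at b1
    have hv1 : v ∘ Sum.inl ≠ 0 := fun h => hv0 (_root_.funext fun i => by
      rcases i with i | i
      · exact congrFun h i
      · exact congrFun v2 i)
    obtain ⟨a, ha⟩ := hg1 μ _ _ a1 b1 hv1
    refine ⟨a, _root_.funext fun i => ?_⟩
    rcases i with i | i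
    · exact congrFun ha i
    · have e1 := congrFun v2 i
      have e2 := congrFun v2' i
      simp only [Function.comp_apply, Pi.zero_apply] at e1 e2
      rw [Pi.smul_apply, e1, e2, smul_zero]
  · have hinj : ∀ x : ι → F, D1 *ᵥ x = μ • x → x = 0 := fun x hx => by
      by_contra hne
      exact hdet (Matrix.exists_mulVec_eq_zero_iff.1 ⟨x, hne, by simp [sub_mulVec, smul_mulVec, hx]⟩)
    have hv2 : v ∘ Sum.inr ≠ 0 := fun h => by
      rw [h, mulVec_zero, add_zero] at a1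
      exact hv0 (_root_.funext fun i => by
        rcases i with i | i
        · exact congrFun (hinj _ a1) i
        · exact congrFun h i)
    obtain ⟨a, ha⟩ := hg2 μ _ _ a2 b2 hv2
    have h1 : v' ∘ Sum.inl - a • (v ∘ Sum.inl) = 0 := by
      refine hinj _ ?_
      rw [ha, mulVec_smul] at b1
      rw [mulVec_sub, mulVec_smul]
      linear_combination (norm := module) b1 - a • a1
    refine ⟨a, _root_.funext fun i => ?_⟩
    rcases i with i | i
    · have := congrFun h1 i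
      simpa [sub_eq_zero] using this
    · exact congrFun ha i

/-- A product of two conjugates with one-dimensional eigenspaces. -/
def Pair (A : Matrix ι ι F) (π : F[X]) (σ ω : F) : Prop :=
  σ ≠ 0 ∧ ω ≠ 0 ∧ ∃ X' Y : Matrix ι ι F, SimD σ X' A ∧ SimD ω Y A ∧ Geom1 (X' * Y) ∧ (X' * Y).charpoly = π

theorem Pair.monic {A : Matrix ι ι F} {π : F[X]} {σ ω : F} (h : Pair A π σ ω) : π.Monic := by
  obtain ⟨-, -, X', Y, -, -, -, rfl⟩ := h
  exact Matrix.charpoly_monic _

theorem Pair.congr {A A' : Matrix ι ι F} {π : F[X]} {σ ω δ : F} (h : Pair A π σ ω) (hδ : δ ≠ 0)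
    (hA : SimD δ A A') : Pair A' π (σ * δ) (ω * δ) := by
  obtain ⟨hσ, hω, X', Y, hX, hY, hg, hch⟩ := h
  exact ⟨mul_ne_zero hσ hδ, mul_ne_zero hω hδ, X', Y, hX.trans hA, hY.trans hA, hg, hch⟩

theorem Pair.reindex {A : Matrix ι ι F} {π : F[X]} {σ ω : F} (h : Pair A π σ ω) (e : ι ≃ κ) :
    Pair (A.reindex e e) π σ ω := by
  obtain ⟨hσ, hω, X', Y, hX, hY, hg, hch⟩ := h
  refine ⟨hσ, hω, X'.reindex e e, Y.reindex e e, hX.reindex e, hY.reindex e, ?_, ?_⟩
  · simpa [Matrix.submatrix_mul_equiv] using hg.reindex e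
  · simp only [Matrix.reindex_apply, Matrix.submatrix_mul_equiv]
    rw [← hch, ← Matrix.charpoly_reindex e (X' * Y)]
    rfl

theorem Pair.glue [Fintype F] {A1 : Matrix ι ι F} {A2 : Matrix κ κ F} {π1 π2 : F[X]} {σ1 ω1 σ2 ω2 : F}
    (h1 : Pair A1 π1 σ1 ω1) (h2 : Pair A2 π2 σ2 ω2) (hno : NoEig A1) (hA2 : A2.det ≠ 0)
    (N0 : Matrix ι κ F) : Pair (fromBlocks A1 N0 0 A2) (π1 * π2) (σ1 * σ2) (ω1 * ω2) := by
  classical
  obtain ⟨hσ1, hω1, X1, Y1, hX1, hY1, hg1, hc1⟩ := h1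
  obtain ⟨hσ2, hω2, X2, Y2, hX2, hY2, hg2, hc2⟩ := h2
  obtain ⟨P, hP, eP⟩ := hX1
  obtain ⟨Q, hQ, eQ⟩ := hX2
  obtain ⟨P', hP', eP'⟩ := hY1
  obtain ⟨Q', hQ', eQ'⟩ := hY2
  have huQ : IsUnit Q.det := isUnit_iff_ne_zero.2 (hQ ▸ hσ2)
  have huQ' : IsUnit Q'.det := isUnit_iff_ne_zero.2 (hQ' ▸ hω2)
  have hX1s : Sim X1 A1 := (show SimD σ1 X1 A1 from ⟨P, hP, eP⟩).sim hσ1
  have hY1s : Sim Y1 A1 := (show SimD ω1 Y1 A1 from ⟨P', hP', eP'⟩).sim hω1
  have hY2s : Sim Y2 A2 := (show SimD ω2 Y2 A2 from ⟨Q', hQ', eQ'⟩).sim hω2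
  set N := P * N0 * Q⁻¹ with hN
  set M := P' * N0 * Q'⁻¹ with hM
  obtain ⟨w, hw⟩ := exists_glue N M (hno.sim hX1s) (hY2s.det_eq ▸ hA2)
    (by rw [det_mul, hX1s.det_eq, hY1s.det_eq]; exact mul_ne_zero hno.det_ne hno.det_ne) hg1 hg2
  refine ⟨mul_ne_zero hσ1 hσ2, mul_ne_zero hω1 hω2, fromBlocks X1 N 0 X2,
    fromBlocks Y1 (M + w * Y2 - Y1 * w) 0 Y2, ⟨fromBlocks P 0 0 Q, ?_, ?_⟩,
    ⟨fromBlocks 1 w 0 1 * fromBlocks P' 0 0 Q', ?_, ?_⟩, hw, ?_⟩
  · rw [det_fromBlocks_zero₂₁, hP, hQ]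
  · simp [fromBlocks_multiply, eP, eQ, hN, Matrix.mul_assoc, nonsing_inv_mul _ huQ]
  · rw [det_mul, det_fromBlocks_zero₂₁, det_fromBlocks_zero₂₁, det_one, det_one, hP', hQ', one_mul, one_mul]
  · have e1 : fromBlocks Y1 (M + w * Y2 - Y1 * w) 0 Y2 * fromBlocks 1 w 0 1 =
        fromBlocks 1 w 0 1 * fromBlocks Y1 M 0 Y2 := by
      simp [fromBlocks_multiply]
    have e2 : fromBlocks Y1 M 0 Y2 * fromBlocks P' 0 0 Q' = fromBlocks P' 0 0 Q' * fromBlocks A1 N0 0 A2 := by
      simp [fromBlocks_multiply, eP', eQ', hM, Matrix.mul_assoc, nonsing_inv_mul _ huQ']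
    rw [← Matrix.mul_assoc, e1, Matrix.mul_assoc, e2, Matrix.mul_assoc]
  · rw [fromBlocks_multiply]
    simp only [Matrix.zero_mul, Matrix.mul_zero, add_zero, zero_add]
    rw [Matrix.charpoly_fromBlocks_zero₂₁, hc1, hc2]

/-- `x` is the determinant of a matrix commuting with `A` -/
def CD (A : Matrix ι ι F) (x : F) : Prop := ∃ Z : Matrix ι ι F, Z.det = x ∧ Z * A = A * Z

theorem CD.one (A : Matrix ι ι F) : CD A 1 := ⟨1, det_one, by simp⟩

theorem CD.mul {A : Matrix ι ι F} {x y : F} (h : CD A x) (h' : CD A y) : CD A (x * y) := by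
  obtain ⟨Z, rfl, hZ⟩ := h
  obtain ⟨W, rfl, hW⟩ := h'
  exact ⟨Z * W, det_mul _ _, by rw [Matrix.mul_assoc, hW, ← Matrix.mul_assoc, hZ, Matrix.mul_assoc]⟩

theorem CD.blocks {A : Matrix ι ι F} {B : Matrix κ κ F} {x y : F} (h : CD A x) (h' : CD B y) :
    CD (fromBlocks A 0 0 B) (x * y) := by
  obtain ⟨Z, rfl, hZ⟩ := h
  obtain ⟨W, rfl, hW⟩ := h'
  exact ⟨fromBlocks Z 0 0 W, det_fromBlocks_zero₂₁ _ _ _, by simp [fromBlocks_multiply, hZ, hW]⟩

theorem CD.reindex {A : Matrix ι ι F} {x : F} (h : CD A x) (e : ι ≃ κ) : CD (A.reindex e e) x := by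
  obtain ⟨Z, rfl, hZ⟩ := h
  exact ⟨Z.reindex e e, det_reindex_self _ _, by simp [Matrix.submatrix_mul_equiv, hZ]⟩

theorem CD.sim {A A' : Matrix ι ι F} {x : F} (h : CD A x) (hs : Sim A' A) : CD A' x := by
  obtain ⟨Z, hZ, hZA⟩ := h
  obtain ⟨P, Q, hPQ, rfl⟩ := hs
  have hQP : Q * P = 1 := mul_eq_one_comm.1 hPQ
  refine ⟨P * Z * Q, by rw [det_mul, det_mul, hZ, mul_right_comm, ← det_mul, hPQ, det_one, one_mul], ?_⟩
  calc P * Z * Q * (P * A * Q) = P * (Z * (Q * P) * A) * Q := by simp only [Matrix.mul_assoc]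
    _ = P * (A * (Q * P) * Z) * Q := by simp [hQP, hZA]
    _ = _ := by simp only [Matrix.mul_assoc]

/-- A pair with split characteristic polynomial, multiplicities realised in the centralizer. -/
def Res (A : Matrix ι ι F) (π : F[X]) : Prop :=
  (∃ σ ω, Pair A π σ ω) ∧ π.Splits ∧ ∀ δ x : F, x ≠ 0 → CD A (x ^ π.rootMultiplicity δ)

theorem Res.sim {A A' : Matrix ι ι F} {π : F[X]} (h : Res A π) (hs : Sim A A') : Res A' π := by
  obtain ⟨⟨σ, ω, hp⟩, hsp, hcd⟩ := h
  obtain ⟨δ, hδ, hd⟩ := exists_simD hs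
  exact ⟨⟨_, _, hp.congr hδ hd⟩, hsp, fun δ' x hx => (hcd δ' x hx).sim hs.symm⟩

theorem Res.reindex {A : Matrix ι ι F} {π : F[X]} (h : Res A π) (e : ι ≃ κ) : Res (A.reindex e e) π := by
  obtain ⟨⟨σ, ω, hp⟩, hsp, hcd⟩ := h
  exact ⟨⟨σ, ω, hp.reindex e⟩, hsp, fun δ x hx => (hcd δ x hx).reindex e⟩

theorem Res.blocks [Fintype F] {A : Matrix ι ι F} {B : Matrix κ κ F} {π π' : F[X]} (h : Res A π)
    (h' : Res B π') (hA : NoEig A) (hB : B.det ≠ 0) : Res (fromBlocks A 0 0 B) (π * π') := by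
  obtain ⟨⟨σ, ω, hp⟩, hsp, hcd⟩ := h
  obtain ⟨⟨σ', ω', hp'⟩, hsp', hcd'⟩ := h'
  refine ⟨⟨_, _, hp.glue hp' hA hB 0⟩, hsp.mul hsp', fun δ x hx => ?_⟩
  rw [rootMultiplicity_mul (mul_ne_zero hp.monic.ne_zero hp'.monic.ne_zero), pow_add]
  exact (hcd δ x hx).blocks (hcd' δ x hx)

/-- Two conjugates of a companion matrix with a split product. -/
theorem exists_pair_comp [Fintype F] (hF : 4 ≤ Fintype.card F) {k : ℕ} (hk : 2 ≤ k) (f : F[X]) (hf : f.Monic)
    (hd : f.natDegree = k) (hf0 : f.coeff 0 ≠ 0) :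
    ∃ π : F[X], π.Splits ∧ ∃ σ ω, Pair (compMat f hf hd) π σ ω := by
  classical
  have hd0 : (compMat f hf hd).det ≠ 0 := by
    rw [compMat_det]; exact mul_ne_zero (pow_ne_zero _ (neg_ne_zero.2 one_ne_zero)) hf0
  suffices H : ∃ (e : Fin k → F) (X' Y : Matrix (Fin k) (Fin k) F), Sim X' (compMat f hf hd) ∧
      Sim Y (compMat f hf hd) ∧ Geom1 (X' * Y) ∧ (X' * Y).charpoly = ∏ i, (X - C (e i)) by
    obtain ⟨e, X', Y, hX, hY, hg, hch⟩ := H
    obtain ⟨σ, hσ, hXd⟩ := exists_simD hX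
    obtain ⟨ω, hω, hYd⟩ := exists_simD hY
    exact ⟨_, Splits.prod fun i _ => Splits.X_sub_C (e i), σ, ω, hσ, hω, X', Y, hXd, hYd, hg, hch⟩
  rcases Nat.lt_or_ge k 3 with hk3 | hk3
  · obtain rfl : k = 2 := by omega
    set d := (compMat f hf hd).det with hdd
    obtain ⟨a, -, ha⟩ := Finset.exists_mem_notMem_of_card_lt_card (s := ({0, d, -d} : Finset F))
      (t := Finset.univ) (lt_of_le_of_lt Finset.card_le_three (by rw [Finset.card_univ]; omega))
    simp only [Finset.mem_insert, Finset.mem_singleton, not_or] at ha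
    have hne : a ≠ d * d / a := fun h => by
      rw [eq_div_iff ha.1] at h
      rcases mul_self_eq_mul_self_iff.1 h with h1 | h1
      · exact ha.2.1 h1
      · exact ha.2.2 h1
    obtain ⟨X', Y, h⟩ := exists_cyclic_mul_two f hf hd hf0 f hf hd hf0 ![a, d * d / a]
      (fun i => by fin_cases i <;> simp [ha.1, hd0]) hne
      (by simp [Fin.prod_univ_two, mul_div_cancel₀ _ ha.1, hdd])
    exact ⟨_, X', Y, h⟩
  · obtain ⟨e, he, hsimple, hprod⟩ := exists_spectrum hF hk3 ((compMat f hf hd).det * (compMat f hf hd).det)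
      (mul_ne_zero hd0 hd0)
    obtain ⟨X', Y, h⟩ := exists_cyclic_mul hk3 f hf hd hf0 f hf hd hf0 e he hsimple hprod
    exact ⟨e, X', Y, h⟩

/-- Powers of one irreducible polynomial. -/
theorem exists_res_primary [Fintype F] (hF : 4 ≤ Fintype.card F) (p : F[X]) (hp : p.Monic)
    (hirr : Irreducible p) (hp2 : 2 ≤ p.natDegree) (hroot : ∀ a : F, p.eval a ≠ 0) {v k : ℕ} (hv : 1 ≤ v)
    (hd : (p ^ v).natDegree = k) : ∃ π : F[X], Res (compMat (p ^ v) (hp.pow v) hd) π := by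
  classical
  have hp0 : p.coeff 0 ≠ 0 := coeff_zero_of_no_root hroot
  obtain ⟨π, hsp, σ₀, ω₀, hpair⟩ := exists_pair_comp hF hp2 p hp rfl hp0
  -- the determinant of a polynomial in a primary block
  have main : ∀ w k (hd : (p ^ w).natDegree = k), 1 ≤ w →
      (∃ σ ω, Pair (compMat (p ^ w) (hp.pow w) hd) (π ^ w) σ ω) ∧
        ∀ h : F[X], (aeval (compMat (p ^ w) (hp.pow w) hd) h).det = (aeval (compMat p hp rfl) h).det ^ w := by
    intro w
    induction w with
    | zero => intro _ _ h; omega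
    | succ w ih =>
      intro k hd _
      rcases Nat.eq_zero_or_pos w with rfl | hw
      · have gen : ∀ (q : F[X]) (hq : q.Monic) (hqd : q.natDegree = k), q = p →
            (∃ σ ω, Pair (compMat q hq hqd) π σ ω) ∧
              ∀ h : F[X], (aeval (compMat q hq hqd) h).det = (aeval (compMat p hp rfl) h).det := by
          rintro q hq hqd rfl
          subst hqd
          exact ⟨⟨σ₀, ω₀, hpair⟩, fun h => rfl⟩
        simpa using gen _ (hp.pow (0 + 1)) hd (by simp)
      · obtain ⟨⟨σ, ω, ihp⟩, ihd⟩ := ih _ rfl hw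
        have hw2 : 2 ≤ (p ^ w).natDegree := by rw [natDegree_pow]; exact le_mul_of_one_le_of_le hw hp2
        have hroot' : ∀ a : F, (p ^ w).eval a ≠ 0 := fun a h => hroot a (by
          rw [eval_pow] at h; exact (pow_eq_zero_iff (by omega)).1 h)
        obtain rfl : (p ^ w).natDegree + p.natDegree = k := by
          rw [← hd, natDegree_pow, natDegree_pow]; ring
        obtain ⟨e, N, hs⟩ := exists_tri hw2 hp2 (p ^ w) p (hp.pow w) hp rfl rfl
          (coeff_zero_of_no_root hroot') hp0 (p ^ (w + 1)) (hp.pow (w + 1)) hd (pow_succ p w)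
        refine ⟨?_, fun h => ?_⟩
        · obtain ⟨δ, hδ, hd'⟩ := exists_simD hs.symm
          have hg := ((hpair.glue ihp (noEig_compMat.2 hroot) (noEig_compMat.2 hroot').det_ne N).reindex e).congr
            hδ hd'
          exact ⟨_, _, by rw [pow_succ' π w]; exact hg⟩
        · rw [(aeval_sim hs h).det_eq, aeval_reindex, det_reindex_self, det_aeval_blocks, ihd h, pow_succ']
  obtain ⟨⟨σ, ω, hpw⟩, hdet⟩ := main v k hd hv
  refine ⟨π ^ v, ⟨σ, ω, hpw⟩, hsp.pow v, fun δ x hx => ?_⟩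
  haveI := Fact.mk hirr
  haveI : Module.Finite F (AdjoinRoot p) := hp.finite_adjoinRoot
  haveI : Finite (AdjoinRoot p) := Module.finite_of_finite F
  set b := (AdjoinRoot.powerBasis' hp).basis.reindex (finCongr (rfl : p.natDegree = p.natDegree)) with hb
  obtain ⟨y, hy⟩ := FiniteField.norm_surjective F (AdjoinRoot p) (x ^ π.rootMultiplicity δ)
  obtain ⟨h, rfl⟩ := AdjoinRoot.mk_surjective y
  refine ⟨aeval (compMat (p ^ v) (hp.pow v) hd) h, ?_, ?_⟩
  · have e1 : aeval (compMat p hp rfl) h = Algebra.leftMulMatrix b (AdjoinRoot.mk p h) := by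
      rw [← AdjoinRoot.aeval_eq h, ← aeval_algHom_apply]; rfl
    rw [hdet, e1, ← Algebra.norm_eq_matrix_det b, hy, ← pow_mul, ← count_roots, ← count_roots, roots_pow,
      Multiset.count_nsmul, mul_comm]
  · have hc : Commute (aeval (compMat (p ^ v) (hp.pow v) hd) h)
        (aeval (compMat (p ^ v) (hp.pow v) hd) (X : F[X])) := (Commute.all h X).map _
    rwa [aeval_X] at hc

/-- Every matrix without eigenvalue. -/
theorem exists_res [Fintype F] (hF : 4 ≤ Fintype.card F) : ∀ {n : ℕ} {A : Matrix (Fin n) (Fin n) F},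
    NoEig A → ∃ π : F[X], Res A π := by
  classical
  intro n
  induction n using Nat.strong_induction_on with
  | _ n ih =>
    intro A hA
    rcases Nat.eq_zero_or_pos n with rfl | hn
    · refine ⟨1, ⟨1, 1, one_ne_zero, one_ne_zero, A, A, SimD.refl A, SimD.refl A,
        fun c v w _ _ hv => absurd (_root_.funext fun i => i.elim0) hv, by simp⟩, Splits.one, fun δ x _ => ?_⟩
      rw [show (1 : F[X]).rootMultiplicity δ = 0 from rootMultiplicity_eq_zero (by simp), pow_zero]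
      exact CD.one A
    obtain ⟨p, v, k, m, hp, hd, e, A', hirr, hv, hp2, hroot, hA', hsim⟩ := exists_primary hn hA
    obtain ⟨π, hπ⟩ := exists_res_primary hF p hp hirr hp2 hroot hv hd
    have hk : 1 ≤ k := by
      rw [← hd, natDegree_pow]
      exact Nat.one_le_iff_ne_zero.2 (Nat.mul_ne_zero (by omega) (by omega))
    have hcard : k + m = n := by simpa using Fintype.card_congr e
    obtain ⟨π', hπ'⟩ := ih m (by omega) hA'
    refine ⟨π * π', ((hπ.blocks hπ' ?_ hA'.det_ne).reindex e).sim hsim.symm⟩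
    exact noEig_compMat.2 fun a h => hroot a (by rw [eval_pow] at h; exact (pow_eq_zero_iff (by omega)).1 h)

end Cfsg.Agent.CoverPSL
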