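import Cfsg.Agent.Lib.CoverPSL.Pseudo

/-!
# Choosing the first factor

For a class with a good vector, some member sends `a` to a prescribed `b` and leaves a non-scalar
quotient.
-/

set_option autoImplicit false

namespace Cfsg.Agent.CoverPSL

open Matrix Cfsg.Agent.Classical.Thompson

variable {F : Type*} [Field F] {n : ℕ}

/-- `u` is not an eigenvector and no image of `A - k` lies in the span of `u` and `A u`. -/
def GoodVec (A : Matrix (Fin n) (Fin n) F) (u : Fin n → F) : Prop :=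
  (∀ k : F, A *ᵥ u ≠ k • u) ∧
    ∀ k : F, ∃ x, A *ᵥ x - k • x ∉ Submodule.span F (Set.range ![u, A *ᵥ u])

/-- A functional killing a subspace but not a given vector. -/
theorem exists_covec {S : Submodule F (Fin n → F)} {x : Fin n → F} (hx : x ∉ S) :
    ∃ b : Fin n → F, b ⬝ᵥ x ≠ 0 ∧ ∀ y ∈ S, b ⬝ᵥ y = 0 := by
  obtain ⟨f, hfx, hfS⟩ := Submodule.exists_dual_map_eq_bot_of_notMem hx inferInstance
  have hbf : ∀ v, (dotProductEquiv F (Fin n)).symm f ⬝ᵥ v = f v := fun v =>
    LinearMap.congr_fun ((dotProductEquiv F (Fin n)).apply_symm_apply f) v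
  refine ⟨(dotProductEquiv F (Fin n)).symm f, by rw [hbf]; exact hfx, fun y hy => ?_⟩
  rw [hbf]
  have : f y ∈ S.map f := Submodule.mem_map_of_mem hy
  rwa [hfS, Submodule.mem_bot] at this

theorem pair_mem (a b : Fin n → F) :
    a ∈ Submodule.span F (Set.range ![a, b]) ∧ b ∈ Submodule.span F (Set.range ![a, b]) :=
  ⟨Submodule.subset_span ⟨0, rfl⟩, Submodule.subset_span ⟨1, rfl⟩⟩

theorem pair_indep {a b : Fin n → F} (ha : a ≠ 0) (h : ∀ k : F, b ≠ k • a) :
    LinearIndependent F ![a, b] :=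
  (LinearIndependent.pair_iff' ha).2 fun k hk => h k hk.symm

/-- `SL` is transitive on independent pairs. -/
theorem exists_pair_map (hn : 3 ≤ n) {a b a' b' : Fin n → F} (h : LinearIndependent F ![a, b])
    (h' : LinearIndependent F ![a', b']) :
    ∃ P : Matrix (Fin n) (Fin n) F, P.det = 1 ∧ P *ᵥ a = a' ∧ P *ᵥ b = b' := by
  classical
  obtain ⟨E, hE⟩ := Classical.LinearExtend.exists_extend (V := Fin n → F) (V' := Fin n → F) rfl
    ((Module.Basis.span h).equiv (Module.Basis.span h') (Equiv.refl _))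
  have hval : ∀ i, E (![a, b] i) = ![a', b'] i := fun i => by
    have h1 := hE (Module.Basis.span h i)
    rw [Module.Basis.equiv_apply, Equiv.refl_apply, Module.Basis.span_apply, Module.Basis.span_apply] at h1
    exact h1
  set P₁ := LinearMap.toMatrix' E.toLinearMap with hP₁
  have hd : P₁.det ≠ 0 := by
    rw [hP₁, LinearMap.det_toMatrix']
    exact E.isUnit_det'.ne_zero
  obtain ⟨x, hx⟩ : ∃ x, x ∉ Submodule.span F (Set.range ![a', b']) := by
    by_contra hall
    push Not at hall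
    have h1 := finrank_span_eq_card h'
    rw [Submodule.eq_top_iff'.2 hall, finrank_top, Module.finrank_pi, Fintype.card_fin, Fintype.card_fin] at h1
    omega
  obtain ⟨φ, hφx, hφS⟩ := exists_covec hx
  refine ⟨el (x, ((P₁.det⁻¹ - 1) / (φ ⬝ᵥ x)) • φ) * P₁, ?_, ?_, ?_⟩
  · rw [det_mul, el_det, smul_dotProduct, smul_eq_mul, div_mul_cancel₀ _ hφx, add_sub_cancel,
      inv_mul_cancel₀ hd]
  · rw [← mulVec_mulVec, hP₁, LinearMap.toMatrix'_mulVec, LinearEquiv.coe_coe,
      show E a = a' from hval 0, el_mulVec, smul_dotProduct, hφS _ (pair_mem a' b').1, smul_zero,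
      zero_smul, add_zero]
  · rw [← mulVec_mulVec, hP₁, LinearMap.toMatrix'_mulVec, LinearEquiv.coe_coe,
      show E b = b' from hval 1, el_mulVec, smul_dotProduct, hφS _ (pair_mem a' b').2, smul_zero,
      zero_smul, add_zero]

/-- the condition carried to a conjugate -/
theorem GoodVec.transfer {A P : Matrix (Fin n) (Fin n) F} {u : Fin n → F} (h : GoodVec A u)
    (hP : P.det = 1) : GoodVec (P * A * P⁻¹) (P *ᵥ u) := by
  have hu : IsUnit P.det := by rw [hP]; exact isUnit_one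
  have key : ∀ x, (P * A * P⁻¹) *ᵥ (P *ᵥ x) = P *ᵥ (A *ᵥ x) := fun x => by
    rw [mulVec_mulVec, Matrix.mul_assoc, nonsing_inv_mul _ hu, Matrix.mul_one, ← mulVec_mulVec]
  have hinj : Function.Injective P.mulVec := mulVec_injective_iff_isUnit.2 ((isUnit_iff_isUnit_det P).2 hu)
  refine ⟨fun k hk => h.1 k (hinj (by rw [← key, hk, mulVec_smul])), fun k => ?_⟩
  obtain ⟨x, hx⟩ := h.2 k
  refine ⟨P *ᵥ x, fun hm => hx ?_⟩
  rw [key, key, ← mulVec_smul, ← mulVec_sub] at hm
  have hr : Set.range ![P *ᵥ u, P *ᵥ (A *ᵥ u)] = P.mulVecLin '' Set.range ![u, A *ᵥ u] := by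
    rw [← Set.range_comp]
    congr 1
    funext i
    fin_cases i <;> rfl
  rw [hr, Submodule.span_image] at hm
  obtain ⟨y, hy, he⟩ := hm
  rwa [← hinj he]

/-- Some member of the class maps `a` to `b` with a non-scalar quotient. -/
theorem exists_first (hn : 4 ≤ n) {A g : Matrix (Fin n) (Fin n) F} (hA : A.det ≠ 0) (hg : g.det ≠ 0)
    {u a b : Fin n → F} (hu : GoodVec A u) (hab : LinearIndependent F ![a, b]) :
    ∃ X : Matrix (Fin n) (Fin n) F, SimD 1 X A ∧ X *ᵥ a = b ∧
      ∀ c : F, ∃ x, ∀ t : F, g *ᵥ x ≠ c • (X *ᵥ x) + t • b := by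
  classical
  have hu0 : u ≠ 0 := fun h => hu.1 0 (by simp [h])
  obtain ⟨P, hP, hPu, hPAu⟩ := exists_pair_map (by omega) (pair_indep hu0 hu.1) hab
  have hPi : IsUnit P.det := by rw [hP]; exact isUnit_one
  set X := P * A * P⁻¹ with hXdef
  have hX : SimD 1 X A := ⟨P, hP, by rw [hXdef, Matrix.mul_assoc, nonsing_inv_mul _ hPi, Matrix.mul_one]⟩
  have hXa : X *ᵥ a = b := by
    rw [hXdef, ← hPu, ← hPAu, mulVec_mulVec, Matrix.mul_assoc, nonsing_inv_mul _ hPi, Matrix.mul_one,
      ← mulVec_mulVec]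
  have hgood : GoodVec X a := by rw [← hPu]; exact hu.transfer hP
  rw [GoodVec, hXa] at hgood
  by_contra hall
  push Not at hall
  obtain ⟨c₁, hc₁⟩ := hall X hX hXa
  have hXd : X.det ≠ 0 := by rw [Sim.det_eq (hX.sim one_ne_zero)]; exact hA
  have hXinj : Function.Injective X.mulVec :=
    mulVec_injective_iff_isUnit.2 ((isUnit_iff_isUnit_det X).2 (isUnit_iff_ne_zero.2 hXd))
  have ha0 : a ≠ 0 := hab.ne_zero 0
  have hb0 : b ≠ 0 := hab.ne_zero 1
  set S := Submodule.span F (Set.range ![a, b]) with hS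
  -- every covector killing `a` and `b` is a left eigenvector of `X`
  have left : ∀ ψ : Fin n → F, ψ ≠ 0 → ψ ⬝ᵥ a = 0 → ψ ⬝ᵥ b = 0 → ∀ x, ψ ⬝ᵥ x = 0 → ψ ⬝ᵥ (X *ᵥ x) = 0 := by
    intro ψ hψ hψa hψb
    let φ : Module.Dual F (Fin n → F) := dotProductEquiv F (Fin n) ψ
    have hφ : φ ≠ 0 := (LinearEquiv.map_ne_zero_iff _).2 hψ
    have hker := Module.Dual.finrank_ker_add_one_of_ne_zero hφ
    rw [Module.finrank_pi, Fintype.card_fin] at hker
    have hlt : Submodule.span F {b} < LinearMap.ker φ := by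
      refine lt_of_le_of_ne ((Submodule.span_singleton_le_iff_mem _ _).2 hψb) fun h => ?_
      rw [← h, finrank_span_singleton hb0] at hker
      omega
    obtain ⟨h, hhk, hhb⟩ := SetLike.exists_of_lt hlt
    have hψh : ψ ⬝ᵥ h = 0 := hhk
    set T := el (h, ψ) with hT
    have hTd : T.det = 1 := by rw [hT, el_det, hψh, add_zero]
    have hTu : IsUnit T.det := by rw [hTd]; exact isUnit_one
    have hfix : ∀ x, ψ ⬝ᵥ x = 0 → T *ᵥ x = x := fun x hx => by
      rw [hT, el_mulVec, hx, zero_smul, add_zero]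
    have hfix' : ∀ x, ψ ⬝ᵥ x = 0 → T⁻¹ *ᵥ x = x := fun x hx => by
      conv_lhs => rw [← hfix x hx, mulVec_mulVec, nonsing_inv_mul _ hTu, one_mulVec]
    have hX₂ : SimD 1 (T * X * T⁻¹) A := by
      have h1 : SimD 1 (T * X * T⁻¹) X :=
        ⟨T, hTd, by rw [Matrix.mul_assoc, nonsing_inv_mul _ hTu, Matrix.mul_one]⟩
      simpa using h1.trans hX
    have hval : ∀ x, ψ ⬝ᵥ x = 0 → (T * X * T⁻¹) *ᵥ x = X *ᵥ x + (ψ ⬝ᵥ (X *ᵥ x)) • h := fun x hx => by
      rw [← mulVec_mulVec, hfix' x hx, ← mulVec_mulVec, hT, el_mulVec]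
    obtain ⟨c₂, hc₂⟩ := hall _ hX₂ (by rw [hval a hψa, hXa, hψb, zero_smul, add_zero])
    by_cases hcc : c₁ = c₂
    · subst hcc
      have hc0 : c₁ ≠ 0 := by
        rintro rfl
        have h1 : LinearMap.range g.mulVecLin ≤ Submodule.span F {b} := by
          rintro _ ⟨x, rfl⟩
          obtain ⟨t, ht⟩ := hc₁ x
          rw [mulVecLin_apply, ht, zero_smul, zero_add]
          exact Submodule.smul_mem _ _ (Submodule.mem_span_singleton_self _)
        have h2 := Submodule.finrank_mono h1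
        rw [finrank_span_singleton hb0] at h2
        have h3 := rank_of_isUnit g ((isUnit_iff_isUnit_det g).2 (isUnit_iff_ne_zero.2 hg))
        rw [Fintype.card_fin, Matrix.rank] at h3
        omega
      intro x hx
      obtain ⟨t₁, ht₁⟩ := hc₁ x
      obtain ⟨t₂, ht₂⟩ := hc₂ x
      rw [hval x hx, ht₁] at ht₂
      by_contra hne
      refine hhb (Submodule.mem_span_singleton.2 ⟨(c₁ * (ψ ⬝ᵥ (X *ᵥ x)))⁻¹ * (t₁ - t₂), ?_⟩)
      have e : (c₁ * (ψ ⬝ᵥ (X *ᵥ x))) • h = (t₁ - t₂) • b := by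
        rw [← smul_smul, sub_smul]
        rw [smul_add] at ht₂
        linear_combination (norm := module) (-1 : F) • ht₂
      rw [← smul_smul, ← e, smul_smul, inv_mul_cancel₀ (mul_ne_zero hc0 hne), one_smul]
    · exfalso
      have h1 : (LinearMap.ker φ).map X.mulVecLin ≤ Submodule.span F (Set.range ![b, h]) := by
        rintro _ ⟨x, hx, rfl⟩
        obtain ⟨t₁, ht₁⟩ := hc₁ x
        obtain ⟨t₂, ht₂⟩ := hc₂ x
        rw [hval x hx, ht₁] at ht₂
        have e : (c₁ - c₂) • (X *ᵥ x) = (t₂ - t₁) • b + (c₂ * (ψ ⬝ᵥ (X *ᵥ x))) • h := by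
          linear_combination (norm := module) ht₂
        rw [mulVecLin_apply, ← inv_smul_smul₀ (sub_ne_zero.2 hcc) (X *ᵥ x), e]
        exact Submodule.smul_mem _ _ (Submodule.add_mem _ (Submodule.smul_mem _ _ (pair_mem b h).1)
          (Submodule.smul_mem _ _ (pair_mem b h).2))
      have h2 := Submodule.finrank_mono h1
      rw [← (Submodule.equivMapOfInjective X.mulVecLin hXinj (LinearMap.ker φ)).finrank_eq] at h2
      have h3 : Module.finrank F (Submodule.span F (Set.range ![b, h])) ≤ 2 := by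
        have h4 := finrank_range_le_card (R := F) ![b, h]
        rwa [Set.finrank, Fintype.card_fin] at h4
      omega
  have inv : ∀ x, X *ᵥ x ∈ Submodule.span F (insert x (Set.range ![a, b])) := fun x => by
    by_contra hx
    obtain ⟨ψ, hψx, hψS⟩ := exists_covec hx
    refine hψx (left ψ (fun h => hψx (by rw [h, zero_dotProduct])) ?_ ?_ x ?_)
    · exact hψS a (Submodule.subset_span (Or.inr ⟨0, rfl⟩))
    · exact hψS b (Submodule.subset_span (Or.inr ⟨1, rfl⟩))
    · exact hψS x (Submodule.subset_span (Or.inl rfl))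
  have dec : ∀ x, ∃ r : F, X *ᵥ x - r • x ∈ S := fun x => by
    obtain ⟨r, y, hy, he⟩ := Submodule.mem_span_insert.1 (inv x)
    exact ⟨r, by rw [he, add_sub_cancel_left]; exact hy⟩
  obtain ⟨x₁, hx₁⟩ : ∃ x, x ∉ S := by
    by_contra hS'
    push Not at hS'
    have h1 := finrank_span_eq_card hab
    rw [← hS, Submodule.eq_top_iff'.2 hS', finrank_top, Module.finrank_pi, Fintype.card_fin, Fintype.card_fin] at h1
    omega
  obtain ⟨k, hk⟩ := dec x₁
  obtain ⟨x, hx⟩ := hgood.2 k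
  refine hx ?_
  change X *ᵥ x - k • x ∈ S
  have hSinv : ∀ s ∈ S, X *ᵥ s ∈ S := fun s hs => by
    have : Submodule.span F (insert s (Set.range ![a, b])) ≤ S :=
      Submodule.span_le.2 (Set.insert_subset hs Submodule.subset_span)
    exact this (inv s)
  by_cases hdep : ∃ r : F, x - r • x₁ ∈ S
  · obtain ⟨r, hr⟩ := hdep
    have e : X *ᵥ x - k • x = r • (X *ᵥ x₁ - k • x₁) + (X *ᵥ (x - r • x₁) - k • (x - r • x₁)) := by
      rw [mulVec_sub, mulVec_smul]
      module
    rw [e]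
    exact S.add_mem (S.smul_mem _ hk) (S.sub_mem (hSinv _ hr) (S.smul_mem _ hr))
  · push Not at hdep
    obtain ⟨kx, hkx⟩ := dec x
    obtain ⟨ks, hks⟩ := dec (x + x₁)
    have h1 : (kx - ks) • x + (k - ks) • x₁ ∈ S := by
      have := S.sub_mem hks (S.add_mem hkx hk)
      rw [mulVec_add] at this
      convert this using 1
      module
    have hkk : kx = ks := by
      by_contra hne
      refine hdep (-((kx - ks)⁻¹ * (k - ks))) ?_
      have h2 := S.smul_mem (kx - ks)⁻¹ h1
      rw [smul_add, smul_smul, smul_smul, inv_mul_cancel₀ (sub_ne_zero.2 hne), one_smul] at h2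
      rwa [neg_smul, sub_neg_eq_add]
    subst hkk
    rw [sub_self, zero_smul, zero_add] at h1
    have hk' : k = kx := by
      by_contra hne
      refine hx₁ ?_
      rwa [← inv_smul_smul₀ (sub_ne_zero.2 hne) x₁, S.smul_mem_iff (inv_ne_zero (sub_ne_zero.2 hne))]
    rw [hk']
    exact hkx

end Cfsg.Agent.CoverPSL
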