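import Cfsg.Agent.Lib.CoverPSL.Basic
import Cfsg.Agent.Lib.ClassSquareGauss.Linear

/-!
# A scalar block and a two-dimensional block

Two factors at a time: if `d • 1` is a product of `j` conjugates of `K ⊕ k`, then the next determinant
is a product of `j + 2` conjugates of `K ⊕ k` of size two more.
-/

set_option autoImplicit false

namespace Cfsg.Agent.CoverPSL

open Matrix Cfsg.Agent.Classical.Thompson

variable {F : Type*} [Field F]

/-- `K ⊕ k` -/
def kiBlock {ι : Type*} [Fintype ι] [DecidableEq ι] (K : Matrix (Fin 2) (Fin 2) F) (k : F) :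
    Matrix (Fin 2 ⊕ ι) (Fin 2 ⊕ ι) F :=
  fromBlocks K 0 0 (k • 1)

theorem adj_two_sim {K : Matrix (Fin 2) (Fin 2) F} (hK : ∀ a : F, K ≠ a • 1) :
    Sim (adjugate K) K := by
  classical
  obtain ⟨v, hv⟩ := exists_not_eigen hK
  set P : Matrix (Fin 2) (Fin 2) F := Matrix.of fun i j => ![v i, (K *ᵥ v) i] j with hP
  have hPd : P.det ≠ 0 := by
    intro h
    have hdet : v 0 * (K *ᵥ v) 1 - (K *ᵥ v) 0 * v 1 = 0 := by simpa [P, det_fin_two] using h
    by_cases h0 : v 0 = 0
    · have h1 : v 1 ≠ 0 := fun h1 => hv 0 (by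
        have : v = 0 := funext fun i => by fin_cases i <;> assumption
        simp [this])
      refine hv ((K *ᵥ v) 1 / v 1) (funext fun i => ?_)
      fin_cases i
      · simp [h0] at hdet ⊢
        exact hdet
      · simp [div_mul_cancel₀ _ h1]
    · refine hv ((K *ᵥ v) 0 / v 0) (funext fun i => ?_)
      fin_cases i
      · simp [div_mul_cancel₀ _ h0]
      · simp only [Fin.mk_one, Pi.smul_apply, smul_eq_mul]
        field_simp
        linear_combination hdet
  set C : Matrix (Fin 2) (Fin 2) F := !![0, -K.det; 1, K.trace] with hC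
  have hKP : K * P = P * C := by
    have hCH : ∀ i, (K *ᵥ (K *ᵥ v)) i = K.trace * (K *ᵥ v) i - K.det * v i := fun i => by
      fin_cases i <;> simp [mulVec, dotProduct, Fin.sum_univ_two, trace_fin_two, det_fin_two] <;> ring
    ext i j
    fin_cases j
    · simp [P, C, Matrix.mul_apply, Fin.sum_univ_two, mulVec, dotProduct]
    · have := hCH i
      simp [P, C, Matrix.mul_apply, Fin.sum_univ_two, mulVec, dotProduct] at this ⊢
      linear_combination this
  have hu : IsUnit P.det := isUnit_iff_ne_zero.2 hPd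
  have hsim : Sim K C := ⟨P, P⁻¹, mul_nonsing_inv _ hu, by
    rw [← hKP, Matrix.mul_assoc, mul_nonsing_inv _ hu, Matrix.mul_one]⟩
  have hadj : adjugate K = K.trace • 1 - K := by
    ext i j; fin_cases i <;> fin_cases j <;> simp [adjugate_fin_two, trace_fin_two]
  have h1 : Sim (adjugate K) (K.trace • 1 - C) := by
    refine ⟨P, P⁻¹, mul_nonsing_inv _ hu, ?_⟩
    rw [hadj, Matrix.mul_sub, Matrix.sub_mul, Matrix.mul_smul, Matrix.mul_one, ← hKP, Matrix.smul_mul,
      mul_nonsing_inv _ hu, Matrix.mul_assoc, mul_nonsing_inv _ hu, Matrix.mul_one]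
  have h2 : Sim (K.trace • 1 - C) C := by
    refine ⟨!![1, K.trace; 0, -1], !![1, K.trace; 0, -1], ?_, ?_⟩
    · ext i j; fin_cases i <;> fin_cases j <;> simp [Matrix.mul_apply, Fin.sum_univ_two]
    · ext i j
      fin_cases i <;> fin_cases j <;> simp [C, Matrix.mul_apply, Fin.sum_univ_two] <;> ring
  exact h1.trans (h2.trans hsim.symm)

theorem ki_zero {K : Matrix (Fin 2) (Fin 2) F} (hK : ∀ a : F, K ≠ a • 1) (k : F) :
    Cov 2 (kiBlock (ι := Fin 0) K k) ((K.det * k ^ 0) • 1) := by
  refine ⟨[kiBlock K k, fromBlocks (adjugate K) 0 0 (k • 1)], rfl, ?_, ?_⟩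
  · intro X hX
    simp only [List.mem_cons, List.not_mem_nil, or_false] at hX
    rcases hX with rfl | rfl
    · exact Sim.refl _
    · exact (adj_two_sim hK).fromBlocks (Sim.refl _)
  · ext (i | i) (j | j)
    · simp [kiBlock, fromBlocks_multiply, mul_adjugate, Matrix.one_apply]
    · exact j.elim0
    · exact i.elim0
    · exact i.elim0

/-- Two more lines, two more factors. -/
theorem ki_step {ι : Type*} [Fintype ι] [DecidableEq ι] {n' : ℕ} {K : Matrix (Fin 2) (Fin 2) F}
    (hK : ∀ a : F, K ≠ a • 1) (k : F) (hι : (Fintype.card ι + 2 : ℕ) = n')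
    (h : Cov n' (kiBlock (ι := ι) K k) ((K.det * k ^ Fintype.card ι) • 1)) :
    Cov (2 + n') (kiBlock (ι := Fin 2 ⊕ ι) K k) ((K.det * k ^ (2 + Fintype.card ι)) • 1) := by
  classical
  subst hι
  obtain ⟨l, hl, hlA, hlp⟩ := h
  set A := kiBlock (ι := Fin 2 ⊕ ι) K k
  let σ : Fin 2 ⊕ (Fin 2 ⊕ ι) ≃ Fin 2 ⊕ (Fin 2 ⊕ ι) :=
    { toFun := fun x => match x with
        | Sum.inl a => Sum.inr (Sum.inl a)
        | Sum.inr (Sum.inl a) => Sum.inl a
        | Sum.inr (Sum.inr a) => Sum.inr (Sum.inr a)
      invFun := fun x => match x with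
        | Sum.inl a => Sum.inr (Sum.inl a)
        | Sum.inr (Sum.inl a) => Sum.inl a
        | Sum.inr (Sum.inr a) => Sum.inr (Sum.inr a)
      left_inv := fun x => by rcases x with a | a | a <;> rfl
      right_inv := fun x => by rcases x with a | a | a <;> rfl }
  have hswap : Sim (fromBlocks (k • 1) 0 0 (kiBlock (ι := ι) K k)) A := by
    have h := ClassSquareGauss.Linear.sim_perm A σ
    convert h using 1
    ext i j
    rcases i with i | i | i <;> rcases j with j | j | j <;>
      simp [A, σ, kiBlock, Matrix.one_apply]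
  have key : ∀ l : List (Matrix (Fin 2 ⊕ ι) (Fin 2 ⊕ ι) F),
      (l.map fun X => fromBlocks (k • (1 : Matrix (Fin 2) (Fin 2) F)) 0 0 X).prod =
        fromBlocks (k ^ l.length • 1) 0 0 l.prod := by
    intro l
    induction l with
    | nil => simp [fromBlocks_one]
    | cons X l ih => simp [ih, fromBlocks_multiply, smul_smul, pow_succ', mul_comm]
  refine ⟨[A, fromBlocks (adjugate K) 0 0 (k • 1)] ++ l.map (fun X => fromBlocks (k • 1) 0 0 X),
    by simp [hl]; omega, fun X hX => ?_, ?_⟩
  · rcases List.mem_append.1 hX with hX | hX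
    · simp only [List.mem_cons, List.not_mem_nil, or_false] at hX
      rcases hX with rfl | rfl
      · exact Sim.refl _
      · exact (adj_two_sim hK).fromBlocks (Sim.refl _)
    · obtain ⟨Y, hY, rfl⟩ := List.mem_map.1 hX
      exact ((Sim.refl _).fromBlocks (hlA Y hY)).trans hswap
  · rw [List.prod_append, key, hlp, hl]
    have e : ([A, fromBlocks (adjugate K) 0 0 (k • 1)]).prod =
        fromBlocks (K.det • 1) 0 0 ((k * k) • 1) := by
      simp [A, kiBlock, fromBlocks_multiply, mul_adjugate, smul_smul]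
    rw [e, fromBlocks_multiply]
    simp only [Matrix.mul_zero, Matrix.zero_mul, add_zero, Matrix.smul_mul, Matrix.one_mul,
      Matrix.mul_smul, smul_smul]
    ext (i | i | i) (j | j | j) <;> simp [Matrix.one_apply] <;> ring_nf

end Cfsg.Agent.CoverPSL
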