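import Cfsg.Agent.Lib.CoverPSL.Pseudo

/-!
# Lifting products of conjugates past an eigenvector

Conjugates `B` of the quotient `A'` lift to conjugates `corner c a B` of `A = corner c a₀ A'`; the top row
of a product of lifts is arbitrary up to its values on the common fixed vectors.
-/

set_option autoImplicit false

namespace Cfsg.Agent.CoverPSL

open Matrix Cfsg.Agent.Classical.Thompson

variable {F : Type*} [Field F] {m : ℕ}

/-- `[[c, a], [0, B]]` -/
def corner (c : F) (a : Fin m → F) (B : Matrix (Fin m) (Fin m) F) :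
    Matrix (Fin 1 ⊕ Fin m) (Fin 1 ⊕ Fin m) F :=
  fromBlocks (c • 1) (Matrix.of fun _ j => a j) 0 B

theorem corner_mul (c c' : F) (a a' : Fin m → F) (B B' : Matrix (Fin m) (Fin m) F) :
    corner c a B * corner c' a' B' = corner (c * c') (c • a' + a ᵥ* B') (B * B') := by
  rw [corner, corner, corner, fromBlocks_multiply]
  congr 1
  · simp [smul_smul, mul_comm]
  · ext i j
    simp [Matrix.mul_apply, vecMul, dotProduct, Matrix.one_apply]
  · simp
  · simp

theorem corner_det (c : F) (a : Fin m → F) (B : Matrix (Fin m) (Fin m) F) :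
    (corner c a B).det = c * B.det := by
  rw [corner, det_fromBlocks_zero₂₁]
  simp

theorem corner_one : corner (1 : F) (0 : Fin m → F) 1 = 1 := by
  ext (i | i) (j | j) <;> simp [corner, Matrix.one_apply]

theorem corner_mulVec_inr (c : F) (a : Fin m → F) (B : Matrix (Fin m) (Fin m) F) (y : Fin 1 ⊕ Fin m → F) :
    (corner c a B *ᵥ y) ∘ Sum.inr = B *ᵥ (y ∘ Sum.inr) := by
  funext i
  simp [corner, fromBlocks_mulVec]

theorem SimD.reindex {ι κ : Type*} [Fintype ι] [DecidableEq ι] [Fintype κ] [DecidableEq κ] {δ : F}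
    {M N : Matrix ι ι F} (h : SimD δ M N) (e : ι ≃ κ) : SimD δ (M.reindex e e) (N.reindex e e) := by
  obtain ⟨P, hP, he⟩ := h
  exact ⟨P.reindex e e, by rw [det_reindex_self, hP], by simp [submatrix_mul_equiv, he]⟩

/-- A conjugate of the quotient lifts, with the top row free modulo the image of `B - c`. -/
theorem exists_lift {A' B : Matrix (Fin m) (Fin m) F} (hB : Sim B A') (c : F) (a : Fin m → F) :
    ∃ aB : Fin m → F, ∀ w : Fin m → F, SimD 1 (corner c (aB + w ᵥ* (B - c • 1)) B) (corner c a A') := by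
  obtain ⟨h, Q, hQ, rfl⟩ := hB
  have hQh : Q * h = 1 := mul_eq_one_comm.1 hQ
  have hd : h.det ≠ 0 := fun h0 => by
    have := congrArg Matrix.det hQ
    rw [det_mul, h0, zero_mul, det_one] at this
    exact zero_ne_one this
  refine ⟨h.det⁻¹ • (a ᵥ* Q), fun w => ?_⟩
  have h1 : SimD 1 (corner c (h.det⁻¹ • (a ᵥ* Q)) (h * A' * Q)) (corner c a A') := by
    refine ⟨fromBlocks (h.det⁻¹ • 1) 0 0 h, ?_, ?_⟩
    · rw [det_fromBlocks_zero₂₁]
      simp [hd]
    · rw [corner, corner, fromBlocks_multiply, fromBlocks_multiply]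
      simp only [Matrix.mul_zero, Matrix.zero_mul, add_zero, zero_add, Matrix.mul_assoc, hQh, Matrix.mul_one]
      congr 1
      · simp [smul_smul, mul_comm]
      · have e : (a ᵥ* Q) ᵥ* h = a := by rw [vecMul_vecMul, hQh, vecMul_one]
        ext i j
        have := congrFun (congrArg (fun v => h.det⁻¹ • v) e) j
        rw [← smul_vecMul] at this
        rw [Subsingleton.elim i 0]
        simpa [Matrix.mul_apply, vecMul, dotProduct, Matrix.one_apply] using this
  have h2 : SimD 1 (corner c (h.det⁻¹ • (a ᵥ* Q) + w ᵥ* (h * A' * Q - c • 1)) (h * A' * Q))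
      (corner c (h.det⁻¹ • (a ᵥ* Q)) (h * A' * Q)) := by
    refine ⟨corner 1 w 1, by simp [corner_det], ?_⟩
    rw [corner_mul, corner_mul, vecMul_one, one_smul, one_mul, mul_one, Matrix.one_mul, Matrix.mul_one,
      vecMul_sub, vecMul_smul, vecMul_one]
    congr 1
    abel
  simpa using h2.trans h1

/-- the common fixed space -/
def fixSpace (c : F) (l : List (Matrix (Fin m) (Fin m) F)) : Submodule F (Fin m → F) where
  carrier := {z | ∀ B ∈ l, B *ᵥ z = c • z}
  add_mem' := fun hx hy B hB => by rw [mulVec_add, hx B hB, hy B hB, smul_add]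
  zero_mem' := fun B _ => by rw [mulVec_zero, smul_zero]
  smul_mem' := fun t x hx B hB => by rw [mulVec_smul, hx B hB, smul_comm]

theorem prod_fix {c : F} : ∀ {l : List (Matrix (Fin m) (Fin m) F)} {z : Fin m → F},
    z ∈ fixSpace c l → l.prod *ᵥ z = c ^ l.length • z
  | [], z, _ => by simp
  | B :: l, z, h => by
    rw [List.prod_cons, ← mulVec_mulVec, prod_fix (l := l) fun X hX => h X (List.mem_cons_of_mem _ hX),
      mulVec_smul, h B List.mem_cons_self, smul_smul, List.length_cons, pow_succ]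

/-- Products of lifts. -/
theorem exists_lift_prod {A' : Matrix (Fin m) (Fin m) F} {c : F} (hc : c ≠ 0) (a : Fin m → F) :
    ∀ l : List (Matrix (Fin m) (Fin m) F), (∀ B ∈ l, Sim B A') →
      ∃ b₀ : Fin m → F, ∀ y : Fin m → F, (∀ z ∈ fixSpace c l, y ⬝ᵥ z = b₀ ⬝ᵥ z) →
        ∃ l' : List (Matrix (Fin 1 ⊕ Fin m) (Fin 1 ⊕ Fin m) F),
          List.Forall₂ (fun X B => SimD 1 X (corner c a A') ∧ ∃ a₁, X = corner c a₁ B) l' l ∧
          l'.prod = corner (c ^ l.length) y l.prod
  | [], _ => ⟨0, fun y hy => ⟨[], List.Forall₂.nil, by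
      have h0 : y = 0 := funext fun i => by
        simpa using hy (Pi.single i 1) (fun B hB => by simp at hB)
      simp [h0, corner_one]⟩⟩
  | B :: l, hl => by
    classical
    obtain ⟨b₁, hb₁⟩ := exists_lift_prod hc a l fun X hX => hl X (List.mem_cons_of_mem _ hX)
    obtain ⟨aB, haB⟩ := exists_lift (hl B List.mem_cons_self) c a
    refine ⟨c • b₁ + aB ᵥ* l.prod, fun y hy => ?_⟩
    set d := y - (c • b₁ + aB ᵥ* l.prod) with hd
    let f : fixSpace c l →ₗ[F] (Fin m → F) := (B - c • 1).mulVecLin.comp (fixSpace c l).subtype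
    let g : Module.Dual F (fixSpace c l) :=
      (dotProductEquiv F (Fin m) d).comp (fixSpace c l).subtype
    have hker : g ∈ (LinearMap.ker f).dualAnnihilator := by
      rw [Submodule.mem_dualAnnihilator]
      intro z hz
      have hz' : B *ᵥ (z : Fin m → F) = c • (z : Fin m → F) := by
        have h := LinearMap.mem_ker.1 hz
        simpa [f, sub_mulVec, smul_mulVec, sub_eq_zero] using h
      show d ⬝ᵥ (z : Fin m → F) = 0
      rw [hd, sub_dotProduct, sub_eq_zero]
      exact hy _ fun X hX => (List.mem_cons.1 hX).elim (fun h => h ▸ hz') (z.2 X)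
    rw [← LinearMap.range_dualMap_eq_dualAnnihilator_ker] at hker
    obtain ⟨ψ, hψ⟩ := hker
    let w : Fin m → F := (c ^ l.length)⁻¹ • (dotProductEquiv F (Fin m)).symm ψ
    have hw : ∀ z ∈ fixSpace c l, c ^ l.length * (w ⬝ᵥ ((B - c • 1) *ᵥ z)) = d ⬝ᵥ z := by
      intro z hz
      have h := LinearMap.congr_fun hψ ⟨z, hz⟩
      simp only [LinearMap.dualMap_apply] at h
      have e : (dotProductEquiv F (Fin m)).symm ψ ⬝ᵥ ((B - c • 1) *ᵥ z) = ψ ((B - c • 1) *ᵥ z) :=
        LinearMap.congr_fun ((dotProductEquiv F (Fin m)).apply_symm_apply ψ) _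
      rw [smul_dotProduct, smul_eq_mul, e, ← mul_assoc, mul_inv_cancel₀ (pow_ne_zero _ hc), one_mul]
      exact h
    let η : Fin m → F := c⁻¹ • (d - (w ᵥ* (B - c • 1)) ᵥ* l.prod)
    obtain ⟨l', hl', hp⟩ := hb₁ (b₁ + η) fun z hz => by
      rw [add_dotProduct, smul_dotProduct, sub_dotProduct, ← dotProduct_mulVec, ← dotProduct_mulVec,
        prod_fix hz, mulVec_smul, dotProduct_smul, smul_eq_mul, smul_eq_mul, hw z hz, sub_self, mul_zero, add_zero]
    refine ⟨corner c (aB + w ᵥ* (B - c • 1)) B :: l', List.Forall₂.cons ⟨haB w, _, rfl⟩ hl', ?_⟩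
    rw [List.prod_cons, hp, corner_mul, List.length_cons, pow_succ', List.prod_cons]
    congr 1
    simp only [η, smul_add, smul_smul, mul_inv_cancel₀ hc, one_smul, add_vecMul, hd]
    abel

end Cfsg.Agent.CoverPSL
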