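import Cfsg.Agent.Lib.CoverPSL.Lift

/-!
# Lifting past several eigenvectors of one eigenvalue

The version of `Lift` for a scalar top block of any size.
-/

set_option autoImplicit false

namespace Cfsg.Agent.CoverPSL

open Matrix Cfsg.Agent.Classical.Thompson

variable {F : Type*} [Field F] {r m : ℕ}

/-- `[[c, a], [0, B]]` with a scalar block `c` -/
def blk (c : F) (a : Matrix (Fin r) (Fin m) F) (B : Matrix (Fin m) (Fin m) F) :
    Matrix (Fin r ⊕ Fin m) (Fin r ⊕ Fin m) F :=
  fromBlocks (c • 1) a 0 B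

theorem blk_mul (c c' : F) (a a' : Matrix (Fin r) (Fin m) F) (B B' : Matrix (Fin m) (Fin m) F) :
    blk c a B * blk c' a' B' = blk (c * c') (c • a' + a * B') (B * B') := by
  rw [blk, blk, blk, fromBlocks_multiply]
  congr 1 <;> simp [smul_smul, mul_comm]

theorem blk_det (c : F) (a : Matrix (Fin r) (Fin m) F) (B : Matrix (Fin m) (Fin m) F) :
    (blk c a B).det = c ^ r * B.det := by
  rw [blk, det_fromBlocks_zero₂₁]
  simp

theorem blk_mulVec_inr (c : F) (a : Matrix (Fin r) (Fin m) F) (B : Matrix (Fin m) (Fin m) F)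
    (y : Fin r ⊕ Fin m → F) : (blk c a B *ᵥ y) ∘ Sum.inr = B *ᵥ (y ∘ Sum.inr) := by
  funext i
  simp [blk, fromBlocks_mulVec]

/-- A conjugate of the quotient lifts, with the top rows free modulo the image of `B - c`. -/
theorem exists_lift_mat (hr : 0 < r) {A' B : Matrix (Fin m) (Fin m) F} (hB : Sim B A') (c : F)
    (a : Matrix (Fin r) (Fin m) F) :
    ∃ aB : Matrix (Fin r) (Fin m) F,
      ∀ w : Matrix (Fin r) (Fin m) F, SimD 1 (blk c (aB + w * (B - c • 1)) B) (blk c a A') := by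
  classical
  obtain ⟨h, Q, hQ, rfl⟩ := hB
  have hQh : Q * h = 1 := mul_eq_one_comm.1 hQ
  have hd : h.det ≠ 0 := fun h0 => by
    have := congrArg Matrix.det hQ
    rw [det_mul, h0, zero_mul, det_one] at this
    exact zero_ne_one this
  set D : Matrix (Fin r) (Fin r) F := diagonal fun i => if i = ⟨0, hr⟩ then h.det⁻¹ else 1 with hD
  have hDdet : D.det = h.det⁻¹ := by
    rw [hD, det_diagonal, Finset.prod_eq_single (⟨0, hr⟩ : Fin r)]
    · simp
    · intro i _ hi; simp [hi]
    · simp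
  refine ⟨D * a * Q, fun w => ?_⟩
  have h1 : SimD 1 (blk c (D * a * Q) (h * A' * Q)) (blk c a A') := by
    refine ⟨fromBlocks D 0 0 h, ?_, ?_⟩
    · rw [det_fromBlocks_zero₂₁, hDdet, inv_mul_cancel₀ hd]
    · rw [blk, blk, fromBlocks_multiply, fromBlocks_multiply]
      simp only [Matrix.mul_zero, Matrix.zero_mul, add_zero, zero_add, Matrix.mul_assoc, hQh, Matrix.mul_one]
      congr 1
      simp
  have h2 : SimD 1 (blk c (D * a * Q + w * (h * A' * Q - c • 1)) (h * A' * Q))
      (blk c (D * a * Q) (h * A' * Q)) := by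
    refine ⟨blk 1 w 1, by simp [blk_det], ?_⟩
    rw [blk_mul, blk_mul, Matrix.mul_one, one_smul, one_mul, mul_one, Matrix.one_mul, Matrix.mul_one,
      Matrix.mul_sub, Matrix.mul_smul, Matrix.mul_one]
    congr 1
    abel
  simpa using h2.trans h1

/-- Products of lifts. -/
theorem exists_lift_prod_mat (hr : 0 < r) {A' : Matrix (Fin m) (Fin m) F} {c : F} (hc : c ≠ 0)
    (a : Matrix (Fin r) (Fin m) F) :
    ∀ l : List (Matrix (Fin m) (Fin m) F), (∀ B ∈ l, Sim B A') →
      ∃ b₀ : Matrix (Fin r) (Fin m) F, ∀ y : Matrix (Fin r) (Fin m) F,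
        (∀ z ∈ fixSpace c l, y *ᵥ z = b₀ *ᵥ z) →
        ∃ l' : List (Matrix (Fin r ⊕ Fin m) (Fin r ⊕ Fin m) F),
          List.Forall₂ (fun X B => SimD 1 X (blk c a A') ∧ ∃ a₁, X = blk c a₁ B) l' l ∧
          l'.prod = blk (c ^ l.length) y l.prod
  | [], _ => ⟨0, fun y hy => ⟨[], List.Forall₂.nil, by
      have h0 : y = 0 := Matrix.ext fun i j => by
        simpa [mulVec_single_one] using congrFun (hy (Pi.single j 1) (fun B hB => by simp at hB)) i
      subst h0
      ext (i | i) (j | j) <;> simp [blk, Matrix.one_apply]⟩⟩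
  | B :: l, hl => by
    classical
    obtain ⟨b₁, hb₁⟩ := exists_lift_prod_mat hr hc a l fun X hX => hl X (List.mem_cons_of_mem _ hX)
    obtain ⟨aB, haB⟩ := exists_lift_mat hr (hl B List.mem_cons_self) c a
    refine ⟨c • b₁ + aB * l.prod, fun y hy => ?_⟩
    set d := y - (c • b₁ + aB * l.prod) with hd
    let f : fixSpace c l →ₗ[F] (Fin m → F) := (B - c • 1).mulVecLin.comp (fixSpace c l).subtype
    have hrow : ∀ i : Fin r, ∃ w : Fin m → F, ∀ z ∈ fixSpace c l,
        c ^ l.length * (w ⬝ᵥ ((B - c • 1) *ᵥ z)) = (d *ᵥ z) i := by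
      intro i
      let g : Module.Dual F (fixSpace c l) :=
        (dotProductEquiv F (Fin m) (d i)).comp (fixSpace c l).subtype
      have hker : g ∈ (LinearMap.ker f).dualAnnihilator := by
        rw [Submodule.mem_dualAnnihilator]
        intro z hz
        have hz' : B *ᵥ (z : Fin m → F) = c • (z : Fin m → F) := by
          have h := LinearMap.mem_ker.1 hz
          simpa [f, sub_mulVec, smul_mulVec, sub_eq_zero] using h
        show (d *ᵥ (z : Fin m → F)) i = 0
        rw [hd, sub_mulVec, Pi.sub_apply, sub_eq_zero]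
        exact congrFun (hy _ fun X hX => (List.mem_cons.1 hX).elim (fun h => h ▸ hz') (z.2 X)) i
      rw [← LinearMap.range_dualMap_eq_dualAnnihilator_ker] at hker
      obtain ⟨ψ, hψ⟩ := hker
      refine ⟨(c ^ l.length)⁻¹ • (dotProductEquiv F (Fin m)).symm ψ, fun z hz => ?_⟩
      have h := LinearMap.congr_fun hψ ⟨z, hz⟩
      simp only [LinearMap.dualMap_apply] at h
      have e : (dotProductEquiv F (Fin m)).symm ψ ⬝ᵥ ((B - c • 1) *ᵥ z) = ψ ((B - c • 1) *ᵥ z) :=
        LinearMap.congr_fun ((dotProductEquiv F (Fin m)).apply_symm_apply ψ) _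
      rw [smul_dotProduct, smul_eq_mul, e, ← mul_assoc, mul_inv_cancel₀ (pow_ne_zero _ hc), one_mul]
      exact h
    choose w₀ hw₀ using hrow
    let w : Matrix (Fin r) (Fin m) F := Matrix.of w₀
    let η : Matrix (Fin r) (Fin m) F := c⁻¹ • (d - w * (B - c • 1) * l.prod)
    obtain ⟨l', hl', hp⟩ := hb₁ (b₁ + η) fun z hz => by
      have hwz : (c ^ l.length) • ((w * (B - c • 1)) *ᵥ z) = d *ᵥ z := by
        funext i
        rw [Pi.smul_apply, smul_eq_mul, ← mulVec_mulVec]
        exact hw₀ i z hz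
      rw [add_mulVec, smul_mulVec, sub_mulVec, ← mulVec_mulVec, prod_fix hz, mulVec_smul, hwz, sub_self,
        smul_zero, add_zero]
    refine ⟨blk c (aB + w * (B - c • 1)) B :: l', List.Forall₂.cons ⟨haB w, _, rfl⟩ hl', ?_⟩
    rw [List.prod_cons, hp, blk_mul, List.length_cons, pow_succ', List.prod_cons]
    congr 1
    simp only [η, smul_add, smul_smul, mul_inv_cancel₀ hc, one_smul, Matrix.add_mul, hd]
    abel

/-- Lifts of factors without common fixed vectors give every top block. -/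
theorem exists_lift_all (hr : 0 < r) {A' : Matrix (Fin m) (Fin m) F} {c : F} (hc : c ≠ 0)
    (a : Matrix (Fin r) (Fin m) F) {l : List (Matrix (Fin m) (Fin m) F)} (hl : ∀ B ∈ l, Sim B A')
    (hfix : ∀ z, (∀ B ∈ l, B *ᵥ z = c • z) → z = 0) (y : Matrix (Fin r) (Fin m) F) :
    ∃ l' : List (Matrix (Fin r ⊕ Fin m) (Fin r ⊕ Fin m) F), l'.length = l.length ∧
      (∀ X ∈ l', SimD 1 X (blk c a A')) ∧ l'.prod = blk (c ^ l.length) y l.prod := by
  obtain ⟨b₀, hb⟩ := exists_lift_prod_mat hr hc a l hl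
  obtain ⟨l', hl', hp⟩ := hb y fun z hz => by rw [hfix z hz, mulVec_zero, mulVec_zero]
  refine ⟨l', hl'.length_eq, fun X hX => ?_, hp⟩
  obtain ⟨i, hi, rfl⟩ := List.getElem_of_mem hX
  exact ((List.forall₂_iff_get.1 hl').2 i hi (hl'.length_eq ▸ hi)).1

end Cfsg.Agent.CoverPSL
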