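import Cfsg.Agent.Lib.CoverPSL.Lift
import Cfsg.Agent.Lib.CoverPSL.Good

/-!
# The induction step for classes with an eigenvalue
-/

set_option autoImplicit false

namespace Cfsg.Agent.CoverPSL

open Matrix Cfsg.Agent.Classical.Thompson

variable {F : Type*} [Field F]

/-- `CovS` and `CovNF` by one and the same list. -/
def CovSF {ι : Type*} [Fintype ι] [DecidableEq ι] (m : ℕ) (A B : Matrix ι ι F) : Prop :=
  ∃ l : List (Matrix ι ι F), l.length = m ∧ (∀ X ∈ l, SimD 1 X A) ∧ l.prod = B ∧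
    ∀ (c : F) (y : ι → F), (∀ X ∈ l, X *ᵥ y = c • y) → y = 0

theorem CovSF.covS {ι : Type*} [Fintype ι] [DecidableEq ι] {m : ℕ} {A B : Matrix ι ι F}
    (h : CovSF m A B) : CovS m A B := by
  obtain ⟨l, hl, hX, hp, -⟩ := h
  exact ⟨l, hl, hX, hp⟩

theorem CovSF.covNF {ι : Type*} [Fintype ι] [DecidableEq ι] {m : ℕ} {A B : Matrix ι ι F}
    (h : CovSF m A B) : CovNF m A B := by
  obtain ⟨l, hl, hX, hp, he⟩ := h
  exact ⟨l, hl, fun X hXl => (hX X hXl).sim one_ne_zero, hp, he⟩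

theorem CovSF.conj {ι : Type*} [Fintype ι] [DecidableEq ι] {m : ℕ} {A B B' : Matrix ι ι F}
    (h : CovSF m A B) (hB : SimD 1 B' B) : CovSF m A B' := by
  obtain ⟨l, rfl, hX, rfl, he⟩ := h
  obtain ⟨P, hP, e⟩ := hB
  have hu : IsUnit P.det := by rw [hP]; exact isUnit_one
  have hB' : B' = P * l.prod * P⁻¹ := by
    rw [← e, Matrix.mul_assoc, mul_nonsing_inv _ hu, Matrix.mul_one]
  refine ⟨l.map fun X => P * X * P⁻¹, List.length_map _, fun Y hY => ?_,
    (prod_conj P P⁻¹ (mul_nonsing_inv _ hu) l).trans hB'.symm, fun c y hy => ?_⟩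
  · obtain ⟨X, hXl, rfl⟩ := List.mem_map.1 hY
    have h1 : SimD 1 (P * X * P⁻¹) X :=
      ⟨P, hP, by rw [Matrix.mul_assoc, nonsing_inv_mul _ hu, Matrix.mul_one]⟩
    simpa using h1.trans (hX X hXl)
  · have h1 : P⁻¹ *ᵥ y = 0 := he c _ fun X hXl => by
      have := congrArg (P⁻¹ *ᵥ ·) (hy _ (List.mem_map_of_mem hXl))
      simpa [mulVec_mulVec, ← Matrix.mul_assoc, nonsing_inv_mul _ hu, mulVec_smul] using this
    have := congrArg (P *ᵥ ·) h1
    simpa [mulVec_mulVec, mul_nonsing_inv _ hu] using this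

variable {m : ℕ}

/-- The induction step. -/
theorem step (hm : 3 ≤ m) {A : Matrix (Fin (1 + m)) (Fin (1 + m)) F} (hA0 : A.det ≠ 0) {c : F}
    {a : Fin m → F} {A' : Matrix (Fin m) (Fin m) F}
    (hA : SimD 1 A ((corner c a A').reindex finSumFinEquiv finSumFinEquiv))
    {u : Fin (1 + m) → F} (hu : GoodVec A u) (k : ℕ)
    (inner : ∀ B' : Matrix (Fin m) (Fin m) F, B'.det = A'.det ^ k → (∀ s : F, B' ≠ s • 1) → CovNF k A' B')
    {g : Matrix (Fin (1 + m)) (Fin (1 + m)) F} (hg : g.det = A.det ^ (k + 1)) (hns : ∀ s : F, g ≠ s • 1) :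
    CovSF (k + 1) A g := by
  classical
  set e := finSumFinEquiv (m := 1) (n := m)
  have hAdet : A.det = c * A'.det := by
    rw [Sim.det_eq (hA.sim one_ne_zero), det_reindex_self, corner_det]
  have hc : c ≠ 0 := fun h => hA0 (by rw [hAdet, h, zero_mul])
  have hg0 : g.det ≠ 0 := by rw [hg]; exact pow_ne_zero _ hA0
  obtain ⟨v, hv⟩ := exists_not_eigen hns
  have hv0 : v ≠ 0 := fun h => hv 0 (by simp [h])
  let i1 : Fin (1 + m) := ⟨1, by omega⟩
  let e0 : Fin (1 + m) → F := Pi.single (e (Sum.inl 0)) 1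
  let e1 : Fin (1 + m) → F := Pi.single i1 1
  have hi : i1 ≠ e (Sum.inl 0) := fun h => by simpa [i1, e] using congrArg Fin.val h
  have he01 : ∀ t : F, e1 ≠ t • e0 := fun t h => by simpa [e0, e1, hi] using congrFun h i1
  have he00 : e0 ≠ 0 := by simp [e0]
  obtain ⟨P, hP, hPv, hPgv⟩ := exists_pair_map (by omega) (pair_indep he00 he01)
    (pair_indep hv0 hv)
  have hPu : IsUnit P.det := by rw [hP]; exact isUnit_one
  set g' := P⁻¹ * g * P with hg'
  have hgsim : SimD 1 g g' := by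
    refine ⟨P, hP, ?_⟩
    rw [hg', ← Matrix.mul_assoc, ← Matrix.mul_assoc, mul_nonsing_inv _ hPu, Matrix.one_mul]
  refine CovSF.conj ?_ hgsim
  have hg'0 : g'.det = g.det := (Sim.det_eq (hgsim.sim one_ne_zero)).symm
  have hg'e : g' *ᵥ e0 = e1 := by
    rw [hg', ← mulVec_mulVec, hPv, ← mulVec_mulVec, ← hPgv, mulVec_mulVec, nonsing_inv_mul _ hPu, one_mulVec]
  set μ := c ^ k with hμ
  have hμ0 : μ ≠ 0 := pow_ne_zero _ hc
  set w := μ⁻¹ • e1 with hw
  have hab : LinearIndependent F ![e0, w] := pair_indep he00 fun t h => he01 (μ * t) (by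
    rw [← smul_smul, ← h, hw, smul_smul, mul_inv_cancel₀ hμ0, one_smul])
  obtain ⟨X, hX, hXe, hbad⟩ := exists_first (by omega) hA0 (hg'0 ▸ hg0) hu hab
  have hXd : X.det = A.det := Sim.det_eq (hX.sim one_ne_zero)
  have hXu : IsUnit X.det := by rw [hXd]; exact isUnit_iff_ne_zero.2 hA0
  set Y := X⁻¹ * g' with hY
  have hYe : Y *ᵥ e0 = μ • e0 := by
    rw [hY, ← mulVec_mulVec, hg'e, show e1 = μ • (X *ᵥ e0) by
      rw [hXe, hw, smul_smul, mul_inv_cancel₀ hμ0, one_smul], mulVec_smul, mulVec_mulVec,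
      nonsing_inv_mul _ hXu, one_mulVec]
  set Ys := Y.reindex e.symm e.symm with hYs
  have hcol : ∀ i, Ys i (Sum.inl 0) = (μ • e0) (e i) := fun i => by
    rw [← hYe]; simp [Ys, e0]
  set y : Fin m → F := fun j => Ys (Sum.inl 0) (Sum.inr j)
  set Y' := Ys.toBlocks₂₂ with hY'
  have hcorner : Ys = corner μ y Y' := by
    ext (i | i) (j | j)
    · rw [Subsingleton.elim i 0, Subsingleton.elim j 0, hcol]; simp [corner, e0]
    · rw [Subsingleton.elim i 0]; simp [corner, y]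
    · rw [Subsingleton.elim j 0, hcol]; simp [corner, e0]
    · simp [corner, Y', toBlocks₂₂]
  have hY'ns : ∀ s : F, Y' ≠ s • 1 := by
    intro s hs
    obtain ⟨x, hx⟩ := hbad s
    have hd : ∃ t : F, Y *ᵥ x = s • x + t • e0 := by
      refine ⟨(Y *ᵥ x - s • x) (e (Sum.inl 0)), funext fun i => ?_⟩
      obtain ⟨i, rfl⟩ := e.surjective i
      rcases i with i | i
      · rw [Subsingleton.elim i 0]; simp [e0]
      · have h1 : (Y *ᵥ x) (e (Sum.inr i)) = (Ys *ᵥ (x ∘ e)) (Sum.inr i) := by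
          rw [hYs, reindex_apply, submatrix_mulVec_equiv, Equiv.symm_symm, Function.comp_apply]
          congr 2
          funext j; simp
        rw [h1, hcorner, hs]
        simp [corner, fromBlocks_mulVec, e0, e.injective.eq_iff, smul_mulVec]
    obtain ⟨t, ht⟩ := hd
    refine hx t ?_
    have h2 : g' *ᵥ x = X *ᵥ (Y *ᵥ x) := by
      rw [mulVec_mulVec, hY, mul_nonsing_inv_cancel_left _ _ hXu]
    rw [h2, ht, mulVec_add, mulVec_smul, mulVec_smul, hXe]
  have hY'd : Y'.det = A'.det ^ k := by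
    have h1 : Y.det * A.det = A.det ^ (k + 1) := by
      rw [hY, det_mul, det_nonsing_inv, hXd, hg'0, hg, Ring.inverse_eq_inv, mul_comm (A.det⁻¹),
        mul_assoc, inv_mul_cancel₀ hA0, mul_one]
    have h2 : Y.det = A.det ^ k := mul_right_cancel₀ hA0 (by rw [h1, pow_succ])
    have h3 : Ys.det = A.det ^ k := by rw [hYs, det_reindex_self, h2]
    rw [hcorner, corner_det, hAdet, mul_pow] at h3
    exact mul_left_cancel₀ hμ0 h3
  obtain ⟨l, hl, hlA, hlp, hfix⟩ := inner Y' hY'd hY'ns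
  obtain ⟨b₀, hb₀⟩ := exists_lift_prod hc a l hlA
  obtain ⟨l', hl', hl'p⟩ := hb₀ y fun z hz => by
    rw [hfix c z hz, dotProduct_zero, dotProduct_zero]
  refine ⟨X :: l'.map (fun M => M.reindex e e), ?_, ?_, ?_, ?_⟩
  · rw [List.length_cons, List.length_map, hl'.length_eq, hl]
  · intro M hM
    rcases List.mem_cons.1 hM with rfl | hM
    · exact hX
    · obtain ⟨N, hN, rfl⟩ := List.mem_map.1 hM
      obtain ⟨i, hi', rfl⟩ := List.getElem_of_mem hN
      have h1 := ((List.forall₂_iff_get.1 hl').2 i hi' (hl'.length_eq ▸ hi')).1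
      have h2 := (h1.reindex e).trans (hA.symm one_ne_zero)
      simpa using h2
  · rw [List.prod_cons, prod_reindex, hl'p, hl, hlp, ← hμ, ← hcorner, hYs]
    rw [show (Y.reindex e.symm e.symm).reindex e e = Y by ext i j; simp, hY,
      mul_nonsing_inv_cancel_left _ _ hXu]
  · intro s z hz
    have hz' : (z ∘ e) ∘ Sum.inr = 0 := by
      refine hfix s _ fun B hB => ?_
      obtain ⟨i, hi', rfl⟩ := List.getElem_of_mem hB
      obtain ⟨-, a₁, ha₁⟩ := (List.forall₂_iff_get.1 hl').2 i (hl'.length_eq ▸ hi') hi'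
      have h1 := hz _ (List.mem_cons_of_mem _ (List.mem_map_of_mem
        (f := fun M : Matrix (Fin 1 ⊕ Fin m) (Fin 1 ⊕ Fin m) F => M.reindex e e)
        (List.get_mem l' ⟨i, hl'.length_eq ▸ hi'⟩)))
      rw [ha₁] at h1
      have h2 : corner c a₁ (l.get ⟨i, hi'⟩) *ᵥ (z ∘ e) = s • (z ∘ e) := by
        funext j
        have := congrFun h1 (e j)
        simpa [submatrix_mulVec_equiv] using this
      have h3 := congrArg (fun x : Fin 1 ⊕ Fin m → F => x ∘ Sum.inr) h2
      simp only [corner_mulVec_inr] at h3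
      exact h3
    have hzline : z = z (e (Sum.inl 0)) • e0 := by
      funext i
      obtain ⟨i, rfl⟩ := e.surjective i
      rcases i with i | i
      · rw [Subsingleton.elim i 0]; simp [e0]
      · simpa [e0, e.injective.eq_iff] using congrFun hz' i
    have h1 := hz X List.mem_cons_self
    set z₀ := z (e (Sum.inl 0)) with hz₀
    rw [hzline, mulVec_smul, hXe, hw, smul_smul, smul_smul] at h1
    by_contra hne
    have hz0 : z₀ ≠ 0 := fun h => hne (by rw [hzline, h, zero_smul])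
    refine he01 (μ * z₀⁻¹ * (s * z₀)) ?_
    rw [← smul_smul, ← h1, smul_smul, show μ * z₀⁻¹ * (z₀ * μ⁻¹) = 1 by field_simp, one_smul]

end Cfsg.Agent.CoverPSL
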