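import Cfsg.Agent.Lib.CoverPSL.Three
import Cfsg.Agent.Lib.CoverPSL.SplitPair
import Cfsg.Agent.Lib.CoverPSL.Pseudo

/-!
# A Jordan block of size two and another eigenvalue

For `A = k J₂ ⊕ a ⊕ R` (`a ≠ k`) two factors move determinant between `k J₂` and `a ⊕ R`.
-/

set_option autoImplicit false

namespace Cfsg.Agent.CoverPSL

open Matrix Polynomial Cfsg.Agent.Classical.Thompson

variable {F : Type*} [Field F]

theorem Cov.fromBlocks {ι κ : Type*} [Fintype ι] [DecidableEq ι] [Fintype κ] [DecidableEq κ] {m : ℕ}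
    {U G : Matrix ι ι F} {V H : Matrix κ κ F} (h : Cov m U G) (h' : Cov m V H) :
    Cov m (Matrix.fromBlocks U 0 0 V) (Matrix.fromBlocks G 0 0 H) := by
  obtain ⟨l, rfl, hX, rfl⟩ := h
  obtain ⟨l', hl, hY, rfl⟩ := h'
  induction l generalizing l' with
  | nil =>
    obtain rfl := List.length_eq_zero_iff.1 hl
    exact ⟨[], rfl, by simp, by simp [fromBlocks_one]⟩
  | cons X l ih =>
    obtain ⟨Y, l', rfl⟩ := List.exists_cons_of_length_eq_add_one hl
    obtain ⟨L, hL, hLs, hLp⟩ := ih (fun Z hZ => hX Z (List.mem_cons_of_mem _ hZ)) l' (by simpa using hl)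
      (fun Z hZ => hY Z (List.mem_cons_of_mem _ hZ))
    refine ⟨Matrix.fromBlocks X 0 0 Y :: L, by simp [hL], fun Z hZ => ?_, ?_⟩
    · rcases List.mem_cons.1 hZ with rfl | hZ
      · exact (hX X List.mem_cons_self).fromBlocks (hY Y List.mem_cons_self)
      · exact hLs Z hZ
    · rw [List.prod_cons, hLp, fromBlocks_multiply]
      simp

theorem Cov.reindex {ι κ : Type*} [Fintype ι] [DecidableEq ι] [Fintype κ] [DecidableEq κ] {m : ℕ}
    {A B : Matrix ι ι F} (h : Cov m A B) (e : ι ≃ κ) : Cov m (A.reindex e e) (B.reindex e e) := by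
  obtain ⟨l, hl, hX, rfl⟩ := h
  refine ⟨l.map fun X => X.reindex e e, by rw [List.length_map, hl], fun X hX' => ?_, prod_reindex e l⟩
  obtain ⟨Y, hY, rfl⟩ := List.mem_map.1 hX'
  exact (hX Y hY).reindex e

variable [Fintype F]

/-- Powers of the class of `k J₂`. -/
theorem cov_jord_two (hF : 4 ≤ Fintype.card F) {k : F} (hk : k ≠ 0) : ∀ (j : ℕ),
    ∀ M : Matrix (Fin 2) (Fin 2) F, M.det = k ^ (2 * (2 + j)) → (∀ c : F, M ≠ c • 1) →
      Cov (2 + j) (k • jord F 2) M
  | 0, M, hM, hns => by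
    obtain ⟨L, U, hL, hU, rfl⟩ := sq_jord hF hk M hM fun _ => hns
    simpa using (Cov.single hL).add (Cov.single hU)
  | j + 1, M, hM, hns => by
    have hJd : (k • jord F 2).det = k ^ 2 := by rw [det_smul, jord_det, mul_one, Fintype.card_fin]
    have key : ∀ X : Matrix (Fin 2) (Fin 2) F, Sim X (k • jord F 2) → (∀ c : F, M ≠ c • X) →
        Cov (2 + (j + 1)) (k • jord F 2) M := by
      intro X hX hne
      have hXd : X.det = k ^ 2 := hX.det_eq.trans hJd
      have hXu : IsUnit X.det := by rw [hXd]; exact isUnit_iff_ne_zero.2 (pow_ne_zero _ hk)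
      have h1 := (cov_jord_two hF hk j (M * X⁻¹) (by
        rw [det_mul, det_nonsing_inv, Ring.inverse_eq_inv, hM, hXd,
          show 2 * (2 + (j + 1)) = 2 * (2 + j) + 2 by ring, pow_add, mul_assoc,
          mul_inv_cancel₀ (pow_ne_zero _ hk), mul_one]) fun c hc => hne c (by
        have := congrArg (· * X) hc
        simpa [Matrix.mul_assoc, nonsing_inv_mul _ hXu] using this)).add (Cov.single hX)
      rw [Matrix.mul_assoc, nonsing_inv_mul _ hXu, Matrix.mul_one] at h1
      exact h1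
    by_cases h1 : ∀ c : F, M ≠ c • (k • jord F 2)
    · exact key _ (Sim.refl _) h1
    · push Not at h1
      obtain ⟨c, hc⟩ := h1
      refine key (k • (jord F 2)ᵀ) (sim_scale (jord_transpose_sim 2) k) fun b hb => ?_
      have hc0 : c ≠ 0 := fun h => hns 0 (by rw [hc, h, zero_smul, zero_smul])
      have e := congrFun (congrFun (hc.symm.trans hb) 1) 0
      simp [jord, Cfsg.Agent.Classical.RegularUnipotentConj.shift, hc0, hk] at e

/-- `1` for `k J₂ ⊕ a ⊕ R`, given the remaining factor on `a ⊕ R`. -/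
theorem mix_cov (hF : 4 ≤ Fintype.card F) {r : ℕ} (hr : 2 ≤ r) {k a : F} (hk : k ≠ 0) (ha : a ≠ 0)
    (hak : a ≠ k) {R R' : Matrix (Fin r) (Fin r) F} (hR' : Sim R' R)
    (hdet : k ^ 2 * (a * R.det) = 1)
    (hV : Cov (1 + r) (fromBlocks (a • (1 : Matrix (Fin 1) (Fin 1) F)) 0 0 R)
      (fromBlocks ((((a * R.det) ^ (1 + r) * R.det ^ 2)⁻¹) • (1 : Matrix (Fin 1) (Fin 1) F)) 0 0 (R * R'))⁻¹) :
    Cov (2 + (1 + r)) (fromBlocks (k • jord F 2) 0 0 (fromBlocks (a • (1 : Matrix (Fin 1) (Fin 1) F)) 0 0 R)) 1 := by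
  classical
  have hdR : R.det ≠ 0 := fun h => by rw [h, mul_zero, mul_zero] at hdet; exact zero_ne_one hdet
  set e0 := ((a * R.det) ^ (1 + r) * R.det ^ 2)⁻¹ with he0
  have he00 : e0 ≠ 0 := inv_ne_zero (mul_ne_zero (pow_ne_zero _ (mul_ne_zero ha hdR)) (pow_ne_zero _ hdR))
  have hP : (k ^ 2 * a) ^ 2 / e0 ≠ 0 :=
    div_ne_zero (pow_ne_zero _ (mul_ne_zero (pow_ne_zero _ hk) ha)) he00
  obtain ⟨x, y, hx, hy, hxe, hye, hxy⟩ := exists_two_avoid hF e0 _ hP
  set K : Matrix (Fin 3) (Fin 3) F := !![a, 0, 0; 0, k, 0; 0, k, k] with hK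
  have hKd : K.det = k ^ 2 * a := by simp [hK, det_fin_three]; ring
  have hkry : (kry K ![1, 1, 0]).det ≠ 0 := by
    have e : (kry K ![1, 1, 0]).det = k * (a - k) ^ 2 := by
      simp [kry, hK, det_fin_three, mulVec, dotProduct, Fin.sum_univ_three]
      ring
    rw [e]
    exact mul_ne_zero hk (pow_ne_zero _ (sub_ne_zero.2 hak))
  obtain ⟨T, hTg, hTc, hT⟩ := exists_pair_three hF (by rw [hKd]; exact mul_ne_zero (pow_ne_zero _ hk) ha) hkry
    ![e0, x, y] (fun i => by fin_cases i <;> simp [he00, hx, hy]) ⟨Ne.symm hxe, Ne.symm hye⟩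
    (by
      rw [Fin.prod_univ_three, hKd]
      simp only [Matrix.cons_val_zero, Matrix.cons_val_one, Matrix.cons_val]
      rw [mul_assoc, hxy, mul_div_cancel₀ _ he00])
  set D : Matrix (Fin 3) (Fin 3) F := !![e0, 0, 0; 0, x, 1; 0, 0, y] with hD
  have hDu : D.IsUpperTriangular := by
    intro i j hij
    fin_cases i <;> fin_cases j <;> simp_all [D]
  have hDch : D.charpoly = ∏ i, (X - C (![e0, x, y] i)) := by
    rw [charpoly_of_isUpperTriangular D hDu]
    exact Finset.prod_congr rfl fun i _ => by fin_cases i <;> simp [D]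
  have hDg : Geom1 D := by
    refine geom1_upper hDu (fun i j hi hij => ?_) (fun i j hi hij => ?_) fun i j hi hj => ?_
    · fin_cases i <;> fin_cases j <;> simp_all [D]
    · fin_cases i <;> fin_cases j <;> simp_all [D]
    · fin_cases i <;> fin_cases j <;> simp_all [D, Ne.symm]
  have hsim : Sim D T := geom1_sim 3 D T hDg hTg
    (by rw [hDch]; exact Splits.prod fun i _ => Splits.X_sub_C _)
    (by rw [det_of_isUpperTriangular hDu, Fin.prod_univ_three]; simp [D, he00, hx, hy])
    (hDch.trans hTc.symm)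
  have hKD : Cov 2 K D := hT.cov.conj hsim
  have hRR : Cov 2 R (R * R') := (Cov.single (Sim.refl R)).add (Cov.single hR')
  let σ : Fin 3 ⊕ Fin r ≃ Fin 2 ⊕ (Fin 1 ⊕ Fin r) :=
    { toFun := fun z => match z with
        | Sum.inl 0 => Sum.inr (Sum.inl 0)
        | Sum.inl 1 => Sum.inl 0
        | Sum.inl 2 => Sum.inl 1
        | Sum.inr i => Sum.inr (Sum.inr i)
      invFun := fun z => match z with
        | Sum.inl 0 => Sum.inl 1
        | Sum.inl 1 => Sum.inl 2
        | Sum.inr (Sum.inl _) => Sum.inl 0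
        | Sum.inr (Sum.inr i) => Sum.inr i
      left_inv := fun z => by rcases z with i | i <;> [fin_cases i; skip] <;> rfl
      right_inv := fun z => by
        rcases z with i | i | i
        · fin_cases i <;> rfl
        · rw [Subsingleton.elim i 0]
        · rfl }
  set T2 : Matrix (Fin 2) (Fin 2) F := !![x, 1; 0, y] with hT2
  have hpair : Cov 2 (fromBlocks (k • jord F 2) 0 0 (fromBlocks (a • (1 : Matrix (Fin 1) (Fin 1) F)) 0 0 R))
      (fromBlocks T2 0 0 (fromBlocks (e0 • (1 : Matrix (Fin 1) (Fin 1) F)) 0 0 (R * R'))) := by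
    have h := (hKD.fromBlocks hRR).reindex σ
    convert h using 1
    · ext i j
      rcases i with i | i | i <;> rcases j with j | j | j <;>
        (try fin_cases i) <;> (try fin_cases j) <;>
        simp [σ, K, jord, Cfsg.Agent.Classical.RegularUnipotentConj.shift, Matrix.one_apply]
    · ext i j
      rcases i with i | i | i <;> rcases j with j | j | j <;>
        (try fin_cases i) <;> (try fin_cases j) <;> simp [σ, D, T2, Matrix.one_apply]
  have hT2d : T2.det = (k ^ 2 * a) ^ 2 / e0 := by simp [T2, det_fin_two, hxy]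
  have hT2u : IsUnit T2.det := by rw [hT2d]; exact isUnit_iff_ne_zero.2 hP
  have hU : Cov (1 + r) (k • jord F 2) T2⁻¹ := by
    obtain ⟨j, hj⟩ : ∃ j, 1 + r = 2 + j := ⟨r - 1, by omega⟩
    rw [hj]
    refine cov_jord_two hF hk j _ ?_ fun c hc => ?_
    · rw [det_nonsing_inv, Ring.inverse_eq_inv, hT2d, inv_div, he0, ← hj, pow_mul]
      have e1 : a * R.det = (k ^ 2)⁻¹ := eq_inv_of_mul_eq_one_right hdet
      rw [e1, inv_pow, mul_inv, inv_inv, div_eq_iff (pow_ne_zero _ (mul_ne_zero (pow_ne_zero _ hk) ha))]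
      congr 1
      refine inv_eq_of_mul_eq_one_right ?_
      linear_combination (1 + k ^ 2 * (a * R.det)) * hdet
    · have h1 := congrArg (fun Z => Z * T2) hc
      simp only [nonsing_inv_mul _ hT2u, Matrix.smul_mul, Matrix.one_mul] at h1
      have h2 := congrFun (congrFun h1 0) 1
      simp [T2] at h2
      subst h2
      simp at h1
  have h := hpair.add (hU.fromBlocks hV)
  rw [fromBlocks_multiply] at h
  simp only [Matrix.mul_zero, Matrix.zero_mul, add_zero, zero_add, mul_nonsing_inv _ hT2u] at h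
  have hMd : (fromBlocks (e0 • (1 : Matrix (Fin 1) (Fin 1) F)) 0 0 (R * R')).det ≠ 0 := by
    rw [det_fromBlocks_zero₂₁, det_mul, hR'.det_eq]
    simp [he00, hdR]
  rw [mul_nonsing_inv _ (isUnit_iff_ne_zero.2 hMd), fromBlocks_one] at h
  exact h

end Cfsg.Agent.CoverPSL
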