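import Cfsg.Agent.Lib.CoverPSL.Mix
import Cfsg.Agent.Lib.CoverPSL.Diag

/-!
# Transport of scalar targets from block models
-/

set_option autoImplicit false

namespace Cfsg.Agent.CoverPSL

open Matrix Cfsg.Agent.Classical.Thompson

variable {F : Type*} [Field F] {ι κ : Type*} [Fintype ι] [DecidableEq ι] [Fintype κ] [DecidableEq κ] {n : ℕ}

theorem Cov.cast {m m' : ℕ} {A B : Matrix ι ι F} (h : m = m') (hc : Cov m A B) : Cov m' A B := by
  subst h; exact hc

/-- A spanning family on which `A` acts as `M`. -/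
theorem sim_of_fam {A : Matrix (Fin n) (Fin n) F} (e : ι ≃ Fin n) (M : Matrix ι ι F) (v : ι → Fin n → F)
    (hsp : ∀ x, x ∈ Submodule.span F (Set.range v)) (h : ∀ j, A *ᵥ v j = ∑ i, M i j • v i) :
    Sim A (M.reindex e e) := by
  refine sim_of_vectors (v ∘ e.symm) ?_ fun j => ?_
  · refine linearIndependent_of_top_le_span_of_card_eq_finrank ?_ (by simp)
    rw [EquivLike.range_comp]
    exact fun x _ => hsp x
  · rw [← e.sum_comp]
    simpa using h (e.symm j)

/-- Eigenvectors spanning the space diagonalise. -/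
theorem sim_diag_of_eigen {A : Matrix (Fin n) (Fin n) F}
    (h : ∀ x, x ∈ Submodule.span F {v : Fin n → F | ∃ c : F, A *ᵥ v = c • v}) :
    ∃ d : Fin n → F, Sim A (diagonal d) := by
  classical
  let s : Set (Fin n → F) := {v | ∃ c : F, A *ᵥ v = c • v}
  have hs : ⊤ ≤ Submodule.span F s := fun x _ => h x
  let b := Module.Basis.ofSpan hs
  have hb : ∀ i, b i ∈ s := fun i => Module.Basis.ofSpan_subset hs ⟨i, rfl⟩
  haveI : Fintype _ := FiniteDimensional.fintypeBasisIndex b
  let b' := b.reindex (Fintype.equivFinOfCardEq (n := n) (by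
    rw [← Module.finrank_eq_card_basis b, Module.finrank_pi, Fintype.card_fin]))
  choose d hd using fun i : Fin n => (show b' i ∈ s by rw [Module.Basis.reindex_apply]; exact hb _)
  exact ⟨d, sim_diag_of_span d b' hd b'.span_eq⟩

theorem covS_one_of_eigen {A : Matrix (Fin n) (Fin n) F} (hn : 1 ≤ n) (hA : A.det = 1)
    (h : ∀ x, x ∈ Submodule.span F {v : Fin n → F | ∃ c : F, A *ᵥ v = c • v}) : CovS n A 1 := by
  obtain ⟨d, hd⟩ := sim_diag_of_eigen h
  simpa [hA] using covS_diag hn hd

theorem centFull_smul_one (i0 : ι) (c : F) : CentFull (c • (1 : Matrix ι ι F)) := by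
  intro t _
  refine ⟨diagonal fun i => if i = i0 then t else 1, ?_, by simp⟩
  rw [det_diagonal, Finset.prod_ite_eq']
  simp

theorem CentFull.fromBlocks_left {U : Matrix ι ι F} (h : CentFull U) (V : Matrix κ κ F) :
    CentFull (fromBlocks U 0 0 V) := by
  intro t ht
  obtain ⟨Z, hZ, e⟩ := h t ht
  exact ⟨fromBlocks Z 0 0 1, by simp [hZ], by simp [fromBlocks_multiply, e]⟩

theorem CentFull.fromBlocks_right {V : Matrix κ κ F} (h : CentFull V) (U : Matrix ι ι F) :
    CentFull (fromBlocks U 0 0 V) := by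
  intro t ht
  obtain ⟨Z, hZ, e⟩ := h t ht
  exact ⟨fromBlocks 1 0 0 Z, by simp [hZ], by simp [fromBlocks_multiply, e]⟩

theorem CentFull.reindex {A : Matrix ι ι F} (h : CentFull A) (e : ι ≃ κ) : CentFull (A.reindex e e) := by
  intro t ht
  obtain ⟨Z, hZ, he⟩ := h t ht
  refine ⟨Z.reindex e e, by rw [det_reindex_self, hZ], ?_⟩
  simp [submatrix_mul_equiv, he]

theorem reindex_smul_one (a : F) (e : ι ≃ κ) :
    (a • (1 : Matrix ι ι F)).reindex e e = a • 1 := by
  ext i j
  simp [Matrix.one_apply]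

/-- From a model to the matrix itself. -/
theorem covS_one_of_model {A : Matrix (Fin n) (Fin n) F} {M : Matrix ι ι F} (e : ι ≃ Fin n)
    (hsim : Sim A (M.reindex e e)) (hf : CentFull M) (h : Cov n M 1) : CovS n A 1 := by
  refine ((hf.reindex e).sim hsim).covS ?_
  have h1 := h.reindex e
  rw [show (1 : Matrix ι ι F).reindex e e = 1 by simp] at h1
  exact h1.congr hsim.symm

/-- Inverses of non-scalar matrices are non-scalar. -/
theorem inv_ne_smul_one {G : Matrix ι ι F} (hG : G.det ≠ 0) (hns : ∀ c : F, G ≠ c • 1) :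
    ∀ c : F, G⁻¹ ≠ c • 1 := by
  intro c hc
  have h1 := mul_nonsing_inv G (isUnit_iff_ne_zero.2 hG)
  rw [hc, Matrix.mul_smul, Matrix.mul_one] at h1
  rcases eq_or_ne c 0 with rfl | hc0
  · rw [zero_smul] at h1
    exact hns 0 (by rw [← Matrix.mul_one G, ← h1, Matrix.mul_zero, zero_smul])
  · exact hns c⁻¹ (by rw [← h1, smul_smul, inv_mul_cancel₀ hc0, one_smul])

end Cfsg.Agent.CoverPSL
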