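import Cfsg.Agent.Lib.CoverPSL.Basic

/-!
# Products of conjugates without a common eigenvector for a common eigenvalue
-/

set_option autoImplicit false

namespace Cfsg.Agent.CoverPSL

open Matrix Cfsg.Agent.Classical.Thompson

variable {F : Type*} [Field F] {ι : Type*} [Fintype ι] [DecidableEq ι]

/-- `B` is a product of `m` conjugates of `A` with no common eigenvector for one eigenvalue. -/
def CovNF (m : ℕ) (A B : Matrix ι ι F) : Prop :=
  ∃ l : List (Matrix ι ι F), l.length = m ∧ (∀ X ∈ l, Sim X A) ∧ l.prod = B ∧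
    ∀ (c : F) (y : ι → F), (∀ X ∈ l, X *ᵥ y = c • y) → y = 0

/-- every eigenspace has codimension at least two -/
def Wide (A : Matrix ι ι F) : Prop := ∀ a : F, 2 ≤ (A - a • 1).rank

theorem CovNF.cov {m : ℕ} {A B : Matrix ι ι F} (h : CovNF m A B) : Cov m A B := by
  obtain ⟨l, hl, hX, hp, -⟩ := h
  exact ⟨l, hl, hX, hp⟩

theorem CovNE.covNF {m : ℕ} {A B : Matrix ι ι F} (h : CovNE m A B) : CovNF m A B := by
  obtain ⟨l, hl, hX, hp, he⟩ := h
  refine ⟨l, hl, hX, hp, fun c y hy => ?_⟩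
  by_contra hne
  obtain ⟨X, hXl, hXy⟩ := he y hne
  exact hXy c (hy X hXl)

theorem Cov.covNF {m : ℕ} (hm : 1 ≤ m) {A B : Matrix ι ι F} (h : Cov m A B)
    (hA : ∀ y : ι → F, y ≠ 0 → ∀ c : F, A *ᵥ y ≠ c • y) : CovNF m A B :=
  (h.covNE hm hA).covNF

end Cfsg.Agent.CoverPSL
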