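import Cfsg.Agent.Lib.CoverPSL.Four
import Cfsg.Agent.Lib.CoverPSL.ThreeS
import Cfsg.Agent.Lib.CoverPSL.Line

/-!
# Non-scalar targets

Every non-scalar matrix of the right determinant is a product of `n` conjugates of a matrix all of whose
eigenspaces have codimension at least two: induction on `n` along eigenvectors with wide quotient.
-/

set_option autoImplicit false

namespace Cfsg.Agent.CoverPSL

open Matrix Cfsg.Agent.Classical.Thompson

variable {F : Type*} [Field F]

theorem CovS.cast {ι : Type*} [Fintype ι] [DecidableEq ι] {m m' : ℕ} {A B : Matrix ι ι F} (h : m = m')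
    (hc : CovS m A B) : CovS m' A B := by subst h; exact hc

theorem CovNF.cast {ι : Type*} [Fintype ι] [DecidableEq ι] {m m' : ℕ} {A B : Matrix ι ι F} (h : m = m')
    (hc : CovNF m A B) : CovNF m' A B := by subst h; exact hc

variable [Fintype F]

/-- what is proved for every wide matrix -/
def NonScalarGoal {n : ℕ} (A : Matrix (Fin n) (Fin n) F) : Prop :=
  ∀ B : Matrix (Fin n) (Fin n) F, B.det = A.det ^ n → (∀ c : F, B ≠ c • 1) → CovS n A B ∧ CovNF n A B

theorem nonScalar_of (hF : 4 ≤ Fintype.card F)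
    (geo : ∀ (k : ℕ) (A : Matrix (Fin k) (Fin k) F), 4 ≤ k → Geom1 A → A.det ≠ 0 →
      ∀ B : Matrix (Fin k) (Fin k) F, B.det = A.det ^ 4 → (∀ c : F, B ≠ c • 1) → CovS 4 A B)
    (spec : ∀ A : Matrix (Fin 4) (Fin 4) F, A.det ≠ 0 → Special A →
      ∀ B : Matrix (Fin 4) (Fin 4) F, B.det = A.det ^ 4 → (∀ c : F, B ≠ c • 1) → CovS 4 A B) :
    ∀ (n : ℕ), 3 ≤ n → ∀ A : Matrix (Fin n) (Fin n) F, A.det ≠ 0 → Wide A → NonScalarGoal A := by
  classical
  intro n
  induction n using Nat.strong_induction_on with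
  | _ n ih =>
    intro hn A hA hw B hB hns
    rcases eq_or_lt_of_le hn with rfl | hn4
    · obtain ⟨v, hv⟩ := exists_kry_of_wide hF hw
      exact ⟨covS_three hF hA hv hB hns, covNF_three hF hA hw hB hns⟩
    by_cases hs : Special A
    · obtain rfl : n = 4 := hs.1
      exact ⟨spec A hA hs B hB hns, covNF_four_special hF hA hs hB hns⟩
    have hAns : ∀ c : F, A ≠ c • 1 := fun c h => by
      have := hw c
      rw [h, sub_self, rank_zero] at this
      omega
    by_cases hev : ∃ (c : F) (v : Fin n → F), v ≠ 0 ∧ A *ᵥ v = c • v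
    · obtain ⟨c, v, hv, hAv⟩ := hev
      obtain ⟨m, rfl⟩ : ∃ m, n = 1 + m := ⟨n - 1, by omega⟩
      obtain ⟨c', a, A', hw', hsim⟩ := exists_split (by omega) hw hs hv hAv
      obtain ⟨u, hu⟩ := exists_goodVec (by omega) (by omega) hw hs
      have hA' : A'.det ≠ 0 := fun h => hA (by
        rw [Sim.det_eq (hsim.sim one_ne_zero), det_reindex_self, corner_det, h, mul_zero])
      have h1 := step (by omega) hA hsim hu m
        (fun B' hB' hns' => (ih m (by omega) (by omega) A' hA' hw' B' hB' hns').2)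
        (g := B) (hB.trans (congrArg (A.det ^ ·) (Nat.add_comm 1 m))) hns
      exact ⟨CovS.cast (Nat.add_comm m 1) h1.covS, CovNF.cast (Nat.add_comm m 1) h1.covNF⟩
    · push Not at hev
      have hg : Geom1 A := fun c v w hv _ hv0 => absurd hv (hev c v hv0)
      have h4 := geo n A (by omega) hg hA
      have hcov : CovS n A B := by
        rcases eq_or_lt_of_le (show 4 ≤ n by omega) with rfl | h5
        · exact h4 B hB hns
        · exact CovS.pad_le (by omega) hA hAns h4 h5 hB
      exact ⟨hcov, hcov.cov.covNF (by omega) fun y hy c => hev c y hy⟩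

end Cfsg.Agent.CoverPSL
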