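import Cfsg.Agent.Lib.Classical.Thompson.Hess
import Mathlib.LinearAlgebra.Matrix.Charpoly.Minpoly
import Mathlib.LinearAlgebra.Matrix.Transvection

/-!
# Products of two cyclic matrices

If `H` is Hessenberg and `U` is upper triangular then `U * H` is Hessenberg, and a change of its
first row realises every monic polynomial with the right constant term.  So a cyclic class times a
cyclic class contains a triangular matrix with any prescribed diagonal (modified, if one likes, by
one elementary matrix at the bottom); the determinant of the conjugating matrices is kept track of.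
-/

set_option autoImplicit false

namespace Cfsg.Agent.CoverPSL

open Matrix Polynomial Cfsg.Agent.Classical.Thompson

variable {F : Type*} [Field F]

/-- `M` is conjugate to `N` by a matrix of determinant `δ`. -/
def SimD {ι : Type*} [Fintype ι] [DecidableEq ι] (δ : F) (M N : Matrix ι ι F) : Prop :=
  ∃ P : Matrix ι ι F, P.det = δ ∧ M * P = P * N

theorem SimD.refl {ι : Type*} [Fintype ι] [DecidableEq ι] (M : Matrix ι ι F) : SimD 1 M M :=
  ⟨1, det_one, by simp⟩

theorem SimD.trans {ι : Type*} [Fintype ι] [DecidableEq ι] {δ ε : F} {M N K : Matrix ι ι F}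
    (h : SimD δ M N) (h' : SimD ε N K) : SimD (δ * ε) M K := by
  obtain ⟨P, hP, e⟩ := h
  obtain ⟨Q, hQ, e'⟩ := h'
  refine ⟨P * Q, by rw [det_mul, hP, hQ], ?_⟩
  rw [← Matrix.mul_assoc, e, Matrix.mul_assoc, e', Matrix.mul_assoc]

theorem SimD.symm {ι : Type*} [Fintype ι] [DecidableEq ι] {δ : F} (hδ : δ ≠ 0) {M N : Matrix ι ι F}
    (h : SimD δ M N) : SimD δ⁻¹ N M := by
  obtain ⟨P, hP, e⟩ := h
  have hu : IsUnit P.det := by rw [hP]; exact isUnit_iff_ne_zero.2 hδ
  refine ⟨P⁻¹, by rw [det_nonsing_inv, hP, Ring.inverse_eq_inv], ?_⟩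
  calc N * P⁻¹ = P⁻¹ * (P * N) * P⁻¹ := by rw [← Matrix.mul_assoc, nonsing_inv_mul _ hu, Matrix.one_mul]
    _ = P⁻¹ * M := by rw [← e, Matrix.mul_assoc, Matrix.mul_assoc, mul_nonsing_inv _ hu, Matrix.mul_one]

theorem SimD.sim {ι : Type*} [Fintype ι] [DecidableEq ι] {δ : F} (hδ : δ ≠ 0) {M N : Matrix ι ι F}
    (h : SimD δ M N) : Sim M N := by
  obtain ⟨P, hP, e⟩ := h
  have hu : IsUnit P.det := by rw [hP]; exact isUnit_iff_ne_zero.2 hδ
  exact ⟨P, P⁻¹, mul_nonsing_inv _ hu, by rw [← e, Matrix.mul_assoc, mul_nonsing_inv _ hu, Matrix.mul_one]⟩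

theorem Sim.charpoly_eq {ι : Type*} [Fintype ι] [DecidableEq ι] {M N : Matrix ι ι F} (h : Sim M N) :
    M.charpoly = N.charpoly := by
  obtain ⟨P, Q, hPQ, rfl⟩ := h
  have hQP : Q * P = 1 := mul_eq_one_comm.1 hPQ
  rw [charpoly_mul_comm, ← Matrix.mul_assoc, hQP, Matrix.one_mul]

variable {k : ℕ}

theorem compMat_charpoly (f : F[X]) (hf : f.Monic) (hd : f.natDegree = k) :
    (compMat f hf hd).charpoly = f := by
  subst hd
  have h := charpoly_leftMulMatrix (AdjoinRoot.powerBasis' hf)
  simp only [AdjoinRoot.powerBasis'_gen, AdjoinRoot.minpoly_root hf.ne_zero, hf.leadingCoeff, inv_one,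
    map_one, mul_one] at h
  have e : (AdjoinRoot.powerBasis' hf).basis.reindex (finCongr (Eq.refl (AdjoinRoot.powerBasis' hf).dim)) =
      (AdjoinRoot.powerBasis' hf).basis := by
    ext i; simp
  rw [compMat]
  exact (congrArg (fun B => (Algebra.leftMulMatrix B (AdjoinRoot.root f)).charpoly) e).trans h

theorem hess_charpoly {A : Matrix (Fin k) (Fin k) F} (hA : IsHess A) :
    A.charpoly = hessPoly A k := by
  rw [Sim.charpoly_eq (hess_sim hA), compMat_charpoly]

/-- A unit Hessenberg matrix is conjugate to the companion matrix by a matrix of determinant one. -/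
theorem hess_simD {A : Matrix (Fin k) (Fin k) F} (hA : IsHess A) (f : F[X]) (hf : f.Monic)
    (hd : f.natDegree = k) (hfA : A.charpoly = f) : SimD 1 A (compMat f hf hd) := by
  classical
  rw [hess_charpoly hA] at hfA
  subst hfA
  set f := hessPoly A k
  set b := (AdjoinRoot.powerBasis' hf).basis.reindex (finCongr hd) with hb
  let T : Matrix (Fin k) (Fin k) F := Matrix.of fun i j => (hessPoly A j.val).coeff i.val
  have hrepr : ∀ (j i : Fin k), b.repr (AdjoinRoot.mk f (hessPoly A j.val)) i = T i j := by
    intro j i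
    rw [hb, Module.Basis.repr_reindex_apply]
    change (AdjoinRoot.modByMonicHom hf (AdjoinRoot.mk f (hessPoly A j.val))).coeff _ = _
    rw [AdjoinRoot.modByMonicHom_mk, (modByMonic_eq_self_iff hf).2]
    · rfl
    · rw [degree_eq_natDegree (hessPoly_isMonic A j.2.le).ne_zero, degree_eq_natDegree hf.ne_zero,
        hessPoly_natDegree A j.2.le, hd]
      exact_mod_cast j.2
  have hT : T.det = 1 := by
    rw [det_of_isUpperTriangular]
    · exact Finset.prod_eq_one fun i _ => (hessPoly_monic A i.val i.2.le).2
    · intro i j hij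
      exact coeff_eq_zero_of_natDegree_lt (by rw [hessPoly_natDegree A j.2.le]; exact hij)
  have key : compMat f hf hd * T = T * A := by
    ext i j
    have h1 : (compMat f hf hd * T) i j =
        b.repr (AdjoinRoot.root f * AdjoinRoot.mk f (hessPoly A j.val)) i := by
      rw [← Algebra.leftMulMatrix_mulVec_repr b, Matrix.mul_apply]
      simp only [Matrix.mulVec, dotProduct, ← hrepr, compMat, hb]
    have h2 : AdjoinRoot.root f * AdjoinRoot.mk f (hessPoly A j.val) =
        ∑ l : Fin k, A l j • AdjoinRoot.mk f (hessPoly A l.val) := by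
      have h3 := congrArg (AdjoinRoot.mk f) (hessPoly_col hA j)
      rw [map_sum, map_sub, map_mul, AdjoinRoot.mk_X,
        show AdjoinRoot.mk f (if j.val + 1 < k then 0 else hessPoly A k) = 0 by
          split_ifs
          · exact map_zero _
          · exact AdjoinRoot.mk_self, sub_zero] at h3
      rw [← h3]
      refine Finset.sum_congr rfl fun l _ => ?_
      rw [Algebra.smul_def, map_mul, AdjoinRoot.algebraMap_eq, AdjoinRoot.mk_C]
    rw [h1, h2, map_sum, Finsupp.finset_sum_apply, Matrix.mul_apply]
    refine Finset.sum_congr rfl fun l _ => ?_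
    rw [map_smul, Finsupp.smul_apply, hrepr, smul_eq_mul, mul_comm]
  simpa using (SimD.symm one_ne_zero ⟨T, hT, key⟩)

/-- upper Hessenberg with non-zero subdiagonal -/
def IsHessS (A : Matrix (Fin k) (Fin k) F) : Prop :=
  ∀ i j : Fin k, (j.val + 1 < i.val → A i j = 0) ∧ (j.val + 1 = i.val → A i j ≠ 0)

/-- the `j`-th subdiagonal entry -/
def sub (A : Matrix (Fin k) (Fin k) F) (j : ℕ) : F :=
  if h : j + 1 < k then A ⟨j + 1, h⟩ ⟨j, by omega⟩ else 1

/-- the weight: determinant of the diagonal matrix normalising the subdiagonal -/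
def weight (A : Matrix (Fin k) (Fin k) F) : F :=
  ∏ i : Fin k, ∏ j ∈ Finset.range i.val, sub A j

theorem sub_ne_zero' {A : Matrix (Fin k) (Fin k) F} (hA : IsHessS A) (j : ℕ) : sub A j ≠ 0 := by
  rw [sub]
  split_ifs with h
  · exact (hA ⟨j + 1, h⟩ ⟨j, by omega⟩).2 rfl
  · exact one_ne_zero

theorem weight_ne_zero {A : Matrix (Fin k) (Fin k) F} (hA : IsHessS A) : weight A ≠ 0 :=
  Finset.prod_ne_zero_iff.2 fun _ _ => Finset.prod_ne_zero_iff.2 fun j _ => sub_ne_zero' hA j

/-- A change of the first row realises every polynomial with the right constant term. -/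
theorem exists_update_left [Finite F] {M : Matrix (Fin k) (Fin k) F} (hM : IsHessS M) (hk : 1 ≤ k)
    (f : F[X]) (hf : f.Monic) (hd : f.natDegree = k) (hdet : (compMat f hf hd).det = M.det) :
    ∃ r : ℕ → F, SimD (weight M) ((1 + upd 1 r) * M) (compMat f hf hd) := by
  classical
  let D : ℕ → F := fun i => ∏ j ∈ Finset.range i, sub M j
  have hD : ∀ i, D i ≠ 0 := fun i => Finset.prod_ne_zero_iff.2 fun j _ => sub_ne_zero' hM j
  let Dm : Matrix (Fin k) (Fin k) F := diagonal fun i => D i.val
  let A : Matrix (Fin k) (Fin k) F := Matrix.of fun i j => M i j * D j.val / D i.val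
  have hA : IsHess A := by
    intro i j
    refine ⟨fun h => by simp [A, (hM i j).1 h], fun h => ?_⟩
    have e : D i.val = D j.val * M i j := by
      simp only [D, ← h, Finset.prod_range_succ]
      congr 1
      rw [sub, dif_pos (by omega)]
      congr 1
      exact Fin.ext h
    simp only [A, Matrix.of_apply, e]
    field_simp [hD j.val, (hM i j).2 h]
  have hDA : M * Dm = Dm * A := by
    ext i j
    simp only [Dm, A, mul_diagonal, diagonal_mul, Matrix.of_apply]
    field_simp [hD i.val]
  have hDdet : Dm.det = weight M := by simp [Dm, D, weight]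
  have hAdet : A.det = M.det := by
    have h := congrArg Matrix.det hDA
    rw [det_mul, det_mul, mul_comm] at h
    exact (mul_left_cancel₀ (by rw [hDdet]; exact weight_ne_zero hM) h).symm
  obtain ⟨r, hr⟩ := exists_update hA 1 (Or.inl ⟨rfl, hk⟩) f hf hd (hdet.trans hAdet.symm)
  have h1 : SimD 1 (A * (1 + upd 1 r)) (compMat f hf hd) :=
    hess_simD (isHess_update hA 1 le_rfl r) f hf hd (by rw [Sim.charpoly_eq hr, compMat_charpoly])
  have h2 : SimD 1 ((1 + upd 1 r) * A) (A * (1 + upd 1 r)) :=
    ⟨1 + upd 1 r, det_one_add_upd 1 le_rfl r, by simp [Matrix.mul_assoc]⟩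
  refine ⟨fun m => r m * D 0 / D (m + 1), ?_⟩
  have h3 : SimD (weight M) ((1 + upd 1 fun m => r m * D 0 / D (m + 1)) * M) ((1 + upd 1 r) * A) := by
    refine ⟨Dm, hDdet, ?_⟩
    have e : (1 + upd 1 fun m => r m * D 0 / D (m + 1) : Matrix (Fin k) (Fin k) F) * Dm =
        Dm * (1 + upd 1 r) := by
      rw [Matrix.add_mul, Matrix.mul_add, Matrix.one_mul, Matrix.mul_one]
      congr 1
      ext i j
      simp only [Dm, mul_diagonal, diagonal_mul, upd, Matrix.of_apply]
      by_cases h : i.val = 0 ∧ 1 ≤ j.val
      · rw [if_pos h, if_pos h, h.1, Nat.sub_add_cancel h.2]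
        field_simp [hD j.val]
      · rw [if_neg h, if_neg h]
        simp
    rw [Matrix.mul_assoc, hDA, ← Matrix.mul_assoc, e, Matrix.mul_assoc]
  simpa using h3.trans (h2.trans h1)

/-- The companion shape: only the first row and the subdiagonal are non-zero. -/
theorem exists_companion [Finite F] (hk : 2 ≤ k) (f : F[X]) (hf : f.Monic) (hd : f.natDegree = k)
    (hf0 : f.coeff 0 ≠ 0) (σ : F) (hσ : σ ≠ 0) :
    ∃ H : Matrix (Fin k) (Fin k) F, IsHessS H ∧ SimD σ H (compMat f hf hd) ∧
      ∀ i j : Fin k, i.val ≠ 0 → i.val ≠ j.val + 1 → H i j = 0 := by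
  classical
  have hdet0 : (compMat f hf hd).det ≠ 0 := by
    rw [compMat_det]; exact mul_ne_zero (pow_ne_zero _ (neg_ne_zero.2 one_ne_zero)) hf0
  let perm : Equiv.Perm (Fin k) := (finRotate k).symm
  let s : Fin k → F := fun j => if j.val + 2 = k then σ else 1
  let last : Fin k := ⟨k - 1, by omega⟩
  have hs : ∀ j, s j ≠ 0 := fun j => by simp only [s]; split_ifs <;> simp [hσ]
  let ε : F := ((Equiv.Perm.sign perm : ℤ) : F) * ∏ j ∈ Finset.univ.erase last, s j
  have hε : ε ≠ 0 := mul_ne_zero (by rcases Int.units_eq_one_or (Equiv.Perm.sign perm) with h | h <;> simp [h])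
    (Finset.prod_ne_zero_iff.2 fun j _ => hs j)
  let d : Fin k → F := Function.update s last ((compMat f hf hd).det / ε)
  let M : Matrix (Fin k) (Fin k) F := perm.permMatrix F * diagonal d
  have hentry : ∀ i j, M i j = if perm i = j then d j else 0 := by
    intro i j
    simp [M, mul_diagonal, Equiv.Perm.permMatrix, PEquiv.toMatrix_apply, eq_comm]
  have hrot : ∀ i j : Fin k, j.val + 1 = i.val → perm i = j := by
    intro i j h
    rw [Equiv.symm_apply_eq]
    obtain ⟨m, rfl⟩ : ∃ m, k = m + 1 := ⟨k - 1, by omega⟩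
    rw [finRotate_succ_apply]
    ext
    rw [Fin.val_add_one_of_lt (by rw [Fin.lt_def, Fin.val_last]; omega), h]
  have hzero : ∀ i j : Fin k, i.val ≠ 0 → i.val ≠ j.val + 1 → M i j = 0 := by
    intro i j hi hij
    rw [hentry, if_neg]
    intro h
    have := hrot i ⟨i.val - 1, by omega⟩ (by simp; omega)
    rw [h] at this
    exact hij (by rw [this]; simp; omega)
  have hsubd : ∀ i j : Fin k, j.val + 1 = i.val → M i j = s j := by
    intro i j h
    rw [hentry, if_pos (hrot i j h)]
    exact Function.update_of_ne (fun e => by have := congrArg Fin.val e; simp [last] at this; omega) _ _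
  have hMh : IsHessS M := fun i j =>
    ⟨fun h => hzero i j (by omega) (by omega), fun h => by rw [hsubd i j h]; exact hs j⟩
  have hMdet : M.det = (compMat f hf hd).det := by
    rw [det_mul, det_diagonal, Matrix.det_permutation, ← Finset.mul_prod_erase _ _ (Finset.mem_univ last)]
    rw [Finset.prod_congr rfl fun j hj => Function.update_of_ne (Finset.ne_of_mem_erase hj) _ _]
    simp only [d, Function.update_self]
    have e : ε = ((Equiv.Perm.sign perm : ℤ) : F) * ∏ j ∈ Finset.univ.erase last, s j := rfl
    rw [div_mul_eq_mul_div, mul_div_assoc']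
    rw [div_eq_iff hε, e]
    ring
  obtain ⟨r, hr⟩ := exists_update_left hMh (by omega) f hf hd hMdet.symm
  have hrow : ∀ i j : Fin k, i.val ≠ 0 → ((1 + upd 1 r) * M : Matrix (Fin k) (Fin k) F) i j = M i j := by
    intro i j hi
    rw [Matrix.add_mul, Matrix.one_mul, Matrix.add_apply, add_eq_left, Matrix.mul_apply]
    refine Finset.sum_eq_zero fun l _ => ?_
    simp [upd, hi]
  refine ⟨(1 + upd 1 r) * M, fun i j => ⟨fun h => ?_, fun h => ?_⟩, ?_, fun i j hi hij => ?_⟩
  · rw [hrow i j (by omega)]; exact (hMh i j).1 h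
  · rw [hrow i j (by omega)]; exact (hMh i j).2 h
  · have hw : weight M = σ := by
      rw [weight, Finset.prod_eq_single last]
      · rw [Finset.prod_eq_single (k - 2)]
        · rw [sub, dif_pos (by omega), hsubd _ _ (by simp)]
          simp [s]; omega
        · intro j hj hne
          simp [last] at hj
          rw [sub, dif_pos (by omega), hsubd _ _ (by simp)]
          simp [s]; omega
        · intro h; simp [last] at h; omega
      · intro i _ hi
        refine Finset.prod_eq_one fun j hj => ?_
        have : i.val ≠ k - 1 := fun e => hi (Fin.ext e)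
        simp at hj
        rw [sub, dif_pos (by omega), hsubd _ _ (by simp)]
        simp [s]; omega
      · simp
    rw [← hw]; exact hr
  · rw [hrow i j hi]; exact hzero i j hi hij

/-- the diagonal weight of an upper triangular matrix -/
def dweight (U : Matrix (Fin k) (Fin k) F) : F :=
  ∏ i : Fin k, ∏ j ∈ Finset.range i.val, if h : j + 1 < k then U ⟨j + 1, h⟩ ⟨j + 1, h⟩ else 1

/-- The key step: `T = (1 + upd w) * E * U` times a companion shape lies in the class of any monic
polynomial with the right determinant. -/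
theorem exists_pair [Finite F] (hk : 3 ≤ k) (f : F[X]) (hf : f.Monic) (hd : f.natDegree = k)
    {U H : Matrix (Fin k) (Fin k) F} (hU : U.IsUpperTriangular) (hU0 : ∀ i, U i i ≠ 0)
    (hH : IsHessS H) (hHc : ∀ i j : Fin k, i.val ≠ 0 → i.val ≠ j.val + 1 → H i j = 0) (τ : F)
    (hdet : (compMat f hf hd).det = U.det * H.det) :
    ∃ w : ℕ → F, SimD (dweight U * weight H)
      ((1 + upd 1 w) * transvection (⟨k - 1, by omega⟩ : Fin k) ⟨k - 2, by omega⟩ τ * U * H)
      (compMat f hf hd) := by
  classical
  set b : Fin k := ⟨k - 1, by omega⟩ with hb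
  set a : Fin k := ⟨k - 2, by omega⟩ with ha
  have hab : b ≠ a := fun h => by have := congrArg Fin.val h; simp [hb, ha] at this; omega
  set E := transvection b a τ with hE
  have hEdet : E.det = 1 := det_transvection_of_ne b a hab τ
  set M := U * H * E with hMdef
  have hUH : ∀ i j : Fin k, j.val + 1 ≤ i.val →
      (U * H) i j = if j.val + 1 = i.val then U i i * H i j else 0 := by
    intro i j h
    rw [Matrix.mul_apply, Finset.sum_eq_single i]
    · split_ifs with h'
      · rfl
      · rw [(hH i j).1 (by omega), mul_zero]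
    · intro l _ hl
      rcases Nat.lt_or_gt_of_ne (fun e => hl (Fin.ext e)) with h' | h'
      · rw [hU h', zero_mul]
      · rw [(hH l j).1 (by omega), mul_zero]
    · simp
  have hbb : (U * H) b b = 0 := by
    rw [Matrix.mul_apply]
    refine Finset.sum_eq_zero fun l _ => ?_
    by_cases hl : l = b
    · subst hl
      rw [hHc b b (by simp [hb]; omega) (by omega), mul_zero]
    · have : l.val < b.val := by
        have := l.2
        have : l.val ≠ b.val := fun e => hl (Fin.ext e)
        simp [hb] at *; omega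
      rw [hU this, zero_mul]
  have hM : ∀ i j : Fin k, j.val + 1 ≤ i.val → M i j = (U * H) i j := by
    intro i j h
    by_cases hj : j = a
    · have hib : i = b := Fin.ext (by have := i.2; simp [hj, ha] at h; simp [hb]; omega)
      rw [hMdef, hE, hj, mul_transvection_apply_same, hib, hbb, mul_zero, add_zero]
    · rw [hMdef, hE, mul_transvection_apply_of_ne _ _ _ _ hj]
  have hMh : IsHessS M := fun i j =>
    ⟨fun h => by rw [hM i j (by omega), hUH i j (by omega), if_neg (by omega)],
      fun h => by rw [hM i j (by omega), hUH i j (by omega), if_pos h]; exact mul_ne_zero (hU0 i) ((hH i j).2 h)⟩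
  have hweight : weight M = dweight U * weight H := by
    rw [weight, dweight, weight, ← Finset.prod_mul_distrib]
    refine Finset.prod_congr rfl fun i _ => ?_
    rw [← Finset.prod_mul_distrib]
    refine Finset.prod_congr rfl fun j hj => ?_
    have hjk : j + 1 < k := by have := i.2; simp at hj; omega
    rw [sub, sub, dif_pos hjk, dif_pos hjk, dif_pos hjk, hM _ _ (by simp), hUH _ _ (by simp), if_pos rfl]
  obtain ⟨r, hr⟩ := exists_update_left hMh (by omega) f hf hd (by
    rw [hMdef, det_mul, det_mul, hEdet, mul_one, hdet])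
  rw [hweight] at hr
  let w : ℕ → F := fun m => r m - if m + 1 = a.val then τ * r (b.val - 1) else 0
  refine ⟨w, ?_⟩
  have e : (1 + upd 1 w) * E = E * (1 + upd 1 r) := by
    rw [Matrix.add_mul, Matrix.mul_add, Matrix.one_mul, Matrix.mul_one]
    congr 1
    ext i j
    by_cases hi : i.val = 0
    · have hib : i ≠ b := fun h => by have := congrArg Fin.val h; simp [hb] at this; omega
      rw [hE, transvection_mul_apply_of_ne _ _ _ _ hib]
      by_cases hj : j = a
      · rw [hj, mul_transvection_apply_same]
        simp [upd, hi, w, show 1 ≤ a.val by simp [ha]; omega, show 1 ≤ b.val by simp [hb]; omega,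
          show a.val - 1 + 1 = a.val by simp [ha]; omega,
          show ¬ b.val = a.val by simp [ha, hb]; omega]
      · rw [mul_transvection_apply_of_ne _ _ _ _ hj]
        have hja : j.val ≠ a.val := fun e => hj (Fin.ext e)
        simp only [upd, Matrix.of_apply, hi, true_and]
        by_cases h : 1 ≤ j.val
        · rw [if_pos h, if_pos h]
          simp only [w]
          rw [if_neg (by omega), sub_zero]
        · simp [h]
    · have hz : upd 1 w i = 0 := funext fun l => by simp [upd, hi]
      rw [Matrix.mul_apply, Finset.sum_eq_zero fun l _ => by rw [hz]; simp]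
      by_cases hib : i = b
      · rw [hE, hib, transvection_mul_apply_same]
        have hb0 : b.val ≠ 0 := by simp [hb]; omega
        have ha0 : a.val ≠ 0 := by simp [ha]; omega
        simp [upd, hb0, ha0]
      · rw [hE, transvection_mul_apply_of_ne _ _ _ _ hib]
        simp [upd, hi]
  have h1 : SimD 1 ((1 + upd 1 w) * E * U * H) ((1 + upd 1 r) * M) := by
    refine ⟨E, hEdet, ?_⟩
    rw [hMdef, e]
    simp only [Matrix.mul_assoc]
  simpa using h1.trans hr

end Cfsg.Agent.CoverPSL
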