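import Cfsg.Agent.Lib.CoverPSL.Lift2
import Cfsg.Agent.Lib.CoverPSL.Line

/-!
# Scalar targets: two factors and a plane of eigenvectors

If the class has five independent vectors `w, Aw, A²w, w', Aw'` and a plane of eigenvectors with a
wide quotient, every scalar matrix of the right determinant is a product of `n` conjugates.
-/

set_option autoImplicit false

namespace Cfsg.Agent.CoverPSL

open Matrix Cfsg.Agent.Classical.Thompson

variable {F : Type*} [Field F] {n k : ℕ}

theorem span_fam_le {S : Submodule F (Fin n → F)} {ι : Type*} {v : ι → Fin n → F} (h : ∀ i, v i ∈ S) :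
    Submodule.span F (Set.range v) ≤ S :=
  Submodule.span_le.2 fun _ ⟨i, hi⟩ => hi ▸ h i

/-- `SL` maps independent families to each other, up to a multiple of the last member. -/
theorem exists_fam_map {v v' : Fin (k + 1) → Fin n → F} (h : LinearIndependent F v)
    (h' : LinearIndependent F v') :
    ∃ (P : Matrix (Fin n) (Fin n) F) (s : F), P.det = 1 ∧ s ≠ 0 ∧
      (∀ i : Fin k, P *ᵥ v i.castSucc = v' i.castSucc) ∧ P *ᵥ v (Fin.last k) = s • v' (Fin.last k) := by
  classical
  obtain ⟨E, hE⟩ := Classical.LinearExtend.exists_extend (V := Fin n → F) (V' := Fin n → F) rfl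
    ((Module.Basis.span h).equiv (Module.Basis.span h') (Equiv.refl _))
  have hval : ∀ i, E (v i) = v' i := fun i => by
    have h1 := hE (Module.Basis.span h i)
    rw [Module.Basis.equiv_apply, Equiv.refl_apply, Module.Basis.span_apply, Module.Basis.span_apply] at h1
    exact h1
  set P₁ := LinearMap.toMatrix' E.toLinearMap with hP₁
  have hd : P₁.det ≠ 0 := by
    rw [hP₁, LinearMap.det_toMatrix']
    exact E.isUnit_det'.ne_zero
  have hlast : v' (Fin.last k) ∉ Submodule.span F (Set.range (v' ∘ Fin.castSucc)) := by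
    rw [Set.range_comp]
    exact h'.notMem_span_image (by simp [Fin.castSucc_ne_last])
  obtain ⟨φ, hφx, hφS⟩ := exists_covec hlast
  refine ⟨el (v' (Fin.last k), ((P₁.det⁻¹ - 1) / (φ ⬝ᵥ v' (Fin.last k))) • φ) * P₁, P₁.det⁻¹, ?_,
    inv_ne_zero hd, fun i => ?_, ?_⟩
  · rw [det_mul, el_det, smul_dotProduct, smul_eq_mul, div_mul_cancel₀ _ hφx, add_sub_cancel,
      inv_mul_cancel₀ hd]
  · rw [← mulVec_mulVec, hP₁, LinearMap.toMatrix'_mulVec, LinearEquiv.coe_coe, hval, el_mulVec,
      smul_dotProduct, hφS (v' i.castSucc) (Submodule.subset_span ⟨i, rfl⟩), smul_zero, zero_smul, add_zero]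
  · rw [← mulVec_mulVec, hP₁, LinearMap.toMatrix'_mulVec, LinearEquiv.coe_coe, hval, el_mulVec,
      smul_dotProduct, smul_eq_mul, div_mul_cancel₀ _ hφx, sub_smul, one_smul, add_sub_cancel]

theorem indep_snoc {v : Fin k → Fin n → F} {x : Fin n → F} (hv : LinearIndependent F v)
    (hx : x ∉ Submodule.span F (Set.range v)) : LinearIndependent F (Fin.snoc v x) :=
  linearIndependent_finSnoc.2 ⟨hv, hx⟩

theorem exists_not_mem_two {S T : Submodule F (Fin n → F)} (hS : S ≠ ⊤) (hT : T ≠ ⊤) :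
    ∃ x, x ∉ S ∧ x ∉ T := by
  obtain ⟨a, -, ha⟩ := SetLike.exists_of_lt (lt_of_le_of_ne le_top hS)
  obtain ⟨b, -, hb⟩ := SetLike.exists_of_lt (lt_of_le_of_ne le_top hT)
  by_cases ha' : a ∈ T
  · by_cases hb' : b ∈ S
    · exact ⟨a + b, fun h => ha (by simpa using S.sub_mem h hb'),
        fun h => hb (by simpa using T.sub_mem h ha')⟩
    · exact ⟨b, hb', hb⟩
  · exact ⟨a, ha, ha'⟩

theorem ne_top_of_fam (hk : k < n) (v : Fin k → Fin n → F) : Submodule.span F (Set.range v) ≠ ⊤ := by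
  intro h
  have h1 := finrank_range_le_card (R := F) v
  rw [Set.finrank, h, finrank_top, Module.finrank_pi, Fintype.card_fin, Fintype.card_fin] at h1
  omega

/-- Five independent vectors `w, Aw, w', Aw', A²w`. -/
theorem exists_five [Fintype F] (h3 : 3 ≤ Fintype.card F) (hn : 5 ≤ n) {A : Matrix (Fin n) (Fin n) F}
    (hdeg : ∃ w, LinearIndependent F ![w, A *ᵥ w, A *ᵥ (A *ᵥ w)])
    (hr : ∀ c : F, 3 ≤ (A - c • 1).rank)
    (huniq : ∀ c c' : F, (A - c • 1).rank = 3 → (A - c' • 1).rank = 3 → c = c') :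
    ∃ w w', LinearIndependent F ![w, A *ᵥ w, w', A *ᵥ w', A *ᵥ (A *ᵥ w)] := by
  classical
  have main : ∀ w, LinearIndependent F ![w, A *ᵥ w, A *ᵥ (A *ᵥ w)] →
      (∃ w', LinearIndependent F ![w, A *ᵥ w, w', A *ᵥ w', A *ᵥ (A *ᵥ w)]) ∨
      ∃ c : F, (A - c • 1).rank = 3 ∧ LinearMap.range (A - c • 1).mulVecLin =
        Submodule.span F (Set.range ![w, A *ᵥ w, A *ᵥ (A *ᵥ w)]) := by
    intro w hw
    set U := Submodule.span F (Set.range ![w, A *ᵥ w, A *ᵥ (A *ᵥ w)]) with hU
    by_cases hex : ∃ x, x ∉ U ∧ A *ᵥ x ∉ Submodule.span F (insert x (Set.range ![w, A *ᵥ w, A *ᵥ (A *ᵥ w)]))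
    · obtain ⟨x, hx, hAx⟩ := hex
      refine Or.inl ⟨x, ?_⟩
      have h4 := indep_snoc hw hx
      have h5 : LinearIndependent F (Fin.snoc (Fin.snoc ![w, A *ᵥ w, A *ᵥ (A *ᵥ w)] x) (A *ᵥ x)) := by
        refine indep_snoc h4 ?_
        rwa [Fin.range_snoc]
      convert h5.comp ![0, 1, 3, 4, 2] (by decide) using 1
      funext i
      fin_cases i <;> rfl
    · push Not at hex
      refine Or.inr ?_
      have dec : ∀ x, x ∉ U → ∃ c : F, A *ᵥ x - c • x ∈ U := fun x hx => by
        obtain ⟨c, y, hy, he⟩ := Submodule.mem_span_insert.1 (hex x hx)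
        exact ⟨c, by rw [he, add_sub_cancel_left]; exact hy⟩
      obtain ⟨x₁, hx₁⟩ : ∃ x, x ∉ U := by
        obtain ⟨x, hx, -⟩ := exists_not_mem_two (S := U) (T := U) (ne_top_of_fam (by omega) _) (ne_top_of_fam (by omega) _)
        exact ⟨x, hx⟩
      obtain ⟨c, hc⟩ := dec x₁ hx₁
      have pair : ∀ x y, x ∉ U → y ∉ Submodule.span F {x} ⊔ U → ∀ a b : F,
          A *ᵥ x - a • x ∈ U → A *ᵥ y - b • y ∈ U → a = b := by
        intro x y hx hy a b ha hb
        have hxy : x + y ∉ U := fun h => hy (by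
          have e : y = (x + y) + (-1 : F) • x := by module
          rw [e]
          exact add_mem (Submodule.mem_sup_right h)
            (Submodule.mem_sup_left (Submodule.smul_mem _ _ (Submodule.mem_span_singleton_self x))))
        obtain ⟨d, hd⟩ := dec _ hxy
        have h1 : (a - d) • x + (b - d) • y ∈ U := by
          have := U.sub_mem hd (U.add_mem ha hb)
          rw [mulVec_add] at this
          convert this using 1
          module
        have hbd : b = d := by
          by_contra hne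
          refine hy ?_
          rw [← inv_smul_smul₀ (sub_ne_zero.2 hne) y,
            show (b - d) • y = ((a - d) • x + (b - d) • y) + (d - a) • x by module]
          exact Submodule.smul_mem _ _ (add_mem (Submodule.mem_sup_right h1)
            (Submodule.mem_sup_left (Submodule.smul_mem _ _ (Submodule.mem_span_singleton_self x))))
        subst hbd
        rw [sub_self, zero_smul, add_zero] at h1
        by_contra hne
        exact hx ((U.smul_mem_iff (sub_ne_zero.2 hne)).1 h1)
      have hall : ∀ x, x ∉ U → A *ᵥ x - c • x ∈ U := by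
        intro x hx
        obtain ⟨a, ha⟩ := dec x hx
        have hlt : ∀ z : Fin n → F, Submodule.span F {z} ⊔ U ≠ ⊤ := by
          intro z h
          rw [hU, ← Submodule.span_union, Set.singleton_union, ← Fin.range_snoc] at h
          exact ne_top_of_fam (by omega) _ h
        obtain ⟨y, hy, hy'⟩ := exists_not_mem_two (hlt x₁) (hlt x)
        obtain ⟨b, hb⟩ := dec y fun h => hy (Submodule.mem_sup_right h)
        rw [pair x₁ y hx₁ hy c b hc hb, ← pair x y hx hy' a b ha hb]
        exact ha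
      have hle : LinearMap.range (A - c • 1).mulVecLin ≤ U := by
        rintro _ ⟨x, rfl⟩
        have key : ∀ z, z ∉ U → (A - c • 1) *ᵥ z ∈ U := fun z hz => by
          simpa [sub_mulVec, smul_mulVec] using hall z hz
        by_cases hx : x ∈ U
        · have h1 : x + x₁ ∉ U := fun h => hx₁ (by simpa using U.sub_mem h hx)
          have h2 := U.sub_mem (key _ h1) (key _ hx₁)
          rwa [mulVec_add, add_sub_cancel_right] at h2
        · exact key x hx
      have h1 := Submodule.finrank_mono hle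
      rw [← Matrix.rank, hU, finrank_span_eq_card hw, Fintype.card_fin] at h1
      have h2 : (A - c • 1).rank = 3 := le_antisymm h1 (hr c)
      refine ⟨c, h2, Submodule.eq_of_le_of_finrank_eq hle ?_⟩
      rw [← Matrix.rank, h2, finrank_span_eq_card hw, Fintype.card_fin]
  obtain ⟨w, hw⟩ := hdeg
  rcases main w hw with h | ⟨c, hc, hI⟩
  · exact ⟨w, h⟩
  -- a second triple outside the image
  set N := A - c • 1 with hN
  set I := LinearMap.range N.mulVecLin with hIdef
  have hcomm : ∀ x, A *ᵥ x = N *ᵥ x + c • x := fun x => by simp [N, sub_mulVec, smul_mulVec]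
  have hNI : ∀ x, N *ᵥ x ∈ I := fun x => ⟨x, rfl⟩
  have hwI : w ∈ I := by rw [hI]; exact Submodule.subset_span ⟨0, rfl⟩
  obtain ⟨x, hx⟩ : ∃ x, x ∉ I := by
    by_contra hall
    push Not at hall
    have := Submodule.eq_top_iff'.2 hall
    rw [hIdef] at this
    rw [Matrix.rank, this, finrank_top, Module.finrank_pi, Fintype.card_fin] at hc
    omega
  suffices htri : ∃ z, z ∉ I ∧ LinearIndependent F ![z, N *ᵥ z, N *ᵥ (N *ᵥ z)] by
    obtain ⟨z, hz, hzi⟩ := htri
    have hz' : LinearIndependent F ![z, A *ᵥ z, A *ᵥ (A *ᵥ z)] := by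
      rw [hcomm (A *ᵥ z), hcomm z, mulVec_add, mulVec_smul, Fintype.linearIndependent_iff]
      intro g hg
      rw [Fin.sum_univ_three] at hg
      simp only [Matrix.cons_val_zero, Matrix.cons_val_one, Matrix.cons_val] at hg
      have h0 := Fintype.linearIndependent_iff.1 hzi
        ![g 0 + c * g 1 + c * c * g 2, g 1 + 2 * c * g 2, g 2] (by
        rw [Fin.sum_univ_three]
        simp only [Matrix.cons_val_zero, Matrix.cons_val_one, Matrix.cons_val]
        linear_combination (norm := module) hg)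
      have h2 : g 2 = 0 := h0 2
      have h1 : g 1 = 0 := by simpa [h2] using h0 1
      have h00 : g 0 = 0 := by simpa [h1, h2] using h0 0
      intro i
      fin_cases i
      exacts [h00, h1, h2]
    rcases main z hz' with h | ⟨c', hc', hI'⟩
    · exact ⟨z, h⟩
    · obtain rfl := huniq c c' hc hc'
      exact absurd (by rw [hIdef, hN, hI']; exact Submodule.subset_span ⟨0, rfl⟩) hz
  by_contra hno
  push Not at hno
  -- all images of vectors outside `I` are eigenvectors of `N`
  have heig : ∀ z, z ∉ I → ∃ a : F, N *ᵥ (N *ᵥ z) = a • (N *ᵥ z) := by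
    intro z hz
    by_contra hall
    push Not at hall
    refine hno z hz ?_
    have hz1 : N *ᵥ z ≠ 0 := fun h => hall 0 (by simp [h])
    have h2 := pair_indep hz1 hall
    refine linearIndependent_finCons.2 ⟨h2, fun hm => hz ?_⟩
    refine (span_fam_le fun i => ?_) hm
    fin_cases i <;> exact hNI _
  have hwN : ∀ a : F, N *ᵥ (N *ᵥ w) ≠ a • (N *ᵥ w) := by
    intro a ha
    have h := Fintype.linearIndependent_iff.1 hw ![c * a + c * c, -(a + 2 * c), 1] (by
      rw [Fin.sum_univ_three]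
      simp only [Matrix.cons_val_zero, Matrix.cons_val_one, Matrix.cons_val]
      rw [hcomm (A *ᵥ w), hcomm w, mulVec_add, mulVec_smul, ha]
      module) 2
    exact one_ne_zero h
  set u := N *ᵥ x
  set v := N *ᵥ w
  have hv : ∀ t : F, ∃ a : F, N *ᵥ (u + t • v) = a • (u + t • v) := fun t => by
    obtain ⟨a, ha⟩ := heig (x + t • w) (fun h => hx (by simpa using I.sub_mem h (I.smul_mem t hwI)))
    exact ⟨a, by rwa [mulVec_add N x, mulVec_smul] at ha⟩
  obtain ⟨t, ht0, ht1⟩ := exists_ne_zero_one h3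
  obtain ⟨a0, ha0⟩ := hv 0
  obtain ⟨a1, ha1⟩ := hv 1
  obtain ⟨a2, ha2⟩ := hv t
  simp only [zero_smul, add_zero, one_smul] at ha0 ha1
  rw [mulVec_add, ha0] at ha1
  rw [mulVec_add, mulVec_smul, ha0] at ha2
  have e : (t * (a1 - a2)) • v = (a2 - t * a1 - (1 - t) * a0) • u := by
    linear_combination (norm := module) ha2 - t • ha1
  by_cases h12 : a1 = a2
  · subst h12
    rw [sub_self, mul_zero, zero_smul] at e
    have e' : ((1 - t) * (a1 - a0)) • u = 0 := by linear_combination (norm := module) (-1 : F) • e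
    refine hwN a1 ?_
    rw [← eq_sub_iff_add_eq'] at ha1
    rw [ha1, smul_add]
    rcases smul_eq_zero.1 e' with h | h
    · rcases mul_eq_zero.1 h with h' | h'
      · exact absurd (sub_eq_zero.1 h').symm ht1
      · rw [sub_eq_zero.1 h', add_sub_cancel_left]
    · simp [h]
  · refine hwN a0 ?_
    have hne : t * (a1 - a2) ≠ 0 := mul_ne_zero ht0 (sub_ne_zero.2 h12)
    rw [← inv_smul_smul₀ hne v, e, smul_smul, mulVec_smul, ha0]
    module

/-- Scalar targets. -/
theorem plane_covS {m : ℕ} (hn : 5 ≤ 2 + m) {A : Matrix (Fin (2 + m)) (Fin (2 + m)) F} (hA0 : A.det ≠ 0)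
    {c : F} {a : Matrix (Fin 2) (Fin m) F} {A' : Matrix (Fin m) (Fin m) F}
    (hA : SimD 1 A ((blk c a A').reindex finSumFinEquiv finSumFinEquiv))
    {w w' : Fin (2 + m) → F} (h5 : LinearIndependent F ![w, A *ᵥ w, w', A *ᵥ w', A *ᵥ (A *ᵥ w)])
    (inner : ∀ B' : Matrix (Fin m) (Fin m) F, B'.det = A'.det ^ m → (∀ s : F, B' ≠ s • 1) → CovNF m A' B')
    {s : F} (hs : s ^ (2 + m) = A.det ^ (2 + m)) : CovS (2 + m) A (s • 1) := by
  classical
  set e := finSumFinEquiv (m := 2) (n := m)
  have hAdet : A.det = c ^ 2 * A'.det := by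
    rw [Sim.det_eq (hA.sim one_ne_zero), det_reindex_self, blk_det]
  have hc : c ≠ 0 := fun h => hA0 (by rw [hAdet, h]; ring)
  have hs0 : s ≠ 0 := by
    rintro rfl
    rw [zero_pow (by omega)] at hs
    exact pow_ne_zero _ hA0 hs.symm
  have hAu : IsUnit A.det := isUnit_iff_ne_zero.2 hA0
  set μ := s * (c ^ m)⁻¹ with hμ
  have hμ0 : μ ≠ 0 := mul_ne_zero hs0 (inv_ne_zero (pow_ne_zero _ hc))
  -- the second factor
  have h4 : LinearIndependent F ![w, A *ᵥ w, w', A *ᵥ w'] := by
    convert h5.comp ![0, 1, 2, 3] (by decide) using 1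
    funext i; fin_cases i <;> rfl
  have hne : ∀ S : Submodule F (Fin (2 + m) → F), Module.finrank F S ≤ 4 → S ≠ ⊤ := fun S hS h => by
    rw [h, finrank_top, Module.finrank_pi, Fintype.card_fin] at hS
    omega
  set W3 := Submodule.span F (Set.range ![w, A *ᵥ w, A *ᵥ w']) with hW3
  have hAinj : Function.Injective A.mulVec :=
    mulVec_injective_iff_isUnit.2 ((isUnit_iff_isUnit_det A).2 hAu)
  obtain ⟨t, ht4, ht3⟩ := exists_not_mem_two
    (S := Submodule.span F (Set.range ![A *ᵥ w, μ • w, A *ᵥ w', μ • w']))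
    (T := W3.comap A.mulVecLin)
    (ne_top_of_fam (by omega) _) (fun h => by
      obtain ⟨x, hx⟩ := exists_not_mem_two (S := W3) (T := W3) (ne_top_of_fam (by omega) _) (ne_top_of_fam (by omega) _)
      have hm : A⁻¹ *ᵥ x ∈ W3.comap A.mulVecLin := h ▸ Submodule.mem_top
      rw [Submodule.mem_comap, mulVecLin_apply, mulVec_mulVec, mul_nonsing_inv _ hAu, one_mulVec] at hm
      exact hx.1 hm)
  have hT : LinearIndependent F (Fin.snoc ![A *ᵥ w, μ • w, A *ᵥ w', μ • w'] t) := by
    refine indep_snoc ?_ ht4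
    have h := h4.comp ![1, 0, 3, 2] (by decide)
    have h' := h.units_smul ![1, Units.mk0 μ hμ0, 1, Units.mk0 μ hμ0]
    convert h' using 1
    funext i; fin_cases i <;> simp [Units.smul_def]
  obtain ⟨P, σ, hP, hσ, hP4, hP5⟩ := exists_fam_map h5 hT
  have hPu : IsUnit P.det := by rw [hP]; exact isUnit_one
  have p0 : P *ᵥ w = A *ᵥ w := hP4 0
  have p1 : P *ᵥ (A *ᵥ w) = μ • w := hP4 1
  have p2 : P *ᵥ w' = A *ᵥ w' := hP4 2
  have p3 : P *ᵥ (A *ᵥ w') = μ • w' := hP4 3
  have p4 : P *ᵥ (A *ᵥ (A *ᵥ w)) = σ • t := hP5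
  set Y := P * A * P⁻¹ with hY
  have hYA : SimD 1 Y A := ⟨P, hP, by rw [hY, Matrix.mul_assoc, nonsing_inv_mul _ hPu, Matrix.mul_one]⟩
  have hYP : ∀ x, Y *ᵥ (P *ᵥ x) = P *ᵥ (A *ᵥ x) := fun x => by
    rw [mulVec_mulVec, hY, Matrix.mul_assoc, nonsing_inv_mul _ hPu, Matrix.mul_one, ← mulVec_mulVec]
  set M := A * Y with hM
  have m0 : M *ᵥ (A *ᵥ w) = μ • (A *ᵥ w) := by
    rw [hM, ← mulVec_mulVec, ← p0, hYP, p1, mulVec_smul, p0]
  have m1 : M *ᵥ (A *ᵥ w') = μ • (A *ᵥ w') := by
    rw [hM, ← mulVec_mulVec, ← p2, hYP, p3, mulVec_smul, p2]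
  have mw : μ • (M *ᵥ w) = σ • (A *ᵥ t) := by
    rw [hM, ← mulVec_mulVec, ← mulVec_smul, ← mulVec_smul, ← p1, hYP, p4, mulVec_smul]
  -- coordinates
  let e0 : Fin (2 + m) → F := Pi.single (e (Sum.inl 0)) 1
  let e1 : Fin (2 + m) → F := Pi.single (e (Sum.inl 1)) 1
  have hee : LinearIndependent F ![e0, e1] := pair_indep (by simp [e0]) fun t' h => by
    simpa [e0, e1, e.injective.eq_iff] using congrFun h (e (Sum.inl 1))
  have hAA : LinearIndependent F ![A *ᵥ w, A *ᵥ w'] := by
    convert h4.comp ![1, 3] (by decide) using 1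
    funext i; fin_cases i <;> rfl
  obtain ⟨Q, hQ, hQ0, hQ1⟩ := exists_pair_map (by omega) hee hAA
  have hQu : IsUnit Q.det := by rw [hQ]; exact isUnit_one
  set M' := Q⁻¹ * M * Q with hM'
  have hM'sim : SimD 1 M M' := ⟨Q, hQ, by
    rw [hM', ← Matrix.mul_assoc, ← Matrix.mul_assoc, mul_nonsing_inv _ hQu, Matrix.one_mul]⟩
  have hM'e : ∀ x y, Q *ᵥ x = y → M *ᵥ y = μ • y → M' *ᵥ x = μ • x := fun x y hxy hy => by
    rw [hM', ← mulVec_mulVec, hxy, ← mulVec_mulVec, hy, mulVec_smul, ← hxy, mulVec_mulVec,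
      nonsing_inv_mul _ hQu, one_mulVec]
  have hM'e0 := hM'e e0 _ hQ0 m0
  have hM'e1 := hM'e e1 _ hQ1 m1
  set Ms := M'.reindex e.symm e.symm with hMs
  set y₀ := Ms.toBlocks₁₂
  set M2 := Ms.toBlocks₂₂ with hM2
  have hblk : Ms = blk μ y₀ M2 := by
    have hcol : ∀ i (j : Fin 2), Ms i (Sum.inl j) = (μ • (Pi.single (e (Sum.inl j)) 1 : Fin (2 + m) → F)) (e i) := by
      intro i j
      have hj : M' *ᵥ Pi.single (e (Sum.inl j)) 1 = μ • Pi.single (e (Sum.inl j)) 1 := by
        fin_cases j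
        exacts [hM'e0, hM'e1]
      rw [← hj]; simp [Ms]
    ext (i | i) (j | j)
    · rw [hcol]; simp [blk, Pi.single_apply, Matrix.one_apply, e.injective.eq_iff]
    · rfl
    · rw [hcol]; simp [blk, e.injective.eq_iff]
    · rfl
  have hMd : M'.det = A.det ^ 2 := by
    rw [← Sim.det_eq (hM'sim.sim one_ne_zero), hM, det_mul, Sim.det_eq (hYA.sim one_ne_zero), sq]
  have hM2ns : ∀ ν : F, M2 ≠ ν • 1 := by
    intro ν hν
    have hall : ∀ x, M' *ᵥ x - ν • x ∈ Submodule.span F (Set.range ![e0, e1]) := by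
      intro x
      have e' : M' *ᵥ x - ν • x =
          (M' *ᵥ x - ν • x) (e (Sum.inl 0)) • e0 + (M' *ᵥ x - ν • x) (e (Sum.inl 1)) • e1 := by
        funext i
        obtain ⟨i, rfl⟩ := e.surjective i
        rcases i with i | i
        · fin_cases i <;> simp [e0, e1, e.injective.eq_iff]
        · have h1 : (M' *ᵥ x) (e (Sum.inr i)) = (Ms *ᵥ (x ∘ e)) (Sum.inr i) := by
            rw [hMs, reindex_apply, submatrix_mulVec_equiv, Equiv.symm_symm, Function.comp_apply]
            congr 2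
            funext j; simp
          simp [h1, hblk, hν, blk, fromBlocks_mulVec, smul_mulVec, e0, e1, e.injective.eq_iff]
      rw [e']
      exact add_mem (Submodule.smul_mem _ _ (pair_mem e0 e1).1) (Submodule.smul_mem _ _ (pair_mem e0 e1).2)
    refine ht3 ?_
    rw [Submodule.mem_comap, mulVecLin_apply]
    have hle : ∀ z ∈ Submodule.span F (Set.range ![e0, e1]), Q *ᵥ z ∈ W3 := by
      intro z hz
      have : Submodule.span F (Set.range ![e0, e1]) ≤ W3.comap Q.mulVecLin := span_fam_le fun i => by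
        rw [Submodule.mem_comap, mulVecLin_apply]
        fin_cases i
        · exact (show Q *ᵥ e0 ∈ W3 by rw [hQ0]; exact Submodule.subset_span ⟨1, rfl⟩)
        · exact (show Q *ᵥ e1 ∈ W3 by rw [hQ1]; exact Submodule.subset_span ⟨2, rfl⟩)
      exact this hz
    have h1 := hle _ (hall (Q⁻¹ *ᵥ w))
    have hQQ : ∀ z, Q *ᵥ (Q⁻¹ *ᵥ z) = z := fun z => by
      rw [mulVec_mulVec, mul_nonsing_inv _ hQu, one_mulVec]
    rw [mulVec_sub, mulVec_smul, hQQ, hM', ← mulVec_mulVec, hQQ, ← mulVec_mulVec, hQQ] at h1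
    have h2 : M *ᵥ w ∈ W3 := by
      have := W3.add_mem h1 (W3.smul_mem ν (show w ∈ W3 from Submodule.subset_span ⟨0, rfl⟩))
      rwa [sub_add_cancel] at this
    have h3 := W3.smul_mem μ h2
    rw [mw] at h3
    exact (W3.smul_mem_iff hσ).1 h3
  -- the remaining factors
  have hMsd : Ms.det = A.det ^ 2 := by rw [hMs, det_reindex_self, hMd]
  have hM20 : M2.det ≠ 0 := fun h => by
    rw [hblk, blk_det, h, mul_zero] at hMsd
    exact pow_ne_zero _ hA0 hMsd.symm
  have hM2u : IsUnit M2.det := isUnit_iff_ne_zero.2 hM20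
  obtain ⟨l, hl, hlA, hlp, hfix⟩ := inner (s • M2⁻¹) (by
      have h1 : μ ^ 2 * M2.det = (c ^ 2 * A'.det) ^ 2 := by rw [← blk_det, ← hblk, hMsd, hAdet]
      have hA'0 : A'.det ≠ 0 := fun h => hA0 (by rw [hAdet, h, mul_zero])
      rw [det_smul, Fintype.card_fin, det_nonsing_inv, Ring.inverse_eq_inv]
      have h2 : s ^ m = A'.det ^ m * M2.det := by
        have h3 : s ^ m * (μ ^ 2 * M2.det) * (c ^ m) ^ 2 = A'.det ^ m * M2.det * ((c ^ 2 * A'.det) ^ 2 * (c ^ m) ^ 2) := by
          have h4 : μ * c ^ m = s := by rw [hμ, mul_assoc, inv_mul_cancel₀ (pow_ne_zero _ hc), mul_one]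
          have h5' : (c ^ 2 * A'.det) ^ (2 + m) = s ^ (2 + m) := by rw [← hAdet, hs]
          rw [← h4] at h5' ⊢
          linear_combination (-M2.det) * h5'
        rw [h1] at h3
        refine mul_right_cancel₀ (b := (c ^ 2 * A'.det) ^ 2 * (c ^ m) ^ 2) ?_ ?_
        · exact mul_ne_zero (pow_ne_zero _ (mul_ne_zero (pow_ne_zero _ hc) hA'0)) (pow_ne_zero _ (pow_ne_zero _ hc))
        · rw [← h3]; ring
      rw [h2, mul_assoc, mul_inv_cancel₀ hM20, mul_one])
    (fun ν hν => hM2ns (s * ν⁻¹) (by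
      have hν0 : ν ≠ 0 := by
        rintro rfl
        rw [zero_smul] at hν
        have := congrArg (fun X => X * M2) hν
        simp only [Matrix.smul_mul, nonsing_inv_mul _ hM2u, Matrix.zero_mul] at this
        haveI hne' : Nonempty (Fin m) := ⟨⟨0, by omega⟩⟩
        exact hs0 ((smul_eq_zero.1 this).resolve_right one_ne_zero)
      have h1 := congrArg (fun X => X * M2) hν
      simp only [Matrix.smul_mul, nonsing_inv_mul _ hM2u, Matrix.one_mul] at h1
      rw [mul_comm, ← smul_smul, h1, smul_smul, inv_mul_cancel₀ hν0, one_smul]))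
  obtain ⟨l', hl'len, hl'S, hl'p⟩ := exists_lift_all (by omega) hc a hlA (fun z hz => hfix c z hz)
    (-(c ^ m) • (y₀ * M2⁻¹))
  rw [hl] at hl'len hl'p
  rw [hlp] at hl'p
  have hrest : CovS m A (l'.prod.reindex e e) := by
    refine ⟨l'.map fun X => X.reindex e e, by rw [List.length_map, hl'len], fun X hX => ?_, prod_reindex e l'⟩
    obtain ⟨X, hX', rfl⟩ := List.mem_map.1 hX
    simpa using ((hl'S X hX').reindex e).trans (hA.symm one_ne_zero)
  have hone : M' * l'.prod.reindex e e = s • 1 := by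
    have h1 : Ms * l'.prod = s • 1 := by
      rw [hl'p, hblk, blk_mul]
      have h4 : μ * c ^ m = s := by rw [hμ, mul_assoc, inv_mul_cancel₀ (pow_ne_zero _ hc), mul_one]
      rw [h4]
      simp only [blk, Matrix.mul_smul, mul_nonsing_inv _ hM2u]
      ext (i | i) (j | j)
      · simp [Matrix.one_apply]
      · simp only [fromBlocks_apply₁₂, Matrix.add_apply, Matrix.smul_apply, Matrix.mul_smul,
          Matrix.neg_apply, smul_eq_mul, neg_smul, Matrix.one_apply, reduceCtorEq, if_false, mul_zero]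
        linear_combination (-((y₀ * M2⁻¹) i j)) * h4
      · simp [Matrix.one_apply]
      · simp [Matrix.one_apply]
    have h2 := congrArg (fun X => X.reindex e e) h1
    simp only [reindex_apply] at h2
    rw [← submatrix_mul_equiv Ms l'.prod e.symm e.symm e.symm] at h2
    convert h2 using 1
    · congr 1
      ext i j; simp [Ms]
    · ext i j; simp [Matrix.one_apply]
  have hMcov : CovS 2 A M' := by
    refine (CovS.add (CovS.single (SimD.refl A)) (CovS.single hYA)).conj ?_
    simpa using hM'sim.symm one_ne_zero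
  exact hone ▸ hMcov.add hrest

end Cfsg.Agent.CoverPSL
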