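import Cfsg.Agent.Lib.CoverPSL.CyclicSquare
import Cfsg.Agent.Lib.CoverPSL.Lift
import Cfsg.Agent.Lib.Classical.Thompson.Decompose
import Mathlib.FieldTheory.Finite.GaloisField

/-!
# Primary blocks and the part with eigenvalues

`exists_primary`: without eigenvalue a matrix has a companion block of a power of an irreducible
polynomial as a direct summand; `exists_eigen_part`: a matrix with one-dimensional eigenspaces is
the sum of a matrix without eigenvalue and a split one.
-/

set_option autoImplicit false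

namespace Cfsg.Agent.CoverPSL

open Matrix Polynomial Cfsg.Agent.Classical.Thompson

variable {F : Type*} [Field F]

theorem det_sub_smul_eq {ι : Type*} [Fintype ι] [DecidableEq ι] (M : Matrix ι ι F) (a : F) :
    (M - a • 1).det = (-1) ^ Fintype.card ι * M.charpoly.eval a := by
  rw [Matrix.eval_charpoly, ← neg_sub, det_neg,
    show a • (1 : Matrix ι ι F) = Matrix.scalar ι a by rw [smul_one_eq_diagonal]; rfl]

theorem det_sub_eq_zero_iff {ι : Type*} [Fintype ι] [DecidableEq ι] (M : Matrix ι ι F) (a : F) :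
    (M - a • 1).det = 0 ↔ M.charpoly.eval a = 0 := by
  rw [det_sub_smul_eq]; simp

/-- An eigenvector of a Hessenberg matrix with non-zero subdiagonal is given by its last coordinate. -/
theorem hessS_geom1 {k : ℕ} {M : Matrix (Fin k) (Fin k) F} (hM : IsHessS M) : Geom1 M := by
  intro c v w hv hw hv0
  rcases Nat.eq_zero_or_pos k with rfl | hk
  · exact absurd (_root_.funext fun i => i.elim0) hv0
  let l : Fin k := ⟨k - 1, by omega⟩
  have zero : ∀ x : Fin k → F, M *ᵥ x = c • x → x l = 0 → x = 0 := by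
    intro x hx hxl
    suffices H : ∀ (d : ℕ) (i : Fin k), i.val + d + 1 = k → x i = 0 from
      _root_.funext fun i => H (k - i.val - 1) i (by have := i.2; omega)
    intro d
    induction d using Nat.strong_induction_on with
    | _ d ih =>
      intro i hik
      cases d with
      | zero => rw [show i = l from Fin.ext (by simp [l]; omega)]; exact hxl
      | succ d =>
        let i' : Fin k := ⟨i.val + 1, by omega⟩
        have h := congrFun hx i'
        simp only [Matrix.mulVec, dotProduct, Pi.smul_apply, smul_eq_mul] at h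
        rw [ih d (by omega) i' (by simp [i']; omega), mul_zero, Finset.sum_eq_single i] at h
        · exact (mul_eq_zero.1 h).resolve_left ((hM i' i).2 rfl)
        · intro j _ hji
          rcases Nat.lt_or_gt_of_ne (fun e => hji (Fin.ext e)) with h1 | h1
          · rw [(hM i' j).1 (by simp [i']; omega), zero_mul]
          · rw [ih (k - j.val - 1) (by omega) j (by have := j.2; omega), mul_zero]
        · simp
  have hvl : v l ≠ 0 := fun h => hv0 (zero v hv h)
  refine ⟨w l / v l, sub_eq_zero.1 (zero _ ?_ ?_)⟩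
  · rw [mulVec_sub, mulVec_smul, hv, hw, smul_sub, smul_comm]
  · simp [div_mul_cancel₀ _ hvl]

theorem compMat_geom1 [Finite F] {k : ℕ} (hk : 2 ≤ k) (f : F[X]) (hf : f.Monic) (hd : f.natDegree = k)
    (hf0 : f.coeff 0 ≠ 0) : Geom1 (compMat f hf hd) := by
  obtain ⟨H, hH, hHs, -⟩ := exists_companion hk f hf hd hf0 1 one_ne_zero
  exact (hessS_geom1 hH).sim (hHs.sim one_ne_zero).symm

theorem coeff_zero_of_no_root {f : F[X]} (h : ∀ a : F, f.eval a ≠ 0) : f.coeff 0 ≠ 0 := by
  rw [coeff_zero_eq_eval_zero]; exact h 0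

/-- The companion matrix of a product is block triangular. -/
theorem exists_tri [Finite F] {d m : ℕ} (hd2 : 2 ≤ d) (hm2 : 2 ≤ m) (g h : F[X]) (hg : g.Monic) (hh : h.Monic)
    (hgd : g.natDegree = d) (hhd : h.natDegree = m) (hg0 : g.coeff 0 ≠ 0) (hh0 : h.coeff 0 ≠ 0)
    (f : F[X]) (hf : f.Monic) (hfd : f.natDegree = d + m) (hfe : f = g * h) :
    ∃ (e : Fin m ⊕ Fin d ≃ Fin (d + m)) (N : Matrix (Fin m) (Fin d) F),
      Sim (compMat f hf hfd) ((fromBlocks (compMat h hh hhd) N 0 (compMat g hg hgd)).reindex e e) := by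
  classical
  obtain ⟨G, hG, hGs, -⟩ := exists_companion hd2 g hg hgd hg0 1 one_ne_zero
  obtain ⟨H, hH, hHs, -⟩ := exists_companion hm2 h hh hhd hh0 1 one_ne_zero
  set M := (fromBlocks G 0 (link F d m) H).reindex finSumFinEquiv finSumFinEquiv with hMdef
  have hM : IsHessS M := by
    intro i j
    obtain ⟨x, rfl⟩ := finSumFinEquiv.surjective i
    obtain ⟨y, rfl⟩ := finSumFinEquiv.surjective j
    rw [hMdef, Matrix.reindex_apply, Matrix.submatrix_apply, Equiv.symm_apply_apply, Equiv.symm_apply_apply]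
    rcases x with a | a <;> rcases y with b | b <;>
      simp only [finSumFinEquiv_apply_left, finSumFinEquiv_apply_right, Fin.val_castAdd, Fin.val_natAdd,
        fromBlocks_apply₁₁, fromBlocks_apply₁₂, fromBlocks_apply₂₁, fromBlocks_apply₂₂]
    · exact hG a b
    · exact ⟨fun _ => rfl, fun h => by have := a.2; omega⟩
    · have := b.2
      simp only [link, Matrix.of_apply]
      exact ⟨fun h => if_neg (by omega), fun h => by rw [if_pos (by omega)]; exact one_ne_zero⟩
    · exact ⟨fun h => (hH a b).1 (by omega), fun h => (hH a b).2 (by omega)⟩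
  have hMf : M.charpoly = f := by
    rw [hMdef, Matrix.charpoly_reindex, Matrix.charpoly_fromBlocks_zero₁₂,
      Sim.charpoly_eq (hGs.sim one_ne_zero), Sim.charpoly_eq (hHs.sim one_ne_zero), compMat_charpoly,
      compMat_charpoly, hfe]
  obtain ⟨P, P', hP, eP⟩ := (hHs.sim one_ne_zero).symm
  obtain ⟨Q, Q', hQ, eQ⟩ := (hGs.sim one_ne_zero).symm
  let e : Fin m ⊕ Fin d ≃ Fin (d + m) := (Equiv.sumComm _ _).trans finSumFinEquiv
  refine ⟨e, P * link F d m * Q', ((hessS_simD hM f hf hfd hMf).sim (weight_ne_zero hM)).symm.trans ?_⟩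
  have h1 : Sim (fromBlocks H (link F d m) 0 G)
      (fromBlocks (compMat h hh hhd) (P * link F d m * Q') 0 (compMat g hg hgd)) := by
    have hP' : P' * P = 1 := mul_eq_one_comm.1 hP
    have hQ' : Q' * Q = 1 := mul_eq_one_comm.1 hQ
    refine Sim.symm ⟨fromBlocks P 0 0 Q, fromBlocks P' 0 0 Q', by simp [fromBlocks_multiply, hP, hQ], ?_⟩
    simp [fromBlocks_multiply, ← eP, ← eQ]
  have h2 : M = (fromBlocks H (link F d m) 0 G).reindex e e := by
    ext i j
    obtain ⟨x, rfl⟩ := finSumFinEquiv.surjective i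
    obtain ⟨y, rfl⟩ := finSumFinEquiv.surjective j
    rcases x with a | a <;> rcases y with b | b <;> simp [hMdef, e]
  rw [h2]
  exact h1.reindex e

theorem aeval_blocks {ι κ : Type*} [Fintype ι] [DecidableEq ι] [Fintype κ] [DecidableEq κ]
    (A : Matrix ι ι F) (N : Matrix ι κ F) (B : Matrix κ κ F) (h : F[X]) :
    ∃ M : Matrix ι κ F, aeval (fromBlocks A N 0 B) h = fromBlocks (aeval A h) M 0 (aeval B h) := by
  induction h using Polynomial.induction_on' with
  | add p q hp hq =>
    obtain ⟨M, hM⟩ := hp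
    obtain ⟨M', hM'⟩ := hq
    exact ⟨M + M', by simp [hM, hM', fromBlocks_add]⟩
  | monomial k a =>
    suffices H : ∀ k : ℕ, ∃ M : Matrix ι κ F, (fromBlocks A N 0 B) ^ k = fromBlocks (A ^ k) M 0 (B ^ k) by
      obtain ⟨M, hM⟩ := H k
      exact ⟨a • M, by simp [aeval_monomial, ← Algebra.smul_def, hM, fromBlocks_smul]⟩
    intro k
    induction k with
    | zero => exact ⟨0, by simp⟩
    | succ k ih =>
      obtain ⟨M, hM⟩ := ih
      exact ⟨A ^ k * N + M * B, by simp [pow_succ, hM, fromBlocks_multiply]⟩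

theorem det_aeval_blocks {ι κ : Type*} [Fintype ι] [DecidableEq ι] [Fintype κ] [DecidableEq κ]
    (A : Matrix ι ι F) (N : Matrix ι κ F) (B : Matrix κ κ F) (h : F[X]) :
    (aeval (fromBlocks A N 0 B) h).det = (aeval A h).det * (aeval B h).det := by
  obtain ⟨M, hM⟩ := aeval_blocks A N B h
  rw [hM, det_fromBlocks_zero₂₁]

theorem aeval_sim {ι : Type*} [Fintype ι] [DecidableEq ι] {A B : Matrix ι ι F} (hs : Sim A B) (h : F[X]) :
    Sim (aeval A h) (aeval B h) := by
  obtain ⟨P, Q, hPQ, rfl⟩ := hs
  have hQP : Q * P = 1 := mul_eq_one_comm.1 hPQ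
  refine ⟨P, Q, hPQ, ?_⟩
  induction h using Polynomial.induction_on' with
  | add p q hp hq => simp [hp, hq, Matrix.mul_add, Matrix.add_mul]
  | monomial k a =>
    have : (P * B * Q) ^ k = P * B ^ k * Q := by
      induction k with
      | zero => simp [hPQ]
      | succ k ih =>
        rw [pow_succ, ih, pow_succ]
        calc P * B ^ k * Q * (P * B * Q) = P * B ^ k * (Q * P) * B * Q := by simp only [Matrix.mul_assoc]
          _ = _ := by rw [hQP]; simp [Matrix.mul_assoc]
    simp [aeval_monomial, ← Algebra.smul_def, this, Matrix.mul_smul, Matrix.smul_mul]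

theorem aeval_reindex {ι κ : Type*} [Fintype ι] [DecidableEq ι] [Fintype κ] [DecidableEq κ]
    (A : Matrix ι ι F) (e : ι ≃ κ) (h : F[X]) :
    aeval (A.reindex e e) h = (aeval A h).reindex e e :=
  aeval_algHom_apply (Matrix.reindexAlgEquiv F F e) A h

theorem compMat_aeval_self {k : ℕ} (f : F[X]) (hf : f.Monic) (hd : f.natDegree = k) :
    aeval (compMat f hf hd) f = 0 := by
  have := Matrix.aeval_self_charpoly (compMat f hf hd)
  rwa [compMat_charpoly] at this

/-- Coprime companion blocks share nothing. -/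
theorem disj_coprime {k l : ℕ} (f g : F[X]) (hf : f.Monic) (hg : g.Monic) (hfd : f.natDegree = k)
    (hgd : g.natDegree = l) (hco : IsCoprime f g) : Disj (compMat f hf hfd) (compMat g hg hgd) := by
  obtain ⟨u, v, huv⟩ := hco
  set P := compMat f hf hfd
  set B := compMat g hg hgd
  have hP : aeval P f = 0 := compMat_aeval_self f hf hfd
  have hB : aeval B g = 0 := compMat_aeval_self g hg hgd
  refine ⟨fun Z hZ => ?_, fun Z hZ => ?_⟩
  · have key : ∀ h : F[X], aeval B h * Z = Z * aeval P h := by
      intro h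
      induction h using Polynomial.induction_on with
      | C a => simp [Algebra.algebraMap_eq_smul_one]
      | add p q hp hq => simp [Matrix.add_mul, Matrix.mul_add, hp, hq]
      | monomial n a ih =>
        simp only [pow_succ, ← mul_assoc, map_mul, aeval_X] at ih ⊢
        rw [Matrix.mul_assoc, hZ, ← Matrix.mul_assoc, ih, Matrix.mul_assoc]
    have h1 : aeval B (u * f + v * g) * Z = Z := by rw [huv]; simp
    rw [map_add, map_mul, map_mul, hB, mul_zero, add_zero, Matrix.mul_assoc, key f, hP] at h1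
    simpa using h1.symm
  · have key : ∀ h : F[X], aeval P h * Z = Z * aeval B h := by
      intro h
      induction h using Polynomial.induction_on with
      | C a => simp [Algebra.algebraMap_eq_smul_one]
      | add p q hp hq => simp [Matrix.add_mul, Matrix.mul_add, hp, hq]
      | monomial n a ih =>
        simp only [pow_succ, ← mul_assoc, map_mul, aeval_X] at ih ⊢
        rw [Matrix.mul_assoc, hZ, ← Matrix.mul_assoc, ih, Matrix.mul_assoc]
    have h1 : aeval P (u * f + v * g) * Z = Z := by rw [huv]; simp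
    rw [map_add, map_mul, map_mul, hP, mul_zero, zero_add, Matrix.mul_assoc, key g, hB] at h1
    simpa using h1.symm

/-- no eigenvalue in `F` -/
def NoEig {ι : Type*} [Fintype ι] [DecidableEq ι] (A : Matrix ι ι F) : Prop :=
  ∀ a : F, (A - a • 1).det ≠ 0

theorem NoEig.sim {ι : Type*} [Fintype ι] [DecidableEq ι] {A B : Matrix ι ι F} (h : NoEig A)
    (hs : Sim B A) : NoEig B := fun a => by
  rw [Ne, det_sub_eq_zero_iff, Sim.charpoly_eq hs, ← det_sub_eq_zero_iff]; exact h a

theorem NoEig.det_ne {ι : Type*} [Fintype ι] [DecidableEq ι] {A : Matrix ι ι F} (h : NoEig A) :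
    A.det ≠ 0 := by simpa using h 0

theorem NoEig.reindex {ι κ : Type*} [Fintype ι] [DecidableEq ι] [Fintype κ] [DecidableEq κ]
    {A : Matrix ι ι F} (h : NoEig A) (e : ι ≃ κ) : NoEig (A.reindex e e) := fun a => by
  rw [Ne, det_sub_eq_zero_iff, Matrix.charpoly_reindex, ← det_sub_eq_zero_iff]; exact h a

theorem noEig_blocks {ι κ : Type*} [Fintype ι] [DecidableEq ι] [Fintype κ] [DecidableEq κ]
    {A : Matrix ι ι F} {N : Matrix ι κ F} {B : Matrix κ κ F} :
    NoEig (fromBlocks A N 0 B) ↔ NoEig A ∧ NoEig B := by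
  simp only [NoEig, Ne, det_sub_eq_zero_iff, Matrix.charpoly_fromBlocks_zero₂₁, eval_mul,
    mul_eq_zero, not_or, forall_and]

theorem noEig_compMat {k : ℕ} {f : F[X]} {hf : f.Monic} {hd : f.natDegree = k} :
    NoEig (compMat f hf hd) ↔ ∀ a : F, f.eval a ≠ 0 := by
  simp only [NoEig, Ne, det_sub_eq_zero_iff, compMat_charpoly]

/-- A primary companion block as a direct summand. -/
theorem exists_primary [Finite F] {n : ℕ} (hn : 1 ≤ n) {A : Matrix (Fin n) (Fin n) F} (hA : NoEig A) :
    ∃ (p : F[X]) (v k m : ℕ) (hp : p.Monic) (hd : (p ^ v).natDegree = k) (e : Fin k ⊕ Fin m ≃ Fin n)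
      (A' : Matrix (Fin m) (Fin m) F), Irreducible p ∧ 1 ≤ v ∧ 2 ≤ p.natDegree ∧
      (∀ a : F, p.eval a ≠ 0) ∧ NoEig A' ∧
      Sim A ((fromBlocks (compMat (p ^ v) (hp.pow v) hd) 0 0 A').reindex e e) := by
  classical
  obtain ⟨r, kk, f, hf, hfd, ee, hk1, hsim⟩ := exists_cyclic A
  have hr : 0 < r := by
    by_contra h0
    obtain ⟨i, -⟩ := ee.symm ⟨0, hn⟩
    have := i.2
    omega
  set i0 : Fin r := ⟨0, hr⟩
  set B := blockDiagonal' fun i => compMat (f i) (hf i) (hfd i) with hB
  -- the first block against the others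
  let q : (Σ i, Fin (kk i)) → Prop := fun x => x.1 = i0
  let s1 : {x // q x} ≃ Fin (kk i0) :=
    { toFun := fun x => Fin.cast (congrArg kk x.2) x.1.2
      invFun := fun j => ⟨⟨i0, j⟩, rfl⟩
      left_inv := by
        rintro ⟨⟨i, j⟩, h⟩
        have h' : i = i0 := h
        subst h'
        rfl
      right_inv := fun j => rfl }
  let s2 := Fintype.equivFin {x // ¬ q x}
  let σ : Fin (kk i0) ⊕ Fin (Fintype.card {x // ¬ q x}) ≃ Σ i, Fin (kk i) :=
    (Equiv.sumCongr s1 s2).symm.trans (Equiv.sumCompl q)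
  set A₀ := B.submatrix σ σ with hA₀
  have h11 : A₀.toBlocks₁₁ = compMat (f i0) (hf i0) (hfd i0) := by
    ext i j; simp [hA₀, σ, s1, toBlocks₁₁, hB, blockDiagonal'_apply_eq]
  have h12 : A₀.toBlocks₁₂ = 0 := by
    ext i j
    have hne := (s2.symm j).2
    simp only [hA₀, σ, s1, toBlocks₁₂, hB, Matrix.submatrix_apply, Matrix.of_apply, Matrix.zero_apply]
    exact blockDiagonal'_apply_ne _ _ _ (fun h => hne h.symm)
  have h21 : A₀.toBlocks₂₁ = 0 := by
    ext i j
    have hne := (s2.symm i).2
    simp only [hA₀, σ, s1, toBlocks₂₁, hB, Matrix.submatrix_apply, Matrix.of_apply, Matrix.zero_apply]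
    exact blockDiagonal'_apply_ne _ _ _ (fun h => hne h)
  have hA₀e : A₀ = fromBlocks (compMat (f i0) (hf i0) (hfd i0)) 0 0 A₀.toBlocks₂₂ := by
    conv_lhs => rw [← fromBlocks_toBlocks A₀, h11, h12, h21]
  have hsim' : Sim A (A₀.reindex (σ.trans ee) (σ.trans ee)) := by
    refine hsim.trans ?_
    rw [show A₀.reindex (σ.trans ee) (σ.trans ee) = B.reindex ee ee by ext i j; simp [hA₀]]
    exact Sim.refl _
  rw [hA₀e] at hsim'
  have hNo : NoEig (fromBlocks (compMat (f i0) (hf i0) (hfd i0)) 0 0 A₀.toBlocks₂₂) := by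
    have := (hA.sim hsim'.symm).reindex (σ.trans ee).symm
    rwa [show ∀ M : Matrix (Fin (kk i0) ⊕ Fin (Fintype.card {x // ¬ q x})) (Fin (kk i0) ⊕ Fin (Fintype.card {x // ¬ q x})) F,
      (M.reindex (σ.trans ee) (σ.trans ee)).reindex (σ.trans ee).symm (σ.trans ee).symm = M from
        fun M => by ext i j; simp] at this
  obtain ⟨hNo1, hNo2⟩ := noEig_blocks.1 hNo
  have hroot := noEig_compMat.1 hNo1
  -- an irreducible factor
  obtain ⟨p, hp, hpirr, hpdvd⟩ := Polynomial.exists_monic_irreducible_factor (f i0) (fun hu => by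
    have := natDegree_eq_zero_of_isUnit hu
    have := hk1 i0
    rw [← hfd i0] at this
    omega)
  obtain ⟨v, g, hgp, hfg⟩ := WfDvdMonoid.max_power_factor (hf i0).ne_zero hpirr
  have hproot : ∀ a : F, p.eval a ≠ 0 := fun a h => hroot a (by
    obtain ⟨u, hu⟩ := hpdvd; rw [hu, eval_mul, h, zero_mul])
  have hp2 : 2 ≤ p.natDegree := by
    by_contra hlt
    have h1 : p.natDegree = 1 := le_antisymm (by omega) hpirr.natDegree_pos
    refine hproot (-p.coeff 0) ?_
    rw [hp.eq_X_add_C h1]; simp
  have hv : 1 ≤ v := by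
    by_contra h0
    obtain rfl : v = 0 := by omega
    rw [pow_zero, one_mul] at hfg
    exact hgp (hfg ▸ hpdvd)
  have hgm : g.Monic := (hp.pow v).of_mul_monic_left (hfg ▸ hf i0)
  have hdeg : (p ^ v).natDegree + g.natDegree = kk i0 := by
    rw [← hfd i0, hfg, (hp.pow v).natDegree_mul hgm]
  rcases Nat.eq_zero_or_pos g.natDegree with hg0 | hg0
  · have hg1 : g = 1 := eq_one_of_monic_natDegree_zero hgm hg0
    rw [hg1, mul_one] at hfg
    refine ⟨p, v, kk i0, _, hp, by rw [← hfd i0, hfg], σ.trans ee, A₀.toBlocks₂₂, hpirr, hv, hp2, hproot,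
      hNo2, ?_⟩
    rwa [show compMat (f i0) (hf i0) (hfd i0) = compMat (p ^ v) (hp.pow v) (by rw [← hfd i0, hfg]) by
      congr 1] at hsim'
  · have hgroot : ∀ a : F, g.eval a ≠ 0 := fun a h => hroot a (by rw [hfg, eval_mul, h, mul_zero])
    have hg2 : 2 ≤ g.natDegree := by
      by_contra hlt
      refine hgroot (-g.coeff 0) ?_
      rw [hgm.eq_X_add_C (by omega)]; simp
    have hvd : 2 ≤ (p ^ v).natDegree := by
      rw [natDegree_pow]; exact le_mul_of_one_le_of_le hv hp2
    obtain ⟨e₁, N, h1⟩ := exists_tri hg2 hvd g (p ^ v) hgm (hp.pow v) rfl rfl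
      (coeff_zero_of_no_root hgroot)
      (coeff_zero_of_no_root fun a h => hproot a (by rw [eval_pow] at h; exact (pow_eq_zero_iff (by omega)).1 h))
      (f i0) (hf i0) (by have := hfd i0; omega) (by rw [hfg, mul_comm])
    have hco : IsCoprime (p ^ v) g := ((hpirr.coprime_iff_not_dvd).2 hgp).pow_left
    have h2 := (sim_upper (disj_coprime (p ^ v) g (hp.pow v) hgm rfl rfl hco) N).reindex e₁
    have h12 := h1.trans h2
    let c : Fin (g.natDegree + (p ^ v).natDegree) ≃ Fin (kk i0) := finCongr (by omega)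
    let τ : Fin (p ^ v).natDegree ⊕ Fin (g.natDegree + Fintype.card {x // ¬ q x}) ≃ Fin n :=
      ((Equiv.sumCongr (Equiv.refl _) finSumFinEquiv.symm).trans (Equiv.sumAssoc _ _ _).symm).trans
        ((Equiv.sumCongr (e₁.trans c) (Equiv.refl _)).trans (σ.trans ee))
    refine ⟨p, v, (p ^ v).natDegree, g.natDegree + Fintype.card {x // ¬ q x}, hp, rfl, τ,
      (fromBlocks (compMat g hgm rfl) 0 0 A₀.toBlocks₂₂).reindex finSumFinEquiv finSumFinEquiv, hpirr, hv,
      hp2, hproot, (noEig_blocks.2 ⟨noEig_compMat.2 hgroot, hNo2⟩).reindex _, ?_⟩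
    refine hsim'.trans ?_
    have h3 : Sim (compMat (f i0) (hf i0) (hfd i0))
        ((fromBlocks (compMat (p ^ v) (hp.pow v) rfl) 0 0 (compMat g hgm rfl)).reindex (e₁.trans c) (e₁.trans c)) := by
      have h := h12.reindex c
      have gen : ∀ (j : ℕ) (hj : (f i0).natDegree = j) (c' : Fin j ≃ Fin (kk i0)), (∀ x, (c' x).val = x.val) →
          (compMat (f i0) (hf i0) hj).reindex c' c' = compMat (f i0) (hf i0) (hfd i0) := by
        intro j hj c' hc'
        obtain rfl : j = kk i0 := by rw [← hj, hfd i0]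
        rw [show c' = Equiv.refl _ from Equiv.ext fun x => Fin.ext (hc' x)]
        simp
      rw [gen _ _ c (fun x => by simp [c])] at h
      refine h.trans ?_
      rw [show ∀ M : Matrix (Fin (p ^ v).natDegree ⊕ Fin g.natDegree) (Fin (p ^ v).natDegree ⊕ Fin g.natDegree) F,
        (M.reindex e₁ e₁).reindex c c = M.reindex (e₁.trans c) (e₁.trans c) from fun M => by ext i j; simp]
      exact Sim.refl _
    refine ((h3.fromBlocks (Sim.refl A₀.toBlocks₂₂)).reindex (σ.trans ee)).trans ?_
    rw [show ((fromBlocks ((fromBlocks (compMat (p ^ v) (hp.pow v) rfl) 0 0 (compMat g hgm rfl)).reindex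
        (e₁.trans c) (e₁.trans c)) 0 0 A₀.toBlocks₂₂).reindex (σ.trans ee) (σ.trans ee)) =
      (fromBlocks (compMat (p ^ v) (hp.pow v) rfl) 0 0
        ((fromBlocks (compMat g hgm rfl) 0 0 A₀.toBlocks₂₂).reindex finSumFinEquiv finSumFinEquiv)).reindex τ τ by
      ext i j
      obtain ⟨x, rfl⟩ := τ.surjective i
      obtain ⟨y, rfl⟩ := τ.surjective j
      rcases x with a | a <;> rcases y with b | b
      all_goals try obtain ⟨a, rfl⟩ := finSumFinEquiv.surjective a
      all_goals try obtain ⟨b, rfl⟩ := finSumFinEquiv.surjective b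
      all_goals try (rcases a with a | a)
      all_goals try (rcases b with b | b)
      all_goals simp [τ]]
    exact Sim.refl _

/-- The part without eigenvalue and the split part. -/
theorem exists_eigen_part : ∀ {n : ℕ} {A : Matrix (Fin n) (Fin n) F}, Geom1 A → A.det ≠ 0 →
    ∃ (m t : ℕ) (e : Fin m ⊕ Fin t ≃ Fin n) (R : Matrix (Fin m) (Fin m) F) (T : Matrix (Fin t) (Fin t) F),
      NoEig R ∧ Geom1 T ∧ T.charpoly.Splits ∧ T.det ≠ 0 ∧ Sim A ((fromBlocks R 0 0 T).reindex e e) := by
  classical
  intro n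
  induction n using Nat.strong_induction_on with
  | _ n ih =>
    intro A hg hdet
    by_cases hno : NoEig A
    · refine ⟨n, 0, Equiv.sumEmpty _ _, A, 0, hno, fun c v w _ _ hv => absurd (_root_.funext fun i => i.elim0) hv,
        by simp, by simp, ?_⟩
      rw [show (fromBlocks A 0 0 (0 : Matrix (Fin 0) (Fin 0) F)).reindex (Equiv.sumEmpty _ _)
        (Equiv.sumEmpty _ _) = A by ext i j; simp]
      exact Sim.refl A
    · simp only [NoEig, ne_eq, not_forall, not_not] at hno
      obtain ⟨μ, hμ⟩ := hno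
      have hμ0 : μ ≠ 0 := by rintro rfl; exact hdet (by simpa using hμ)
      obtain ⟨a, m, e, B, ha, -, hgB, hsim⟩ := exists_eigen_block hg hμ0 hμ
      have hcard : a + m = n := by simpa using Fintype.card_congr e
      have hB0 : B.det ≠ 0 := fun h => hdet (by
        rw [hsim.det_eq, det_reindex_self, det_fromBlocks_zero₂₁, h, mul_zero])
      obtain ⟨m', t', e', R, T, hR, hgT, hsT, hT0, hBs⟩ := ih m (by omega) hgB hB0
      let τ : Fin m' ⊕ Fin (a + t') ≃ Fin n :=
        ((Equiv.sumCongr (Equiv.refl _) finSumFinEquiv.symm).trans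
          ((Equiv.sumAssoc _ _ _).symm.trans ((Equiv.sumCongr (Equiv.sumComm _ _) (Equiv.refl _)).trans
            ((Equiv.sumAssoc _ _ _).trans (Equiv.sumCongr (Equiv.refl _) e'))))).trans e
      set T' := (fromBlocks (μ • jord F a) 0 0 T).reindex finSumFinEquiv finSumFinEquiv with hT'
      have hjsp : (μ • jord F a).charpoly.Splits := by
        rw [← Matrix.charpoly_transpose, Matrix.charpoly_of_isUpperTriangular]
        · exact Splits.prod fun i _ => Splits.X_sub_C _
        · intro i j hij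
          have hij' : j.val < i.val := hij
          simp [jord, Cfsg.Agent.Classical.RegularUnipotentConj.shift, Matrix.one_apply,
            show ¬ (i.val + 1 = j.val) by omega, Ne.symm (show i ≠ j from fun h => by subst h; omega)]
      have hsim2 : Sim A ((fromBlocks R 0 0 T').reindex τ τ) := by
        refine hsim.trans ((((Sim.refl (μ • jord F a)).fromBlocks hBs).reindex e).trans ?_)
        rw [show (fromBlocks (μ • jord F a) 0 0 ((fromBlocks R 0 0 T).reindex e' e')).reindex e e =
          (fromBlocks R 0 0 T').reindex τ τ by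
          ext i j
          obtain ⟨x, rfl⟩ := τ.surjective i
          obtain ⟨y, rfl⟩ := τ.surjective j
          rcases x with u | u <;> rcases y with w | w
          all_goals try obtain ⟨u, rfl⟩ := finSumFinEquiv.surjective u
          all_goals try obtain ⟨w, rfl⟩ := finSumFinEquiv.surjective w
          all_goals try (rcases u with u | u)
          all_goals try (rcases w with w | w)
          all_goals simp [τ, hT']]
        exact Sim.refl _
      have hgT' : Geom1 T' := by
        have h1 := ((hg.sim hsim2.symm).reindex τ.symm)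
        rw [show ((fromBlocks R 0 0 T').reindex τ τ).reindex τ.symm τ.symm = fromBlocks R 0 0 T' by
          ext i j; simp] at h1
        exact (Geom1.of_blocks h1).2
      refine ⟨m', a + t', τ, R, T', hR, hgT', ?_, ?_, hsim2⟩
      · rw [hT', Matrix.charpoly_reindex, Matrix.charpoly_fromBlocks_zero₂₁]
        exact hjsp.mul hsT
      · rw [hT', det_reindex_self, det_fromBlocks_zero₂₁, det_smul, jord_det, mul_one]
        exact mul_ne_zero (pow_ne_zero _ hμ0) hT0

end Cfsg.Agent.CoverPSL
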