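import Cfsg.Agent.Lib.CoverPSL.Models
import Cfsg.Agent.Lib.CoverPSL.KI
import Cfsg.Agent.Lib.CoverPSL.ThreeS
import Cfsg.Agent.Lib.CoverPSL.Uni

/-!
# Scalar target: an eigenspace of codimension two
-/

set_option autoImplicit false

namespace Cfsg.Agent.CoverPSL

open Matrix Cfsg.Agent.Classical.Thompson

variable {F : Type*} [Field F] [Fintype F]

/-- `K ⊕ k` with `k` not an eigenvalue of `K`. -/
theorem cov_ki (hF : 4 ≤ Fintype.card F) {K : Matrix (Fin 2) (Fin 2) F} {k : F}
    (hK : ∀ a : F, K ≠ a • 1) (hk : k ≠ 0) (hK0 : K.det ≠ 0) (hKk : (K - k • 1).det ≠ 0) :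
    ∀ s : ℕ, Cov (2 + s) (kiBlock (ι := Fin s) K k) ((K.det * k ^ s) • 1)
  | 0 => ki_zero hK k
  | 1 => by
    obtain ⟨w, hw⟩ := exists_not_eigen hK
    have hd : w 0 * (K *ᵥ w) 1 - (K *ᵥ w) 0 * w 1 ≠ 0 := by
      intro hdet
      by_cases h0 : w 0 = 0
      · have h1 : w 1 ≠ 0 := fun h1 => hw 0 (by
          have : w = 0 := funext fun i => by fin_cases i <;> assumption
          simp [this])
        refine hw ((K *ᵥ w) 1 / w 1) (funext fun i => ?_)
        fin_cases i
        · simp [h0] at hdet ⊢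
          exact hdet
        · simp [div_mul_cancel₀ _ h1]
      · refine hw ((K *ᵥ w) 0 / w 0) (funext fun i => ?_)
        fin_cases i
        · simp [div_mul_cancel₀ _ h0]
        · simp only [Fin.mk_one, Pi.smul_apply, smul_eq_mul]
          field_simp
          linear_combination hdet
    set C : Matrix (Fin 3) (Fin 3) F := !![K 0 0, K 0 1, 0; K 1 0, K 1 1, 0; 0, 0, k] with hC
    have hCd : C.det = K.det * k ^ 1 := by simp [hC, det_fin_three, det_fin_two]; ring
    have hv : (kry C ![w 0, w 1, 1]).det ≠ 0 := by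
      have e : (kry C ![w 0, w 1, 1]).det =
          (K - k • 1).det * (w 0 * (K *ᵥ w) 1 - (K *ᵥ w) 0 * w 1) := by
        simp [kry, hC, det_fin_three, det_fin_two, mulVec, dotProduct, Fin.sum_univ_three, Fin.sum_univ_two]
        ring
      rw [e]
      exact mul_ne_zero hKk hd
    have h := (covS_three_scalar hF (by rw [hCd]; exact mul_ne_zero hK0 (pow_ne_zero _ hk)) hv).cov.reindex
      (finSumFinEquiv (m := 2) (n := 1)).symm
    rw [hCd, reindex_smul_one] at h
    convert h using 1
    ext (i | i) (j | j) <;> fin_cases i <;> fin_cases j <;> simp [kiBlock, hC] <;> rfl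
  | s + 2 => by
    have h := ki_step (ι := Fin s) (n' := 2 + s) hK k (by rw [Fintype.card_fin]; omega)
      (by rw [Fintype.card_fin]; exact cov_ki hF hK hk hK0 hKk s)
    rw [Fintype.card_fin] at h
    have h1 := (h.reindex (Equiv.sumCongr (Equiv.refl (Fin 2))
      ((finSumFinEquiv (m := 2) (n := s)).trans (finCongr (by omega : 2 + s = s + 2))))).cast
      (show 2 + (2 + s) = 2 + (s + 2) by omega)
    rw [reindex_smul_one] at h1
    convert h1 using 1
    · ext (i | i) (j | j) <;> simp [kiBlock, Matrix.one_apply]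
    · rw [Nat.add_comm s 2]

/-- Some `A - k` has rank two. -/
theorem covS_one_rank_two (hF : 4 ≤ Fintype.card F) {n : ℕ} (hn : 5 ≤ n) {A : Matrix (Fin n) (Fin n) F}
    (hA : A.det = 1) {k : F} (hr : (A - k • 1).rank = 2) : CovS n A 1 := by
  classical
  have hk : k ≠ 0 := by
    rintro rfl
    have h := rank_of_isUnit A ((isUnit_iff_isUnit_det A).2 (by rw [hA]; exact isUnit_one))
    rw [zero_smul, sub_zero, h, Fintype.card_fin] at hr
    omega
  set N := A - k • 1 with hN
  have hAN : ∀ x, A *ᵥ x = N *ᵥ x + k • x := fun x => by simp [N, sub_mulVec, smul_mulVec]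
  set I := LinearMap.range N.mulVecLin with hI
  set K := LinearMap.ker N.mulVecLin with hK
  have hIN : ∀ x, N *ᵥ x ∈ I := fun x => ⟨x, rfl⟩
  have hKN : ∀ x, x ∈ K ↔ N *ᵥ x = 0 := fun x => LinearMap.mem_ker
  have hIf : Module.finrank F I = 2 := hr
  obtain ⟨r, rfl⟩ : ∃ r, n = 2 + r := ⟨n - 2, by omega⟩
  have hKf : Module.finrank F K = r := by
    have h := LinearMap.finrank_range_add_finrank_ker N.mulVecLin
    rw [Module.finrank_pi, Fintype.card_fin, ← hI, ← hK] at h
    omega
  by_cases hinj : ∀ x ∈ I, N *ᵥ x = 0 → x = 0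
  · -- `K ⊕ k`
    let bi := Module.finBasisOfFinrankEq F I hIf
    let bk := Module.finBasisOfFinrankEq F K hKf
    have hAI : ∀ x ∈ I, A *ᵥ x ∈ I := fun x hx => by
      rw [hAN]; exact I.add_mem (hIN x) (I.smul_mem k hx)
    let L : Matrix (Fin 2) (Fin 2) F := Matrix.of fun l j => bi.repr ⟨_, hAI _ (bi j).2⟩ l
    let v : Fin 2 ⊕ Fin r → Fin (2 + r) → F := Sum.elim (fun j => bi j) (fun j => bk j)
    have hL : ∀ j, A *ᵥ (bi j : Fin (2 + r) → F) = ∑ l, L l j • (bi l : Fin (2 + r) → F) := fun j => by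
      have := congrArg Subtype.val (bi.sum_repr ⟨_, hAI _ (bi j).2⟩)
      rw [AddSubmonoidClass.coe_finsetSum] at this
      exact this.symm
    have hKA : ∀ j, A *ᵥ (bk j : Fin (2 + r) → F) = k • (bk j : Fin (2 + r) → F) := fun j => by
      rw [hAN, (hKN _).1 (bk j).2, zero_add]
    have hIv : I ≤ Submodule.span F (Set.range v) := fun x hx => by
      have := congrArg Subtype.val (bi.sum_repr ⟨x, hx⟩)
      rw [AddSubmonoidClass.coe_finsetSum] at this
      rw [← show _ = x from this]
      exact Submodule.sum_mem _ fun l _ => Submodule.smul_mem _ _ (Submodule.subset_span ⟨Sum.inl l, rfl⟩)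
    have hKv : K ≤ Submodule.span F (Set.range v) := fun x hx => by
      have := congrArg Subtype.val (bk.sum_repr ⟨x, hx⟩)
      rw [AddSubmonoidClass.coe_finsetSum] at this
      rw [← show _ = x from this]
      exact Submodule.sum_mem _ fun l _ => Submodule.smul_mem _ _ (Submodule.subset_span ⟨Sum.inr l, rfl⟩)
    let f : I →ₗ[F] I := N.mulVecLin.restrict fun x _ => hIN x
    have hf : Function.Injective f := by
      refine (injective_iff_map_eq_zero f).2 fun x hx => Subtype.ext (hinj x x.2 ?_)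
      exact congrArg Subtype.val hx
    have hsp : ∀ x, x ∈ Submodule.span F (Set.range v) := fun x => by
      obtain ⟨i, hi⟩ := LinearMap.injective_iff_surjective.1 hf ⟨_, hIN x⟩
      have hi' : N *ᵥ (i : Fin (2 + r) → F) = N *ᵥ x := congrArg Subtype.val hi
      have h1 : x - i ∈ K := (hKN _).2 (by rw [mulVec_sub, hi', sub_self])
      simpa using add_mem (hKv h1) (hIv i.2)
    have hsim : Sim A ((kiBlock L k).reindex finSumFinEquiv finSumFinEquiv) := by
      refine sim_of_fam finSumFinEquiv _ v hsp fun j => ?_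
      rcases j with j | j
      · simp [v, kiBlock, hL, Fintype.sum_sum_type]
      · simp [v, kiBlock, hKA, Fintype.sum_sum_type, Matrix.one_apply]
    have hdet : L.det * k ^ r = 1 := by
      rw [← hA, hsim.det_eq, det_reindex_self, kiBlock, det_fromBlocks_zero₂₁]
      simp [det_smul]
    by_cases hs : ∀ a : F, L ≠ a • 1
    · have hL0 : L.det ≠ 0 := fun h => by rw [h, zero_mul] at hdet; exact zero_ne_one hdet
      have hLk : (L - k • 1).det ≠ 0 := by
        intro h
        obtain ⟨c, hc, hc0⟩ := exists_mulVec_eq_zero_iff.2 h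
        rw [sub_mulVec, smul_mulVec, one_mulVec, sub_eq_zero] at hc0
        set x := ∑ j, c j • (bi j : Fin (2 + r) → F) with hx
        have hxA : A *ᵥ x = k • x := by
          rw [hx, mulVec_sum, Finset.smul_sum]
          simp only [mulVec_smul, hL, Finset.smul_sum, smul_smul]
          rw [Finset.sum_comm]
          refine Finset.sum_congr rfl fun l _ => ?_
          rw [← Finset.sum_smul, show ∑ j, c j * L l j = k * c l by
            have := congrFun hc0 l
            simpa [mulVec, dotProduct, mul_comm] using this]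
        have hxI : x ∈ I := Submodule.sum_mem _ fun j _ => I.smul_mem _ (bi j).2
        have hx0 : x = 0 := hinj x hxI (by simpa [hAN] using hxA)
        refine hc (funext fun j => Fintype.linearIndependent_iff.1 bi.linearIndependent c ?_ j)
        refine Subtype.ext ?_
        rw [AddSubmonoidClass.coe_finsetSum]
        simpa [hx] using hx0
      have h := cov_ki hF hs hk hL0 hLk r
      rw [hdet, one_smul] at h
      exact covS_one_of_model _ hsim
        ((centFull_smul_one (⟨0, by omega⟩ : Fin r) k).fromBlocks_right L) h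
    · push Not at hs
      obtain ⟨a, ha⟩ := hs
      refine covS_one_of_eigen (by omega) hA fun x => (Submodule.span_mono ?_) (hsp x)
      rintro _ ⟨j | j, rfl⟩
      · refine ⟨a, ?_⟩
        show A *ᵥ (bi j : Fin (2 + r) → F) = _
        rw [hL, ha]
        simp [v, Matrix.one_apply]
      · exact ⟨k, hKA j⟩
  push Not at hinj
  obtain ⟨x, hxI, hNx, hx0⟩ := hinj
  obtain ⟨i, hiI, hix⟩ : ∃ i ∈ I, i ∉ Submodule.span F {x} := by
    by_contra hall
    push Not at hall
    have h1 := Submodule.finrank_mono (show I ≤ Submodule.span F {x} from hall)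
    rw [hIf, finrank_span_singleton hx0] at h1
    omega
  have hpair : LinearIndependent F ![x, i] :=
    pair_indep hx0 fun t h => hix (Submodule.mem_span_singleton.2 ⟨t, h.symm⟩)
  have hIspan : Submodule.span F (Set.range ![x, i]) = I :=
    Submodule.eq_of_le_of_finrank_eq (Submodule.span_le.2 (by rintro _ ⟨l, rfl⟩; fin_cases l <;> assumption))
      (by rw [finrank_span_eq_card hpair, hIf, Fintype.card_fin])
  have hmem : ∀ w ∈ I, ∃ α β : F, w = α • x + β • i := fun w hw => by
    obtain ⟨c, hc⟩ := (Submodule.mem_span_range_iff_exists_fun F).1 (hIspan.ge hw)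
    exact ⟨c 0, c 1, by rw [← hc, Fin.sum_univ_two]; rfl⟩
  obtain ⟨α, μ, hNi⟩ := hmem _ (hIN i)
  by_cases hμ : μ = 0
  · -- nilpotent
    have h3 : N ^ 3 = 0 := by
      refine ext_of_mulVec_single fun j => ?_
      obtain ⟨a, b, hab⟩ := hmem _ (hIN (Pi.single j 1))
      rw [zero_mulVec, pow_succ, pow_two, ← mulVec_mulVec, ← mulVec_mulVec, hab]
      simp [mulVec_add, mulVec_smul, hNx, hNi, hμ]
    simpa [hA] using covS_uni (by omega) hn hk h3
  -- `J₂ ⊕ a ⊕ k`
  set e := i + (α / μ) • x with he
  have heI : e ∈ I := I.add_mem hiI (I.smul_mem _ hxI)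
  have hNe : N *ᵥ e = μ • e := by
    rw [he, mulVec_add, mulVec_smul, hNx, smul_zero, add_zero, hNi, smul_add, smul_smul,
      mul_div_cancel₀ _ hμ]
    abel
  obtain ⟨y, hy⟩ := hxI
  replace hy : N *ᵥ y = x := hy
  have hxK : x ∈ K := (hKN x).2 hNx
  obtain ⟨φ, hφx, -⟩ := exists_covec (S := ⊥) (x := x) (by simpa using hx0)
  let g : K →ₗ[F] F := (dotProductEquiv F (Fin (2 + r)) φ).comp K.subtype
  have hg : g ≠ 0 := fun h => hφx (LinearMap.congr_fun h ⟨x, hxK⟩)
  obtain ⟨t, rfl⟩ : ∃ t, r = 1 + t := ⟨r - 1, by omega⟩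
  have hgf : Module.finrank F (LinearMap.ker g) = t := by
    have h : Module.finrank F (LinearMap.ker g) + 1 = Module.finrank F K :=
      Module.Dual.finrank_ker_add_one_of_ne_zero (f := (g : Module.Dual F K)) hg
    rw [hKf] at h
    omega
  set K' := (LinearMap.ker g).map K.subtype with hK'
  have hK'f : Module.finrank F K' = t := by rw [hK', Submodule.finrank_map_subtype_eq, hgf]
  have hK'K : ∀ z ∈ K', z ∈ K := fun z hz => by
    obtain ⟨u, -, rfl⟩ := hz
    exact u.2
  let bg := Module.finBasisOfFinrankEq F K' hK'f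
  set a := k + μ with ha
  let v : Fin 2 ⊕ (Fin 1 ⊕ Fin t) → Fin (2 + (1 + t)) → F :=
    Sum.elim ![y, k⁻¹ • x] (Sum.elim (fun _ => e) fun j => (bg j : Fin (2 + (1 + t)) → F))
  let σ : Fin 2 ⊕ (Fin 1 ⊕ Fin t) ≃ Fin (2 + (1 + t)) :=
    (Equiv.sumCongr (Equiv.refl _) finSumFinEquiv).trans finSumFinEquiv
  have hsim : Sim A ((fromBlocks (k • jord F 2) 0 0
      (fromBlocks (a • (1 : Matrix (Fin 1) (Fin 1) F)) 0 0 (k • (1 : Matrix (Fin t) (Fin t) F)))).reindex σ σ) := by
    refine sim_of_fam σ _ v ?_ ?_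
    · have hys : y ∈ Submodule.span F (Set.range v) := Submodule.subset_span ⟨Sum.inl 0, rfl⟩
      have hxs : x ∈ Submodule.span F (Set.range v) := by
        have h1 : v (Sum.inl 1) ∈ Submodule.span F (Set.range v) := Submodule.subset_span ⟨_, rfl⟩
        have h2 := Submodule.smul_mem _ k h1
        simpa [v, smul_smul, hk] using h2
      have hes : e ∈ Submodule.span F (Set.range v) := Submodule.subset_span ⟨Sum.inr (Sum.inl 0), rfl⟩
      have hKs : ∀ z ∈ K, z ∈ Submodule.span F (Set.range v) := fun z hz => by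
        set c := (φ ⬝ᵥ z) / (φ ⬝ᵥ x)
        have hz' : z - c • x ∈ K' := ⟨⟨z - c • x, K.sub_mem hz (K.smul_mem c hxK)⟩, by
          simp [g, dotProduct_sub, dotProduct_smul, c, hφx], rfl⟩
        have := congrArg Subtype.val (bg.sum_repr ⟨_, hz'⟩)
        simp only [AddSubmonoidClass.coe_finsetSum, Submodule.coe_smul] at this
        have h1 : z - c • x ∈ Submodule.span F (Set.range v) := by
          rw [← this]
          exact Submodule.sum_mem _ fun l _ =>
            Submodule.smul_mem _ _ (Submodule.subset_span ⟨Sum.inr (Sum.inr l), rfl⟩)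
        simpa using add_mem h1 (Submodule.smul_mem _ c hxs)
      intro w
      obtain ⟨c, d, hcd⟩ := hmem _ (hIN w)
      have hd : N *ᵥ w = (c - d * (α / μ)) • x + d • e := by rw [hcd, he]; module
      have h1 : w - (c - d * (α / μ)) • y - (d / μ) • e ∈ K := by
        rw [hKN, mulVec_sub, mulVec_sub, mulVec_smul, mulVec_smul, hy, hNe, hd, smul_smul,
          div_mul_cancel₀ _ hμ]
        abel
      simpa using add_mem (add_mem (hKs _ h1) (Submodule.smul_mem _ (d / μ) hes))
        (Submodule.smul_mem _ (c - d * (α / μ)) hys)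
    · rintro (j | j | j)
      · fin_cases j
        · simp [v, hAN, hy, Fintype.sum_sum_type, jord, Classical.RegularUnipotentConj.shift, Matrix.one_apply,
            smul_smul, hk, add_comm]
        · simp [v, hAN, mulVec_smul, hNx, Fintype.sum_sum_type, jord, Classical.RegularUnipotentConj.shift,
            Matrix.one_apply, smul_smul]
      · simp [v, hAN, hNe, Fintype.sum_sum_type, Matrix.one_apply, Fin.fin_one_eq_zero, ha, add_smul, add_comm]
      · have hj : N *ᵥ (bg j : Fin (2 + (1 + t)) → F) = 0 := (hKN _).1 (hK'K _ (bg j).2)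
        simp [v, hAN, hj, Fintype.sum_sum_type, Matrix.one_apply]
  have ha0 : a ≠ 0 := by
    intro h
    have h1 := hsim.det_eq
    rw [hA, det_reindex_self] at h1
    simp [h] at h1
  have hdet : k ^ 2 * (a * (k • (1 : Matrix (Fin t) (Fin t) F)).det) = 1 := by
    rw [← hA, hsim.det_eq, det_reindex_self]
    simp [det_smul, jord_det]
  refine covS_one_of_model σ hsim (((centFull_smul_one 0 a).fromBlocks_left _).fromBlocks_right _) ?_
  refine mix_cov hF (by omega) hk ha0 (by simpa [ha] using hμ) (Sim.refl _) hdet ?_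
  -- the diagonal part
  have hak : a * k ^ t = (k ^ 2)⁻¹ := by
    refine eq_inv_of_mul_eq_one_right ?_
    simpa [det_smul] using hdet
  have he0 : (((a * (k • (1 : Matrix (Fin t) (Fin t) F)).det) ^ (1 + t) *
      (k • (1 : Matrix (Fin t) (Fin t) F)).det ^ 2))⁻¹ = k * k := by
    simp only [det_smul, det_one, Fintype.card_fin, mul_one, hak]
    rw [inv_pow, mul_inv, inv_inv, ← pow_mul, ← pow_mul, show 2 * (1 + t) = t * 2 + 2 by ring, pow_add]
    field_simp
  rw [he0, Matrix.smul_mul, Matrix.one_mul, smul_smul]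
  let d : Fin (1 + t) → F := Fin.append (fun _ => a) fun _ => k
  have h := (cov_diag d).reindex (finSumFinEquiv (m := 1) (n := t)).symm
  rw [show (∏ l, d l) = (k * k)⁻¹ by simp [d, Fin.prod_univ_add, hak, pow_two], reindex_smul_one] at h
  convert h using 1
  · ext (p | p) (q | q) <;> simp [d, Matrix.diagonal_apply, Matrix.one_apply, Fin.ext_iff]
    omega
  · refine inv_eq_left_inv ?_
    rw [Matrix.smul_mul, Matrix.one_mul, fromBlocks_smul]
    simp only [smul_smul, smul_zero]
    rw [inv_mul_cancel₀ (mul_ne_zero hk hk), one_smul, one_smul, fromBlocks_one]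

end Cfsg.Agent.CoverPSL
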