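import Cfsg.Agent.Lib.CoverPSL.Split

/-!
# Splitting off a semisimple eigenvector
-/

set_option autoImplicit false

namespace Cfsg.Agent.CoverPSL

open Matrix Cfsg.Agent.Classical.Thompson

variable {F : Type*} [Field F] {m : ℕ}

/-- An eigenvector outside the image of `A - k` splits off. -/
theorem exists_split_line (hm : 2 ≤ m) {A : Matrix (Fin (1 + m)) (Fin (1 + m)) F} {k : F}
    {v : Fin (1 + m) → F} (hAv : A *ᵥ v = k • v) (hv : v ∉ LinearMap.range (A - k • 1).mulVecLin) :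
    ∃ B : Matrix (Fin m) (Fin m) F,
      SimD 1 A ((corner k 0 B).reindex finSumFinEquiv finSumFinEquiv) := by
  classical
  obtain ⟨φ, hφv, hφI⟩ := exists_covec hv
  have hv0 : v ≠ 0 := fun h => hv (by rw [h]; exact zero_mem _)
  obtain ⟨P, a, A', hP, hPe, hform⟩ := exists_corner hm hv0 hAv
  have hu : IsUnit P.det := by rw [hP]; exact isUnit_one
  set e := finSumFinEquiv (m := 1) (n := m)
  set ψ := (φ ⬝ᵥ v)⁻¹ • φ with hψ
  have hψv : ψ ⬝ᵥ v = 1 := by rw [hψ, smul_dotProduct, smul_eq_mul, inv_mul_cancel₀ hφv]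
  have hψI : ∀ x, ψ ⬝ᵥ (A *ᵥ x) = k * (ψ ⬝ᵥ x) := fun x => by
    have h := hφI _ ⟨x, rfl⟩
    rw [mulVecLin_apply, sub_mulVec, smul_mulVec, one_mulVec, dotProduct_sub, dotProduct_smul, sub_eq_zero] at h
    rw [hψ, smul_dotProduct, smul_dotProduct, h, smul_eq_mul, smul_eq_mul, smul_eq_mul]
    ring
  set b : Fin m → F := fun j => (ψ ᵥ* P) (e (Sum.inr j)) with hb
  have hbc : (ψ ᵥ* P) ∘ e = Sum.elim (fun _ => 1) b := by
    funext i
    rcases i with i | i
    · have h1 : (ψ ᵥ* P) (e (Sum.inl 0)) = ψ ⬝ᵥ (P *ᵥ Pi.single (e (Sum.inl 0)) 1) := by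
        rw [mulVec_single_one]; rfl
      rw [Function.comp_apply, Subsingleton.elim i 0, h1, hPe, hψv]
      rfl
    · rfl
  have hkey : ∀ x : Fin 1 ⊕ Fin m → F,
      Sum.elim (fun _ => 1) b ⬝ᵥ (corner k a A' *ᵥ x) = k * (Sum.elim (fun _ => 1) b ⬝ᵥ x) := by
    intro x
    have h1 : ψ ⬝ᵥ (A *ᵥ (P *ᵥ (x ∘ e.symm))) = k * (ψ ⬝ᵥ (P *ᵥ (x ∘ e.symm))) := hψI _
    rw [show A *ᵥ (P *ᵥ (x ∘ e.symm)) = P *ᵥ (((corner k a A').reindex e e) *ᵥ (x ∘ e.symm)) by
      rw [← hform, mulVec_mulVec, mulVec_mulVec, ← Matrix.mul_assoc, ← Matrix.mul_assoc,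
        mul_nonsing_inv _ hu, Matrix.one_mul], dotProduct_mulVec _ P, dotProduct_mulVec _ P] at h1
    have hre : ((corner k a A').reindex e e) *ᵥ (x ∘ e.symm) = (corner k a A' *ᵥ x) ∘ e.symm := by
      rw [reindex_apply, submatrix_mulVec_equiv]
      congr 2
      funext i; simp
    rw [hre] at h1
    have hdot : ∀ y : Fin 1 ⊕ Fin m → F, (ψ ᵥ* P) ⬝ᵥ (y ∘ e.symm) = ((ψ ᵥ* P) ∘ e) ⬝ᵥ y := fun y => by
      simp only [dotProduct, ← e.sum_comp, Function.comp_apply, Equiv.symm_apply_apply]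
    rwa [hdot, hdot, hbc] at h1
  have hab : a = (-b) ᵥ* (A' - k • 1) := by
    funext j
    have h := hkey (Pi.single (Sum.inr j) 1)
    rw [mulVec_single_one] at h
    simp [dotProduct, corner, Fintype.sum_sum_type, Pi.single_apply] at h
    simp only [vecMul, dotProduct, Matrix.sub_apply, Matrix.smul_apply, Matrix.one_apply, smul_eq_mul,
      mul_ite, mul_one, mul_zero, Pi.neg_apply, neg_mul, mul_sub, Finset.sum_neg_distrib,
      Finset.sum_sub_distrib, Finset.sum_ite_eq', Finset.mem_univ, if_true]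
    linear_combination h
  refine ⟨A', ?_⟩
  have h1 : SimD 1 A ((corner k a A').reindex e e) :=
    ⟨P, hP, by rw [← hform, ← Matrix.mul_assoc, ← Matrix.mul_assoc, mul_nonsing_inv _ hu, Matrix.one_mul]⟩
  have h2 : SimD 1 (corner k a A') (corner k 0 A') := by
    refine ⟨corner 1 (-b) 1, by simp [corner_det], ?_⟩
    rw [corner_mul, corner_mul, vecMul_one, one_smul, one_mul, mul_one, Matrix.one_mul, Matrix.mul_one, hab,
      vecMul_sub, vecMul_smul, vecMul_one]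
    congr 1
    abel
  simpa using h1.trans (h2.reindex e)

end Cfsg.Agent.CoverPSL
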