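import Cfsg.Agent.Lib.CoverPSL.Models
import Cfsg.Agent.Lib.CoverPSL.SplitLine
import Cfsg.Agent.Lib.CoverPSL.Cyc
import Cfsg.Agent.Lib.CoverPSL.FourS
import Cfsg.Agent.Lib.CoverPSL.Geom1Cover

/-!
# Scalar target in dimension four
-/

set_option autoImplicit false

namespace Cfsg.Agent.CoverPSL

open Matrix Polynomial Cfsg.Agent.Classical.Thompson

variable {F : Type*} [Field F]

theorem cyc_of_kry {A : Matrix (Fin 3) (Fin 3) F} {v : Fin 3 → F} (hv : (kry A v).det ≠ 0) : Cyc A := by
  refine ⟨v, fun S hS hinv => ?_⟩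
  have hcols : ∀ j, (fun i => kry A v i j) ∈ S := by
    intro j
    fin_cases j
    · simpa [kry] using hS
    · simpa [kry] using hinv _ hS
    · simpa [kry] using hinv _ (hinv _ hS)
  refine Submodule.eq_top_iff'.2 fun x => ?_
  have e : x = ∑ j, ((kry A v)⁻¹ *ᵥ x) j • fun i => kry A v i j := by
    have h1 : kry A v *ᵥ ((kry A v)⁻¹ *ᵥ x) = x := by
      rw [mulVec_mulVec, mul_nonsing_inv _ (isUnit_iff_ne_zero.2 hv), one_mulVec]
    conv_lhs => rw [← h1]
    funext i
    simp [mulVec, dotProduct, Fin.sum_univ_three, mul_comm]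
  rw [e]
  exact Submodule.sum_mem _ fun j _ => S.smul_mem _ (hcols j)

theorem Cyc.reindex {ι κ : Type*} [Fintype ι] [DecidableEq ι] [Fintype κ] [DecidableEq κ] {A : Matrix ι ι F}
    (h : Cyc A) (e : ι ≃ κ) : Cyc (A.reindex e e) := by
  obtain ⟨v, hv⟩ := h
  refine ⟨v ∘ e.symm, fun S hS hinv => ?_⟩
  let f : (ι → F) →ₗ[F] (κ → F) := LinearMap.funLeft F F e.symm
  have h1 := hv (S.comap f) hS fun x hx => by
    have h2 := hinv _ hx
    have e' : A.reindex e e *ᵥ f x = f (A *ᵥ x) := by
      rw [reindex_apply, submatrix_mulVec_equiv]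
      simp [f, LinearMap.funLeft, Function.comp_def]
    rw [Submodule.mem_comap, ← e']
    exact h2
  refine Submodule.eq_top_iff'.2 fun x => ?_
  have h2 : x ∘ e ∈ S.comap f := h1 ▸ Submodule.mem_top
  rw [Submodule.mem_comap] at h2
  simpa [f, LinearMap.funLeft, Function.comp_def] using h2

variable [Fintype F]

/-- An eigenvalue and lines as eigenspaces: a cyclic matrix. -/
theorem covS_four_one_geom1 (hF : 4 ≤ Fintype.card F) {A : Matrix (Fin 4) (Fin 4) F} (hA : A.det = 1)
    (hg : Geom1 A) : CovS 4 A 1 := by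
  classical
  by_cases hne : NoEig A
  · exact covS_four_one_noEig hF hne hA
  simp only [NoEig, not_forall, not_not] at hne
  obtain ⟨c, hc⟩ := hne
  obtain ⟨v, hv, hv0⟩ := exists_mulVec_eq_zero_iff.2 hc
  rw [sub_mulVec, smul_mulVec, one_mulVec, sub_eq_zero] at hv0
  obtain ⟨P, a, A', hP, -, hform⟩ := exists_corner (m := 3) (by norm_num) hv hv0
  have hu : IsUnit P.det := by rw [hP]; exact isUnit_one
  have hsim : Sim A ((corner c a A').reindex finSumFinEquiv finSumFinEquiv) :=
    ⟨P, P⁻¹, mul_nonsing_inv _ hu, by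
      rw [← hform, ← Matrix.mul_assoc, ← Matrix.mul_assoc, mul_nonsing_inv _ hu, Matrix.one_mul, Matrix.mul_assoc,
        mul_nonsing_inv _ hu, Matrix.mul_one]⟩
  have hgc : Geom1 (corner c a A') := by
    have h1 : Geom1 ((corner c a A').reindex finSumFinEquiv finSumFinEquiv) := hg.sim hsim.symm
    simpa using h1.reindex (finSumFinEquiv (m := 1) (n := 3)).symm
  have hw : Wide A' := by
    intro x
    have h1 := (rank_corner (c - x) a (A' - x • 1)).1
    have h2 : (A - x • 1).rank = (corner (c - x) a (A' - x • 1)).rank := by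
      have h3 : Sim (A - x • 1) ((corner (c - x) a (A' - x • 1)).reindex finSumFinEquiv finSumFinEquiv) := by
        obtain ⟨P, Q, hPQ, e⟩ := hsim
        refine ⟨P, Q, hPQ, ?_⟩
        have e' : (corner (c - x) a (A' - x • 1)).reindex finSumFinEquiv finSumFinEquiv =
            (corner c a A').reindex finSumFinEquiv finSumFinEquiv - x • 1 := by
          ext i j
          obtain ⟨i, rfl⟩ := (finSumFinEquiv (m := 1) (n := 3)).surjective i
          obtain ⟨j, rfl⟩ := (finSumFinEquiv (m := 1) (n := 3)).surjective j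
          rcases i with i | i <;> rcases j with j | j <;> simp [corner, Matrix.one_apply, Fin.fin_one_eq_zero]
        rw [e', Matrix.mul_sub, Matrix.sub_mul, ← e, Matrix.mul_smul, Matrix.mul_one, Matrix.smul_mul, hPQ]
      rw [rank_sim h3, rank_reindex]
    have h3 : 3 ≤ (A - x • 1).rank := by
      have h4 := LinearMap.finrank_range_add_finrank_ker (A - x • 1).mulVecLin
      rw [Module.finrank_pi, Fintype.card_fin, ← Matrix.rank] at h4
      have h5 : Module.finrank F (LinearMap.ker (A - x • 1).mulVecLin) ≤ 1 := by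
        by_cases h6 : LinearMap.ker (A - x • 1).mulVecLin = ⊥
        · rw [h6, finrank_bot]; omega
        obtain ⟨y, hy, hy0⟩ := Submodule.exists_mem_ne_zero_of_ne_bot h6
        have mem : ∀ z, z ∈ LinearMap.ker (A - x • 1).mulVecLin → A *ᵥ z = x • z := fun z hz => by
          rwa [LinearMap.mem_ker, mulVecLin_apply, sub_mulVec, smul_mulVec, one_mulVec, sub_eq_zero] at hz
        refine (Submodule.finrank_mono (show _ ≤ Submodule.span F {y} from fun z hz => ?_)).trans_eq
          (finrank_span_singleton hy0)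
        obtain ⟨t, rfl⟩ := hg x y z (mem y hy) (mem z hz) hy0
        exact Submodule.mem_span_singleton.2 ⟨t, rfl⟩
      omega
    omega
  obtain ⟨w, hw'⟩ := exists_kry_of_wide hF hw
  have hcyc : Cyc A := ((cyc_ext hgc (cyc_of_kry hw')).reindex finSumFinEquiv).sim hsim
  obtain ⟨δ, f, hf, hd, hδ, hsD⟩ := hcyc.simD (by norm_num)
  exact covS_four_one hF (by norm_num) hA f hf hd hδ hsD

/-- `k ⊕ B` with `B` cyclic. -/
theorem covS_four_one_split (hF : 4 ≤ Fintype.card F) {A : Matrix (Fin 4) (Fin 4) F} (hA : A.det = 1)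
    (hw : Wide A) {k : F} (hk : (A - k • 1).rank = 2) {v : Fin 4 → F} (hv : A *ᵥ v = k • v)
    (hvI : v ∉ LinearMap.range (A - k • 1).mulVecLin) (huniq : ∀ x : F, (A - x • 1).rank = 2 → x = k) :
    CovS 4 A 1 := by
  classical
  have hk0 : k ≠ 0 := by
    rintro rfl
    have h := rank_of_isUnit A ((isUnit_iff_isUnit_det A).2 (by rw [hA]; exact isUnit_one))
    rw [zero_smul, sub_zero, h, Fintype.card_fin] at hk
    omega
  obtain ⟨B, hB⟩ := exists_split_line (m := 3) (by norm_num) hv hvI
  have hs : Sim A ((corner k 0 B).reindex finSumFinEquiv finSumFinEquiv) := hB.sim one_ne_zero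
  have hrk : ∀ x : F, (A - x • 1).rank = (corner (k - x) 0 (B - x • 1)).rank := by
    intro x
    have h3 : Sim (A - x • 1) ((corner (k - x) 0 (B - x • 1)).reindex finSumFinEquiv finSumFinEquiv) := by
      obtain ⟨P, Q, hPQ, e⟩ := hs
      refine ⟨P, Q, hPQ, ?_⟩
      have e' : (corner (k - x) (0 : Fin 3 → F) (B - x • 1)).reindex finSumFinEquiv finSumFinEquiv =
          (corner k (0 : Fin 3 → F) B).reindex finSumFinEquiv finSumFinEquiv - x • 1 := by
        ext i j
        obtain ⟨i, rfl⟩ := (finSumFinEquiv (m := 1) (n := 3)).surjective i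
        obtain ⟨j, rfl⟩ := (finSumFinEquiv (m := 1) (n := 3)).surjective j
        rcases i with i | i <;> rcases j with j | j <;> simp [corner, Matrix.one_apply, Fin.fin_one_eq_zero]
      rw [e', Matrix.mul_sub, Matrix.sub_mul, ← e, Matrix.mul_smul, Matrix.mul_one, Matrix.smul_mul, hPQ]
    rw [rank_sim h3, rank_reindex]
  have hBw : Wide B := by
    intro x
    have h1 := (rank_corner (k - x) 0 (B - x • 1)).1
    rw [← hrk] at h1
    rcases eq_or_ne x k with rfl | hx
    · by_contra hlt
      have h2 := (rank_corner (x - x) (0 : Fin 3 → F) (B - x • 1)).2 (by rw [← hrk, hk]; omega)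
      obtain ⟨y, hy⟩ := h2
      have := congrFun hy (Sum.inl 0)
      simp [corner, mulVec, dotProduct, Fintype.sum_sum_type] at this
    · have h3 : (A - x • 1).rank ≠ 2 := fun h => hx (huniq x h)
      have h4 := hw x
      omega
  obtain ⟨w, hwk⟩ := exists_kry_of_wide hF hBw
  have hdet : k * B.det = 1 := by
    rw [← hA, hs.det_eq, det_reindex_self, corner_det]
  have hB0 : B.det ≠ 0 := fun h => by rw [h, mul_zero] at hdet; exact zero_ne_one hdet
  have hBd : B.det = k⁻¹ := eq_inv_of_mul_eq_one_right hdet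
  -- a product of two conjugates similar to its inverse
  suffices h : ∃ D : Matrix (Fin 3) (Fin 3) F, ∃ P : Matrix (Fin 1 ⊕ Fin 3) (Fin 1 ⊕ Fin 3) F,
      Cov 2 B D ∧ P * P = 1 ∧
      fromBlocks ((k * k) • (1 : Matrix (Fin 1) (Fin 1) F)) 0 0 D * P *
        fromBlocks ((k * k) • (1 : Matrix (Fin 1) (Fin 1) F)) 0 0 D = P by
    obtain ⟨D, P, hD, hPP, hP⟩ := h
    have hc : corner k (0 : Fin 3 → F) B = fromBlocks (k • 1) 0 0 B := by
      ext (i | i) (j | j) <;> simp [corner]
    have hk2 : Cov 2 (k • (1 : Matrix (Fin 1) (Fin 1) F)) ((k * k) • 1) := by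
      have := (Cov.single (Sim.refl (k • (1 : Matrix (Fin 1) (Fin 1) F)))).add (Cov.single (Sim.refl (k • (1 : Matrix (Fin 1) (Fin 1) F))))
      simpa [smul_smul] using this
    set M := fromBlocks ((k * k) • (1 : Matrix (Fin 1) (Fin 1) F)) 0 0 D
    have hM : Cov 2 (fromBlocks (k • 1) 0 0 B) M := hk2.fromBlocks hD
    have hM' : Cov 2 (fromBlocks (k • 1) 0 0 B) (P * M * P) := hM.conj ⟨P, P, hPP, rfl⟩
    have h4 := hM.add hM'
    rw [show M * (P * M * P) = M * P * M * P by simp only [Matrix.mul_assoc], hP, hPP] at h4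
    rw [hc] at hs
    exact covS_one_of_model _ hs ((centFull_smul_one 0 k).fromBlocks_left _) h4
  by_cases hk1 : k * k = 1
  · -- spectrum `1, γ, 1/γ`
    obtain ⟨γ, -, hγ⟩ := Finset.exists_mem_notMem_of_card_lt_card (s := ({0, 1, -1} : Finset F))
      (t := Finset.univ) (lt_of_le_of_lt Finset.card_le_three (by rw [Finset.card_univ]; omega))
    simp only [Finset.mem_insert, Finset.mem_singleton, not_or] at hγ
    have hγ1 : (1 : F) ≠ γ⁻¹ := fun h => hγ.2.1 (by simpa using (congrArg (·⁻¹) h).symm)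
    have hγγ : γ ≠ γ⁻¹ := fun h => by
      have h1 : γ * γ = 1 := by nth_rw 2 [h]; exact mul_inv_cancel₀ hγ.1
      exact (mul_self_eq_one_iff.1 h1).elim hγ.2.1 hγ.2.2
    obtain ⟨T, hTg, hTc, hT⟩ := exists_pair_three hF hB0 hwk ![1, γ, γ⁻¹]
      (fun i => by fin_cases i <;> simp [hγ.1]) ⟨Ne.symm hγ.2.1, hγ1⟩
      (by rw [Fin.prod_univ_three, hBd, inv_pow, pow_two, hk1]; simp [hγ.1])
    refine ⟨diagonal ![1, γ, γ⁻¹], fromBlocks 1 0 0 !![1, 0, 0; 0, 0, 1; 0, 1, 0], ?_, ?_, ?_⟩
    · refine hT.cov.conj (geom1_sim 3 _ T ?_ hTg ?_ ?_ ?_)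
      · intro c v w hv' hw' hv0
        have key : ∀ z : Fin 3 → F, diagonal ![1, γ, γ⁻¹] *ᵥ z = c • z → ∀ i, (![1, γ, γ⁻¹] i - c) * z i = 0 :=
          fun z hz i => by
            have := congrFun hz i
            rw [mulVec_diagonal, Pi.smul_apply, smul_eq_mul] at this
            rw [sub_mul, this, sub_self]
        obtain ⟨i, hi⟩ := Function.ne_iff.1 hv0
        have hci : ![1, γ, γ⁻¹] i = c := sub_eq_zero.1 ((mul_eq_zero.1 (key v hv' i)).resolve_right hi)
        refine ⟨w i / v i, funext fun j => ?_⟩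
        by_cases hji : j = i
        · subst hji; simp [div_mul_cancel₀ _ hi]
        · have hne : ![1, γ, γ⁻¹] j ≠ c := by
            rw [← hci]
            fin_cases i <;> fin_cases j <;>
              simp [Ne.symm hγ.2.1, hγ.2.1, hγ1, Ne.symm hγ1, hγγ, Ne.symm hγγ] at hji ⊢
          simp [(mul_eq_zero.1 (key v hv' j)).resolve_left (sub_ne_zero.2 hne),
            (mul_eq_zero.1 (key w hw' j)).resolve_left (sub_ne_zero.2 hne)]
      · rw [charpoly_diagonal]; exact Splits.prod fun i _ => Splits.X_sub_C _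
      · simp [det_diagonal, Fin.prod_univ_three, hγ.1]
      · rw [charpoly_diagonal, hTc]
    · ext (i | i) (j | j) <;> fin_cases i <;> fin_cases j <;>
        simp [fromBlocks_multiply, Matrix.mul_apply, Fin.sum_univ_three, Matrix.one_apply]
    · ext (i | i) (j | j) <;> fin_cases i <;> fin_cases j <;>
        simp [fromBlocks_multiply, Matrix.mul_apply, Fin.sum_univ_three, Matrix.one_apply, hk1, hγ.1]
  · -- spectrum `1/k², 1, 1`
    set e0 := (k * k)⁻¹ with he0
    have hkk : k * k ≠ 0 := mul_ne_zero hk0 hk0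
    have he1 : e0 ≠ 1 := fun h => hk1 (by rw [← inv_inv (k * k), ← he0, h, inv_one])
    obtain ⟨T, hTg, hTc, hT⟩ := exists_pair_three hF hB0 hwk ![e0, 1, 1]
      (fun i => by fin_cases i <;> simp [he0, hk0]) ⟨he1, he1⟩
      (by rw [Fin.prod_univ_three, hBd, inv_pow, pow_two]; simp [he0])
    set D : Matrix (Fin 3) (Fin 3) F := !![e0, 0, 0; 0, 1, 1; 0, 0, 1] with hD
    have hDu : D.IsUpperTriangular := by
      intro i j hij
      fin_cases i <;> fin_cases j <;> simp_all [D]
    have hDch : D.charpoly = ∏ i, (X - C (![e0, 1, 1] i)) := by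
      rw [charpoly_of_isUpperTriangular D hDu]
      exact Finset.prod_congr rfl fun i _ => by fin_cases i <;> simp [D]
    have hDg : Geom1 D := by
      refine geom1_upper hDu (fun i j hi hij => ?_) (fun i j hi hij => ?_) fun i j hi hj => ?_
      · fin_cases i <;> fin_cases j <;> simp_all [D]
      · fin_cases i <;> fin_cases j <;> simp_all [D]
      · fin_cases i <;> fin_cases j <;> simp_all [D, Ne.symm]
    refine ⟨D, (Matrix.of fun i j => match i, j with
        | Sum.inl _, Sum.inr j => if j = 0 then 1 else 0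
        | Sum.inr i, Sum.inl _ => if i = 0 then 1 else 0
        | Sum.inr i, Sum.inr j => (!![0, 0, 0; 0, 1, 0; 0, 0, -1] : Matrix (Fin 3) (Fin 3) F) i j
        | Sum.inl _, Sum.inl _ => 0), ?_, ?_, ?_⟩
    · exact hT.cov.conj (geom1_sim 3 D T hDg hTg
        (by rw [hDch]; exact Splits.prod fun i _ => Splits.X_sub_C _)
        (by rw [det_of_isUpperTriangular hDu, Fin.prod_univ_three]; simp [D, he0, hk0])
        (hDch.trans hTc.symm))
    · ext (i | i) (j | j) <;> fin_cases i <;> fin_cases j <;>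
        simp [Matrix.mul_apply, Fintype.sum_sum_type, Fin.sum_univ_three, Matrix.one_apply]
    · ext (i | i) (j | j) <;> fin_cases i <;> fin_cases j <;>
        simp [D, Matrix.mul_apply, Fintype.sum_sum_type, Fin.sum_univ_three, Matrix.one_apply, he0, hk0,
          mul_comm, mul_left_comm] <;> field_simp

end Cfsg.Agent.CoverPSL
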