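import Cfsg.Agent.Lib.CoverPSL.RankTwo
import Cfsg.Agent.Lib.CoverPSL.Five
import Cfsg.Agent.Lib.CoverPSL.EigenPlane
import Cfsg.Agent.Lib.CoverPSL.ScalarFour
import Cfsg.Agent.Lib.CoverPSL.NonScalar

/-!
# All classes: non-scalar targets and one scalar target
-/

set_option autoImplicit false

namespace Cfsg.Agent.CoverPSL

open Matrix Cfsg.Agent.Classical.Thompson

variable {F : Type*} [Field F] [Fintype F]

theorem wide_nonScalar (hF : 4 ≤ Fintype.card F) {n : ℕ} (hn : 3 ≤ n) {A : Matrix (Fin n) (Fin n) F}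
    (hA : A.det ≠ 0) (hw : Wide A) : NonScalarGoal A :=
  nonScalar_of hF (fun k M hk hg hM B hB hns => covS_four_geom1 hF (by omega) hg hM hB hns)
    (fun M hM hs B hB hns => covS_four_special hF hM hs hB hns) n hn A hA hw

/-- Degree two: diagonalisable, or `k (1 + N)` with `N² = 0`. -/
theorem covS_one_deg_two (hF : 4 ≤ Fintype.card F) {n : ℕ} (hn : 5 ≤ n) {A : Matrix (Fin n) (Fin n) F}
    (hA : A.det = 1) {k : F} {v₀ v₁ : Fin n → F} (hv : LinearIndependent F ![v₀, v₁]) (h₀ : A *ᵥ v₀ = k • v₀)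
    (h₁ : A *ᵥ v₁ = k • v₁) (hdeg : ¬ ∃ w, LinearIndependent F ![w, A *ᵥ w, A *ᵥ (A *ᵥ w)]) :
    CovS n A 1 := by
  classical
  have hk : k ≠ 0 := by
    rintro rfl
    rw [zero_smul] at h₀
    have hu : IsUnit A.det := by rw [hA]; exact isUnit_one
    refine hv.ne_zero 0 ?_
    show v₀ = 0
    rw [← one_mulVec v₀, ← nonsing_inv_mul _ hu, ← mulVec_mulVec, h₀, mulVec_zero]
  set N := A - k • 1 with hN
  have hAN : ∀ x, A *ᵥ x = N *ᵥ x + k • x := fun x => by simp [N, sub_mulVec, smul_mulVec]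
  have hN₀ : N *ᵥ v₀ = 0 := by simp [N, sub_mulVec, smul_mulVec, h₀]
  have hN₁ : N *ᵥ v₁ = 0 := by simp [N, sub_mulVec, smul_mulVec, h₁]
  have heig : ∀ z, ∃ a : F, N *ᵥ (N *ᵥ z) = a • (N *ᵥ z) := by
    intro z
    by_contra hall
    push Not at hall
    have hy : N *ᵥ z ≠ 0 := fun h => hall 0 (by simp [h])
    set T := Submodule.span F (Set.range ![N *ᵥ z, N *ᵥ (N *ᵥ z)]) with hT
    have hp := pair_indep hy hall
    obtain ⟨u, huK, huT⟩ : ∃ u, N *ᵥ u = 0 ∧ u ∉ T := by
      by_contra hno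
      push Not at hno
      have hle : Submodule.span F (Set.range ![v₀, v₁]) ≤ T := span_fam_le fun i => by
        fin_cases i
        exacts [hno _ hN₀, hno _ hN₁]
      have heq := Submodule.eq_of_le_of_finrank_eq hle (by
        rw [hT, finrank_span_eq_card hv, finrank_span_eq_card hp])
      have hsub : Submodule.span F (Set.range ![v₀, v₁]) ≤ LinearMap.ker N.mulVecLin := span_fam_le fun i => by
        fin_cases i
        exacts [hN₀, hN₁]
      have h := hsub (heq.ge (show N *ᵥ z ∈ T from (pair_mem (N *ᵥ z) (N *ᵥ (N *ᵥ z))).1))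
      rw [LinearMap.mem_ker, mulVecLin_apply] at h
      exact hall 0 (by rw [h, zero_smul])
    obtain ⟨w, hwN, hwT⟩ : ∃ w, N *ᵥ w = N *ᵥ z ∧ w ∉ T := by
      by_cases hz : z ∈ T
      · exact ⟨z + u, by rw [mulVec_add, huK, add_zero], fun h => huT (by simpa using T.sub_mem h hz)⟩
      · exact ⟨z, rfl, hz⟩
    have h3 : LinearIndependent F ![w, N *ᵥ z, N *ᵥ (N *ᵥ z)] := linearIndependent_finCons.2 ⟨hp, hwT⟩
    refine hdeg ⟨w, ?_⟩
    rw [hAN (A *ᵥ w), hAN w, mulVec_add, mulVec_smul, hwN, Fintype.linearIndependent_iff]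
    intro g hg
    rw [Fin.sum_univ_three] at hg
    simp only [Matrix.cons_val_zero, Matrix.cons_val_one, Matrix.cons_val] at hg
    have h0 := Fintype.linearIndependent_iff.1 h3 ![g 0 + k * g 1 + k * k * g 2, g 1 + 2 * k * g 2, g 2] (by
      rw [Fin.sum_univ_three]
      simp only [Matrix.cons_val_zero, Matrix.cons_val_one, Matrix.cons_val]
      linear_combination (norm := module) hg)
    have e2 : g 2 = 0 := h0 2
    have e1 : g 1 = 0 := by simpa [e2] using h0 1
    have e0 : g 0 = 0 := by simpa [e1, e2] using h0 0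
    intro i
    fin_cases i
    exacts [e0, e1, e2]
  obtain ⟨a, ha⟩ : ∃ a : F, ∀ z, N *ᵥ (N *ᵥ z) = a • (N *ᵥ z) := by
    by_cases hN0 : ∀ z, N *ᵥ z = 0
    · exact ⟨0, fun z => by simp [hN0]⟩
    push Not at hN0
    obtain ⟨z₀, hz₀⟩ := hN0
    obtain ⟨a, ha⟩ := heig z₀
    refine ⟨a, fun z => ?_⟩
    by_cases hpar : ∃ t : F, N *ᵥ z = t • (N *ᵥ z₀)
    · obtain ⟨t, ht⟩ := hpar
      rw [ht, mulVec_smul, ha, smul_comm]
    · push Not at hpar
      obtain ⟨b, hb⟩ := heig z
      obtain ⟨c, hc⟩ := heig (z₀ + z)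
      rw [mulVec_add N z₀ z, mulVec_add, ha, hb] at hc
      have h2 := Fintype.linearIndependent_iff.1 (pair_indep hz₀ hpar) ![a - c, b - c] (by
        rw [Fin.sum_univ_two]
        simp only [Matrix.cons_val_zero, Matrix.cons_val_one]
        linear_combination (norm := module) hc)
      have h20 : a - c = 0 := h2 0
      have h21 : b - c = 0 := h2 1
      rw [hb, sub_eq_zero.1 h21, ← sub_eq_zero.1 h20]
  by_cases ha0 : a = 0
  · have h3 : N ^ 3 = 0 := by
      refine ext_of_mulVec_single fun j => ?_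
      rw [zero_mulVec, pow_succ, pow_two, ← mulVec_mulVec, ← mulVec_mulVec, ha, ha0, zero_smul]
    simpa [hA] using covS_uni (by omega) hn hk h3
  refine covS_one_of_eigen (by omega) hA fun x => ?_
  have hx : x = (x - a⁻¹ • (N *ᵥ x)) + a⁻¹ • (N *ᵥ x) := by abel
  rw [hx]
  refine add_mem (Submodule.subset_span ⟨k, ?_⟩) (Submodule.smul_mem _ _ (Submodule.subset_span ⟨k + a, ?_⟩))
  · rw [hAN, mulVec_sub, mulVec_smul, ha, smul_smul, inv_mul_cancel₀ ha0, one_smul, sub_self, zero_add]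
  · rw [hAN, ha, add_smul, add_comm]

/-- The scalar target in dimension at least five, an eigenspace of dimension two. -/
theorem covS_one_five (hF : 4 ≤ Fintype.card F) {n : ℕ} (hn : 5 ≤ n) {A : Matrix (Fin n) (Fin n) F}
    (hA : A.det = 1) (hw : Wide A) {k : F} {v₀ v₁ : Fin n → F} (hv : LinearIndependent F ![v₀, v₁])
    (h₀ : A *ᵥ v₀ = k • v₀) (h₁ : A *ᵥ v₁ = k • v₁) : CovS n A 1 := by
  classical
  by_cases h2 : ∃ c : F, (A - c • 1).rank = 2
  · obtain ⟨c, hc⟩ := h2
    exact covS_one_rank_two hF hn hA hc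
  push Not at h2
  have hr : ∀ c : F, 3 ≤ (A - c • 1).rank := fun c => by
    have := hw c; have := h2 c; omega
  by_cases hdeg : ∃ w, LinearIndependent F ![w, A *ᵥ w, A *ᵥ (A *ᵥ w)]
  swap
  · exact covS_one_deg_two hF hn hA hv h₀ h₁ hdeg
  by_cases htwo : ∃ c c' : F, c ≠ c' ∧ (A - c • 1).rank = 3 ∧ (A - c' • 1).rank = 3
  · obtain ⟨c, c', hne, hc, hc'⟩ := htwo
    exact covS_one_two_three hF hn hA hne hc hc'
  push Not at htwo
  have huniq : ∀ c c' : F, (A - c • 1).rank = 3 → (A - c' • 1).rank = 3 → c = c' := fun c c' h h' => by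
    by_contra hne
    exact htwo c c' hne h h'
  obtain ⟨w, w', h5⟩ := exists_five (by omega) hn hdeg hr huniq
  obtain ⟨m, rfl⟩ : ∃ m, n = 2 + m := ⟨n - 2, by omega⟩
  have hA0 : A.det ≠ 0 := by rw [hA]; exact one_ne_zero
  -- the plane
  have finish : ∀ (c : F) (u₀ u₁ : Fin (2 + m) → F), LinearIndependent F ![u₀, u₁] → A *ᵥ u₀ = c • u₀ →
      A *ᵥ u₁ = c • u₁ → (∀ x : F, (A - x • 1).rank = 3 → x = c) →
      ((A - c • 1).rank = 3 → u₀ ∉ LinearMap.range (A - c • 1).mulVecLin) → CovS (2 + m) A 1 := by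
    intro c u₀ u₁ hu hu₀ hu₁ honly hout
    obtain ⟨a, A', hsim, hb, hb'⟩ := exists_plane (by omega) hu hu₀ hu₁
    have hw' : Wide A' := by
      intro x
      by_cases h3 : (A - x • 1).rank = 3
      · obtain rfl := honly x h3
        have := hb' (hout h3)
        omega
      · have := hb x; have := hr x
        omega
    have hA'0 : A'.det ≠ 0 := fun h => hA0 (by
      rw [Sim.det_eq (hsim.sim one_ne_zero), det_reindex_self, blk_det, h, mul_zero])
    have h := plane_covS (s := 1) hn hA0 hsim h5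
      (fun B' hB' hns' => (wide_nonScalar hF (by omega) hA'0 hw' B' hB' hns').2) (by rw [hA, one_pow])
    simpa using h
  by_cases h3 : ∃ c : F, (A - c • 1).rank = 3
  swap
  · push Not at h3
    exact finish k v₀ v₁ hv h₀ h₁ (fun x hx => absurd hx (h3 x)) fun hx => absurd hx (h3 k)
  obtain ⟨c, hc⟩ := h3
  set E := LinearMap.ker (A - c • 1).mulVecLin with hE
  set I := LinearMap.range (A - c • 1).mulVecLin with hI
  have hEf : Module.finrank F E = 2 + m - 3 := by
    have h := LinearMap.finrank_range_add_finrank_ker (A - c • 1).mulVecLin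
    rw [Module.finrank_pi, Fintype.card_fin, ← Matrix.rank, hc, ← hE] at h
    omega
  by_cases hle : E ≤ I
  · have h6 := Submodule.finrank_mono hle
    rw [hEf, hI, ← Matrix.rank, hc] at h6
    rcases (show m = 3 ∨ m = 4 by omega) with rfl | rfl
    · exact covS_one_inside hF hA hc hle
    · have heq : E = I := Submodule.eq_of_le_of_finrank_eq hle (by rw [hEf, hI, ← Matrix.rank, hc])
      have hk : c ≠ 0 := by
        rintro rfl
        have h := rank_of_isUnit A ((isUnit_iff_isUnit_det A).2 (by rw [hA]; exact isUnit_one))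
        rw [zero_smul, sub_zero, h, Fintype.card_fin] at hc
        omega
      have h30 : (A - c • 1) ^ 3 = 0 := by
        refine ext_of_mulVec_single fun j => ?_
        have h : (A - c • 1) *ᵥ ((A - c • 1) *ᵥ Pi.single j 1) = 0 := by
          have h' : (A - c • 1) *ᵥ Pi.single j 1 ∈ E := heq ▸ ⟨_, rfl⟩
          exact LinearMap.mem_ker.1 h'
        rw [zero_mulVec, pow_succ, pow_two, ← mulVec_mulVec, ← mulVec_mulVec, h, mulVec_zero]
      simpa [hA] using covS_uni (by omega) hn hk h30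
  obtain ⟨u₀, hu₀E, hu₀I⟩ := SetLike.not_le_iff_exists.1 hle
  obtain ⟨u₁, hu₁E, hu₁⟩ : ∃ u₁ ∈ E, u₁ ∉ Submodule.span F {u₀} := by
    by_contra hall
    push Not at hall
    have h := Submodule.finrank_mono (show E ≤ Submodule.span F {u₀} from hall)
    rw [hEf, finrank_span_singleton (fun h0 : u₀ = 0 => hu₀I (h0 ▸ zero_mem _))] at h
    omega
  have memE : ∀ x, x ∈ E → A *ᵥ x = c • x := fun x hx => by
    rwa [hE, LinearMap.mem_ker, mulVecLin_apply, sub_mulVec, smul_mulVec, one_mulVec, sub_eq_zero] at hx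
  exact finish c u₀ u₁
    (pair_indep (fun h0 : u₀ = 0 => hu₀I (h0 ▸ zero_mem _)) fun t h => hu₁ (Submodule.mem_span_singleton.2 ⟨t, h.symm⟩))
    (memE _ hu₀E) (memE _ hu₁E) (fun x hx => huniq x c hx hc) fun _ => hu₀I

/-- A wide class: the scalar target. -/
theorem covS_one_wide (hF : 4 ≤ Fintype.card F) {n : ℕ} (hn : 3 ≤ n) {A : Matrix (Fin n) (Fin n) F}
    (hA : A.det = 1) (hw : Wide A) : CovS n A 1 := by
  classical
  have hA0 : A.det ≠ 0 := by rw [hA]; exact one_ne_zero
  rcases eq_or_lt_of_le hn with rfl | hn4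
  · obtain ⟨v, hv⟩ := exists_kry_of_wide hF hw
    simpa [hA] using covS_three_scalar hF hA0 hv
  by_cases hg : Geom1 A
  · rcases eq_or_lt_of_le (show 4 ≤ n by omega) with rfl | h5
    · exact covS_four_one_geom1 hF hA hg
    · have hns : ∀ c : F, A ≠ c • 1 := fun c h => by
        have := hw c
        rw [h, sub_self, rank_zero] at this
        omega
      exact CovS.pad_le (by omega) hA0 hns (fun B hB hB' => covS_four_geom1 hF (by omega) hg hA0 hB hB') h5
        (by rw [det_one, hA, one_pow])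
  simp only [Geom1, not_forall, not_exists] at hg
  obtain ⟨k, v₀, v₁, h₀, h₁, hv0, hne⟩ := hg
  have hv : LinearIndependent F ![v₀, v₁] := pair_indep hv0 hne
  rcases eq_or_lt_of_le (show 4 ≤ n by omega) with rfl | h5
  swap
  · exact covS_one_five hF h5 hA hw hv h₀ h₁
  by_cases hs : Special A
  · simpa [hA] using covS_four_special_scalar hF hA0 hs
  have hk : (A - k • 1).rank = 2 := by
    have h1 := LinearMap.finrank_range_add_finrank_ker (A - k • 1).mulVecLin
    rw [Module.finrank_pi, Fintype.card_fin, ← Matrix.rank] at h1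
    have h2 := Submodule.finrank_mono (show Submodule.span F (Set.range ![v₀, v₁]) ≤
        LinearMap.ker (A - k • 1).mulVecLin from span_fam_le fun i => by
      fin_cases i <;> simp [sub_mulVec, smul_mulVec, h₀, h₁])
    rw [finrank_span_eq_card hv, Fintype.card_fin] at h2
    have := hw k
    omega
  have hle : ¬ LinearMap.ker (A - k • 1).mulVecLin ≤ LinearMap.range (A - k • 1).mulVecLin :=
    fun h => hs ⟨rfl, Or.inr ⟨k, hk, h⟩⟩
  obtain ⟨v, hvE, hvI⟩ := SetLike.not_le_iff_exists.1 hle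
  refine covS_four_one_split hF hA hw hk ?_ hvI fun x hx => unique_two le_rfl hs hx hk
  rwa [LinearMap.mem_ker, mulVecLin_apply, sub_mulVec, smul_mulVec, one_mulVec, sub_eq_zero] at hvE

/-- **All classes of `SL`.** -/
theorem covS_all (hF : 4 ≤ Fintype.card F) {n : ℕ} (hn : 3 ≤ n) (A : Matrix (Fin n) (Fin n) F)
    (hA : A.det = 1) (hns : ∀ a : F, A ≠ a • 1) :
    (∀ B : Matrix (Fin n) (Fin n) F, B.det = 1 → (∀ a : F, B ≠ a • 1) → CovS n A B) ∧
      ∃ a : F, CovS n A (a • 1) := by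
  have hA0 : A.det ≠ 0 := by rw [hA]; exact one_ne_zero
  by_cases h1 : ∃ c : F, (A - c • 1).rank = 1
  · obtain ⟨c, hc⟩ := h1
    obtain ⟨h, h'⟩ := pseudo_covS (by omega) hn hA0 hc
    exact ⟨fun B hB hB' => h B (by rw [hB, hA, one_pow]) hB', h'⟩
  push Not at h1
  have hw : Wide A := fun a => by
    have h0 : (A - a • 1).rank ≠ 0 := fun h => hns a (by
      rw [Matrix.rank, Submodule.finrank_eq_zero, LinearMap.range_eq_bot] at h
      refine sub_eq_zero.1 (ext_of_mulVec_single fun j => ?_)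
      rw [zero_mulVec]
      exact LinearMap.congr_fun h (Pi.single j 1))
    have := h1 a
    omega
  exact ⟨fun B hB hB' => (wide_nonScalar hF hn hA0 hw B (by rw [hB, hA, one_pow]) hB').1,
    1, by rw [one_smul]; exact covS_one_wide hF hn hA hw⟩

end Cfsg.Agent.CoverPSL
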