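import Mathlib.FieldTheory.Finite.Extension
import Mathlib.RingTheory.Norm.Basic
import Mathlib.LinearAlgebra.Matrix.Rank
import Mathlib.LinearAlgebra.Matrix.Transvection
import Mathlib.LinearAlgebra.Matrix.ProjectiveSpecialLinearGroup

/-!
# Fewer than `n` conjugates of a transvection do not cover `PSL_n(F)`

A product of `n - 1` conjugates of a transvection fixes a non-zero vector, whereas a Singer element
of norm one has no eigenvalue at all.
-/

set_option autoImplicit false

namespace Cfsg.Agent.CoverPSL

open Matrix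

variable {F : Type*} [Field F]

/-- An element of determinant one without eigenvalues. -/
theorem exists_no_eigenvalue [Fintype F] {n : ℕ} (hn : 2 ≤ n) :
    ∃ A : SpecialLinearGroup (Fin n) F, ∀ c : F,
      ((A : Matrix (Fin n) (Fin n) F) - scalar (Fin n) c).det ≠ 0 := by
  classical
  obtain ⟨p, hchar⟩ := CharP.exists F
  haveI : Fact p.Prime := ⟨(CharP.char_is_prime_or_zero F p).resolve_right (CharP.char_ne_zero_of_finite F p)⟩
  haveI : NeZero n := ⟨by omega⟩
  let L := FiniteField.Extension F p n
  haveI : Fintype L := Fintype.ofFinite L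
  let b : Module.Basis (Fin n) F L :=
    Module.finBasisOfFinrankEq F L (FiniteField.finrank_extension F p n)
  set q := Fintype.card F with hq
  have hq1 : 1 < q := Fintype.one_lt_card
  have hcardL : Fintype.card L = q ^ n := by
    rw [← Nat.card_eq_fintype_card, FiniteField.natCard_extension, Nat.card_eq_fintype_card]
  obtain ⟨v, hv⟩ := IsCyclic.exists_generator (α := Lˣ)
  have hord : orderOf v = q ^ n - 1 := by
    rw [orderOf_eq_card_of_forall_mem_zpowers hv, Nat.card_eq_fintype_card, Fintype.card_units, hcardL]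
  let u : L := ((v ^ (q - 1) : Lˣ) : L)
  have hnorm : Algebra.norm F u = 1 := by
    simp only [u, Units.val_pow_eq_pow_val, map_pow]
    exact FiniteField.pow_card_sub_one_eq_one _ (Algebra.norm_ne_zero_iff.2 v.ne_zero)
  have hout : ∀ c : F, u ≠ algebraMap F L c := by
    intro c hc
    have hc0 : c ≠ 0 := by
      rintro rfl
      rw [map_zero] at hc
      exact Units.ne_zero _ hc
    have h1 : (u : L) ^ (q - 1) = 1 := by
      rw [hc, ← map_pow, FiniteField.pow_card_sub_one_eq_one c hc0, map_one]
    have h2 : v ^ ((q - 1) * (q - 1)) = 1 := by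
      apply Units.ext
      rw [pow_mul, Units.val_pow_eq_pow_val, Units.val_one]
      exact h1
    have h3 := Nat.le_of_dvd (Nat.mul_pos (by omega) (by omega)) (orderOf_dvd_of_pow_eq_one h2)
    rw [hord] at h3
    have h4 : q * q ≤ q ^ n := by
      rw [← pow_two]; exact Nat.pow_le_pow_right (by omega) hn
    have h5 : (q - 1) * (q - 1) + (q - 1) + (q - 1) + 1 = q * q := by
      obtain ⟨r, hr⟩ : ∃ r, q = r + 1 := ⟨q - 1, by omega⟩
      rw [hr, Nat.add_sub_cancel]; ring
    omega
  have hdet : (Algebra.leftMulMatrix b u).det = 1 := by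
    rw [← Algebra.norm_eq_matrix_det, hnorm]
  refine ⟨⟨Algebra.leftMulMatrix b u, hdet⟩, fun c => ?_⟩
  show (Algebra.leftMulMatrix b u - scalar (Fin n) c).det ≠ 0
  have h : scalar (Fin n) c = Algebra.leftMulMatrix b (algebraMap F L c) := by
    rw [AlgHom.commutes]; rfl
  rw [h, ← map_sub, ← Algebra.norm_eq_matrix_det]
  exact Algebra.norm_ne_zero_iff.2 (sub_ne_zero.2 (hout c))

theorem rank_add_le' {n : ℕ} (A B : Matrix (Fin n) (Fin n) F) : (A + B).rank ≤ A.rank + B.rank := by
  classical
  have h : (A + B).mulVecLin = A.mulVecLin + B.mulVecLin := Matrix.mulVecLin_add A B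
  rw [Matrix.rank, h]
  refine le_trans (Submodule.finrank_mono (LinearMap.range_add_le _ _)) ?_
  exact Submodule.finrank_add_le_finrank_add_finrank _ _

/-- The rank of `∏ Aᵢ - 1` is at most the sum of the ranks of the `Aᵢ - 1`. -/
theorem rank_prod_sub_one {n : ℕ} (l : List (Matrix (Fin n) (Fin n) F))
    (h : ∀ A ∈ l, (A - 1).rank ≤ 1) : (l.prod - 1).rank ≤ l.length := by
  induction l with
  | nil => simp [Matrix.rank_zero]
  | cons A l ih =>
    rw [List.prod_cons, List.length_cons]
    have e : A * l.prod - 1 = (A - 1) * l.prod + (l.prod - 1) := by rw [sub_mul, one_mul]; abel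
    rw [e]
    refine le_trans (rank_add_le' _ _) ?_
    have h1 : ((A - 1) * l.prod).rank ≤ 1 := (rank_mul_le_left _ _).trans (h A List.mem_cons_self)
    have h2 := ih fun B hB => h B (List.mem_cons_of_mem _ hB)
    omega

/-- The sharpness half: a class whose `(n-1)`-st power is not everything. -/
theorem sharp [Fintype F] {n : ℕ} (hn : 2 ≤ n) :
    ∃ x : ProjectiveSpecialLinearGroup (Fin n) F, x ≠ 1 ∧
      ∃ g : ProjectiveSpecialLinearGroup (Fin n) F,
        ∀ f : Fin (n - 1) → ProjectiveSpecialLinearGroup (Fin n) F,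
          g ≠ (List.ofFn fun i => f i * x * (f i)⁻¹).prod := by
  classical
  have hn0 : 0 < n := by omega
  let i0 : Fin n := ⟨0, hn0⟩
  let j0 : Fin n := ⟨1, by omega⟩
  have hij : i0 ≠ j0 := by simp [i0, j0]
  let T : SpecialLinearGroup (Fin n) F := ⟨transvection i0 j0 1, det_transvection_of_ne i0 j0 hij 1⟩
  let π : SpecialLinearGroup (Fin n) F →* ProjectiveSpecialLinearGroup (Fin n) F := QuotientGroup.mk' _
  obtain ⟨A, hA⟩ := exists_no_eigenvalue (F := F) hn
  refine ⟨π T, ?_, π A, fun f hf => ?_⟩
  · intro h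
    have h' : T ∈ Subgroup.center (SpecialLinearGroup (Fin n) F) := (QuotientGroup.eq_one_iff T).1 h
    obtain ⟨r, -, hr⟩ := SpecialLinearGroup.mem_center_iff.1 h'
    have := congrFun (congrFun hr i0) j0
    simp [T, transvection, hij] at this
  · have hs : ∀ i, ∃ k, π k = f i := fun i => QuotientGroup.mk'_surjective _ (f i)
    choose k hk using hs
    let P : SpecialLinearGroup (Fin n) F := (List.ofFn fun i => k i * T * (k i)⁻¹).prod
    have hP : π A = π P := by
      rw [hf, map_list_prod, List.map_ofFn]
      refine congrArg List.prod (congrArg List.ofFn (funext fun i => ?_))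
      simp [hk]
    have hmem : P⁻¹ * A ∈ Subgroup.center (SpecialLinearGroup (Fin n) F) := by
      refine (QuotientGroup.eq_one_iff _).1 ?_
      show π (P⁻¹ * A) = 1
      rw [map_mul, map_inv, hP, inv_mul_cancel]
    obtain ⟨c, hc1, hc⟩ := SpecialLinearGroup.mem_center_iff.1 hmem
    have hAc : (A : Matrix (Fin n) (Fin n) F) = c • (P : Matrix (Fin n) (Fin n) F) := by
      have h : (A : Matrix (Fin n) (Fin n) F) =
          (P : Matrix (Fin n) (Fin n) F) * ((P⁻¹ * A : SpecialLinearGroup (Fin n) F) : Matrix (Fin n) (Fin n) F) := by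
        rw [← SpecialLinearGroup.coe_mul, mul_inv_cancel_left]
      rw [h, ← hc, scalar_apply]
      ext i j
      simp [mul_comm]
    refine hA c ?_
    have hT : ((transvection i0 j0 (1 : F)) - 1).rank ≤ 1 := by
      have e : transvection i0 j0 (1 : F) - 1 = vecMulVec (Pi.single i0 1) (Pi.single j0 1) := by
        rw [transvection, add_sub_cancel_left, single_eq_single_vecMulVec_single]
      rw [e]; exact rank_vecMulVec_le _ _
    let l : List (Matrix (Fin n) (Fin n) F) :=
      List.ofFn fun i => ((k i * T * (k i)⁻¹ : SpecialLinearGroup (Fin n) F) : Matrix (Fin n) (Fin n) F)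
    have hl : (P : Matrix (Fin n) (Fin n) F) = l.prod := by
      simp only [P, l]
      let co : SpecialLinearGroup (Fin n) F →* Matrix (Fin n) (Fin n) F :=
        { toFun := fun g => (g : Matrix (Fin n) (Fin n) F), map_one' := rfl, map_mul' := fun _ _ => rfl }
      show co _ = _
      rw [map_list_prod, List.map_ofFn]
      rfl
    have hr := rank_prod_sub_one l (fun B hB => by
      obtain ⟨i, rfl⟩ := List.mem_ofFn.1 hB
      have e : ((k i * T * (k i)⁻¹ : SpecialLinearGroup (Fin n) F) : Matrix (Fin n) (Fin n) F) - 1 =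
          (k i : Matrix (Fin n) (Fin n) F) * (transvection i0 j0 (1 : F) - 1) *
            (((k i)⁻¹ : SpecialLinearGroup (Fin n) F) : Matrix (Fin n) (Fin n) F) := by
        have h1 : (k i : Matrix (Fin n) (Fin n) F) *
            (((k i)⁻¹ : SpecialLinearGroup (Fin n) F) : Matrix (Fin n) (Fin n) F) = 1 := by
          rw [← SpecialLinearGroup.coe_mul, mul_inv_cancel, SpecialLinearGroup.coe_one]
        rw [mul_sub, sub_mul, mul_one, h1]
        rfl
      rw [e]
      exact ((rank_mul_le_left _ _).trans (rank_mul_le_right _ _)).trans hT)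
    have hlen : l.length = n - 1 := List.length_ofFn
    rw [← hl] at hr
    have e : (A : Matrix (Fin n) (Fin n) F) - scalar (Fin n) c = c • ((P : Matrix (Fin n) (Fin n) F) - 1) := by
      rw [hAc, smul_sub, scalar_apply, smul_one_eq_diagonal]
    rw [e, det_smul]
    refine mul_eq_zero_of_right _ ?_
    by_contra hne
    have := rank_of_isUnit _ ((isUnit_iff_isUnit_det _).2 (isUnit_iff_ne_zero.2 hne))
    rw [Fintype.card_fin] at this
    omega

end Cfsg.Agent.CoverPSL
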