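import Cfsg.Agent.Lib.CoverPSL.CyclicSquare
import Cfsg.Agent.Lib.CoverPSL.NoFix
import Cfsg.Agent.Lib.Classical.PSLThreeSquare

/-!
# Three conjugates in dimension three

`covNF_three`: if every eigenspace of `A` is at most a line, every non-scalar matrix of determinant
`det A ^ 3` is a product of three conjugates of `A` without a common eigenvector for one eigenvalue.
-/

set_option autoImplicit false

namespace Cfsg.Agent.CoverPSL

open Matrix Polynomial Cfsg.Agent.Classical.Thompson

variable {F : Type*} [Field F]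

theorem CovNF.conj {ι : Type*} [Fintype ι] [DecidableEq ι] {m : ℕ} {A B B' : Matrix ι ι F}
    (h : CovNF m A B) (hB : Sim B' B) : CovNF m A B' := by
  obtain ⟨l, rfl, hX, rfl, he⟩ := h
  obtain ⟨P, Q, hPQ, rfl⟩ := hB
  have hQP : Q * P = 1 := mul_eq_one_comm.1 hPQ
  refine ⟨l.map fun X => P * X * Q, List.length_map _, fun Y hY => ?_, prod_conj P Q hPQ l,
    fun c y hy => ?_⟩
  · obtain ⟨X, hXl, rfl⟩ := List.mem_map.1 hY
    exact Sim.trans ⟨P, Q, hPQ, rfl⟩ (hX X hXl)
  · have h0 : Q *ᵥ y = 0 := he c _ fun X hXl => by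
      have h1 := congrArg (Q *ᵥ ·) (hy _ (List.mem_map.2 ⟨X, hXl, rfl⟩))
      simpa [mulVec_mulVec, ← Matrix.mul_assoc, hQP, mulVec_smul] using h1
    have := congrArg (P *ᵥ ·) h0
    simpa [mulVec_mulVec, hPQ] using this

/-- A factorisation without fixed line stays one when it is lengthened. -/
theorem CovNF.add {ι : Type*} [Fintype ι] [DecidableEq ι] {m k : ℕ} {A B C : Matrix ι ι F}
    (h : CovNF m A B) (h' : Cov k A C) : CovNF (m + k) A (B * C) := by
  obtain ⟨l, rfl, hX, rfl, he⟩ := h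
  obtain ⟨l', rfl, hX', rfl⟩ := h'
  exact ⟨l ++ l', List.length_append, fun X hXl => (List.mem_append.1 hXl).elim (hX X) (hX' X),
    List.prod_append, fun c y hy => he c y fun X hXl => hy X (List.mem_append_left _ hXl)⟩

/-- the Krylov matrix of `v` -/
def kry (A : Matrix (Fin 3) (Fin 3) F) (v : Fin 3 → F) : Matrix (Fin 3) (Fin 3) F :=
  Matrix.of fun i j : Fin 3 => ![v i, A.mulVec v i, A.mulVec (A.mulVec v) i] j

theorem sim_of_mul_eq {ι : Type*} [Fintype ι] [DecidableEq ι] {A B P : Matrix ι ι F} (hP : P.det ≠ 0)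
    (h : A * P = P * B) : Sim A B := by
  have hu : IsUnit P.det := isUnit_iff_ne_zero.2 hP
  exact ⟨P, P⁻¹, mul_nonsing_inv _ hu, by rw [← h, Matrix.mul_assoc, mul_nonsing_inv _ hu, Matrix.mul_one]⟩

/-- A matrix with a cyclic vector is determined by its three invariants. -/
theorem kry_sim {A : Matrix (Fin 3) (Fin 3) F} {v : Fin 3 → F} (hv : (kry A v).det ≠ 0) :
    Sim A !![0, 0, A.det; 1, 0, -Classical.SLThreeSquare.e2 A; 0, 1, A.trace] := by
  refine sim_of_mul_eq hv ?_
  have h3 := Classical.SLThreeSquare.cayley_three A v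
  ext i j
  fin_cases j
  · simp [kry, Matrix.mul_apply, Fin.sum_univ_three, mulVec, dotProduct]
  · simp [kry, Matrix.mul_apply, Fin.sum_univ_three, mulVec, dotProduct]
  · have := congrFun h3 i
    simp only [Pi.add_apply, Pi.sub_apply, Pi.smul_apply, smul_eq_mul] at this
    have e : (A * kry A v) i 2 = A.mulVec (A.mulVec (A.mulVec v)) i := by
      simp [kry, Matrix.mul_apply, Fin.sum_univ_three, mulVec, dotProduct]
    refine e.trans (this.trans ?_)
    simp [kry, Matrix.mul_apply, Fin.sum_univ_three]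
    ring

theorem kry_sim_compMat {A : Matrix (Fin 3) (Fin 3) F} {v : Fin 3 → F} (hv : (kry A v).det ≠ 0)
    (f : F[X]) (hf : f.Monic) (hd : f.natDegree = 3) (hfA : A.charpoly = f) :
    Sim A (compMat f hf hd) := by
  have h1 := kry_sim hv
  set M := !![0, 0, A.det; 1, 0, -Classical.SLThreeSquare.e2 A; 0, 1, A.trace] with hM
  have hMh : IsHessS M := by
    intro i j
    fin_cases i <;> fin_cases j <;> simp [hM]
  exact h1.trans ((hessS_simD hMh f hf hd (by rw [← Sim.charpoly_eq h1, hfA])).sim (weight_ne_zero hMh))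

/-- Eigenspaces of codimension two give a cyclic vector. -/
theorem exists_kry [Fintype F] (hF : 4 ≤ Fintype.card F) {A : Matrix (Fin 3) (Fin 3) F}
    (hns : ∀ a : F, A ≠ a • 1) :
    (∃ v, (kry A v).det ≠ 0) ∨ ∃ (l : F) (c r : Fin 3 → F), c ≠ 0 ∧ r 0 = 1 ∧
      Sim A (Classical.SLThreeSquare.rankOne l c r) := by
  classical
  obtain ⟨c, -, hc⟩ := Finset.exists_mem_notMem_of_card_lt_card (s := ({0, 1} : Finset F))
    (t := Finset.univ) (lt_of_le_of_lt Finset.card_le_two (by rw [Finset.card_univ]; omega))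
  simp only [Finset.mem_insert, Finset.mem_singleton, not_or] at hc
  rcases Classical.SLThreeSquare.cyclic_or_rankOne hns ⟨c, hc.1, hc.2⟩ with h | ⟨l, u, r, hu, hr, P, hP, e⟩
  · exact Or.inl h
  · exact Or.inr ⟨l, u, r, hu, hr, sim_of_mul_eq hP e⟩

theorem exists_kry_of_wide [Fintype F] (hF : 4 ≤ Fintype.card F) {A : Matrix (Fin 3) (Fin 3) F}
    (hA : Wide A) : ∃ v, (kry A v).det ≠ 0 := by
  have hns : ∀ a : F, A ≠ a • 1 := fun a h => by
    have := hA a
    rw [h, sub_self, Matrix.rank_zero] at this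
    omega
  rcases exists_kry hF hns with h | ⟨l, u, r, -, -, P, Q, hPQ, e⟩
  · exact h
  · exfalso
    have h1 : A - l • 1 = P * vecMulVec u r * Q := by
      have : Classical.SLThreeSquare.rankOne l u r = l • 1 + vecMulVec u r := by
        ext i j
        simp [Classical.SLThreeSquare.rankOne, Matrix.one_apply, vecMulVec_apply]
      rw [e, this, Matrix.mul_add, Matrix.add_mul, Matrix.mul_smul, Matrix.mul_one, Matrix.smul_mul, hPQ,
        add_sub_cancel_left]
    have h2 : (A - l • 1).rank ≤ 1 := by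
      rw [h1]
      exact ((Matrix.rank_mul_le_left _ _).trans (Matrix.rank_mul_le_right _ _)).trans
        (Matrix.rank_vecMulVec_le u r)
    have := hA l
    omega

/-- The triangular twist in dimension three. -/
theorem exists_twist_three [Finite F] {H : Matrix (Fin 3) (Fin 3) F} (hH : IsHessS H)
    (e : Fin 3 → F) (he : ∀ i, e i ≠ 0) (hsimple : e 0 ≠ e 1 ∧ e 0 ≠ e 2) (u : F) (hu : u ≠ 0)
    (f : F[X]) (hf : f.Monic) (hd : f.natDegree = 3)
    (hdet : (compMat f hf hd).det = (∏ i, e i) * H.det) :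
    ∃ T : Matrix (Fin 3) (Fin 3) F, Geom1 T ∧ T.charpoly = ∏ i, (X - C (e i)) ∧
      (T 1 0 = 0 ∧ T 1 1 = e 1 ∧ T 1 2 = u ∧ T 2 0 = 0 ∧ T 2 1 = 0 ∧ T 2 2 = e 2) ∧
      Sim (T * H) (compMat f hf hd) := by
  classical
  set U : Matrix (Fin 3) (Fin 3) F := !![e 0, 0, 0; 0, e 1, u; 0, 0, e 2] with hU
  set M := U * H with hM
  have hMh : IsHessS M := by
    intro i j
    refine ⟨fun h => ?_, fun h => ?_⟩
    · obtain ⟨rfl, rfl⟩ : i = 2 ∧ j = 0 := by
        have := i.2; have := j.2
        exact ⟨Fin.ext (by simp; omega), Fin.ext (by simp; omega)⟩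
      simp [hM, hU, vecMul, dotProduct, Matrix.mul_apply, Fin.sum_univ_three, (hH 2 0).1 (by decide)]
    · rcases (show i = 1 ∧ j = 0 ∨ i = 2 ∧ j = 1 by
        have := i.2; have := j.2
        rcases Nat.lt_or_ge j.val 1 with hj | hj
        · left; exact ⟨Fin.ext (by simp; omega), Fin.ext (by simp; omega)⟩
        · right; exact ⟨Fin.ext (by simp; omega), Fin.ext (by simp; omega)⟩) with ⟨rfl, rfl⟩ | ⟨rfl, rfl⟩
      · simp [hM, hU, vecMul, dotProduct, Matrix.mul_apply, Fin.sum_univ_three, (hH 2 0).1 (by decide), he 1,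
          (hH 1 0).2 (by decide)]
      · simp [hM, hU, vecMul, dotProduct, Matrix.mul_apply, Fin.sum_univ_three, he 2, (hH 2 1).2 (by decide)]
  have hUdet : U.det = ∏ i, e i := by simp [hU, det_fin_three, Fin.prod_univ_three]
  obtain ⟨r, hr⟩ := exists_update_left hMh (by norm_num) f hf hd (by rw [hdet, hM, det_mul, hUdet])
  set T := (1 + upd 1 r) * U with hT
  have hrow : ∀ i j : Fin 3, i ≠ 0 → T i j = U i j := by
    intro i j hi
    have h0 : ∀ l, upd 1 r i l = 0 := fun l => by
      by_contra h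
      rcases upd_zero h with h1 | h1
      · exact hi (Fin.ext (by simp; omega))
      · omega
    rw [hT, Matrix.add_mul, Matrix.one_mul, Matrix.add_apply, Matrix.mul_apply,
      Finset.sum_eq_zero (fun l _ => by rw [h0 l, zero_mul]), add_zero]
  have h00 : T 0 0 = e 0 := by
    have h0 : upd 1 r (0 : Fin 3) 0 = 0 := by
      by_contra h
      rcases upd_zero h with h1 | h1 <;> simp at h1
    simp [hT, hU, Matrix.add_mul, Matrix.mul_apply, Fin.sum_univ_three, h0]
  have hrows : T 1 0 = 0 ∧ T 1 1 = e 1 ∧ T 1 2 = u ∧ T 2 0 = 0 ∧ T 2 1 = 0 ∧ T 2 2 = e 2 := by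
    simp [hrow, hU]
  have hup : T.IsUpperTriangular := by
    intro i j hij
    have hij' : j.val < i.val := hij
    have hi0 : i ≠ 0 := fun h => by subst h; simp at hij'
    rw [hrow i j hi0, hU]
    fin_cases i <;> fin_cases j <;> simp at hij' ⊢
  have hdiag : ∀ i, T i i = e i := by
    intro i
    fin_cases i
    · exact h00
    · exact hrows.2.1
    · exact hrows.2.2.2.2.2
  refine ⟨T, ?_, ?_, hrows, ?_⟩
  · refine geom1_upper hup (fun i j hi hij => ?_) (fun i j hi hij => ?_) (fun i j hi hj => ?_)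
    · exfalso
      have := j.2
      omega
    · obtain ⟨rfl, rfl⟩ : i = 1 ∧ j = 2 := by
        have := i.2; have := j.2
        exact ⟨Fin.ext (by simp; omega), Fin.ext (by simp; omega)⟩
      rw [hrows.2.2.1]; exact hu
    · rw [hdiag, hdiag, show i = 0 from Fin.ext hi]
      fin_cases j
      · simp at hj
      · exact hsimple.1
      · exact hsimple.2
  · rw [Matrix.charpoly_of_isUpperTriangular _ hup]
    exact Finset.prod_congr rfl fun i _ => by rw [hdiag]
  · rw [hT, Matrix.mul_assoc, ← hM]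
    exact hr.sim (weight_ne_zero hMh)

/-- Two conjugates with product of the given spectrum and without fixed line. -/
theorem exists_pair_three [Fintype F] (hF : 4 ≤ Fintype.card F) {A : Matrix (Fin 3) (Fin 3) F}
    (hA : A.det ≠ 0) {v : Fin 3 → F} (hv : (kry A v).det ≠ 0)
    (e : Fin 3 → F) (he : ∀ i, e i ≠ 0) (hsimple : e 0 ≠ e 1 ∧ e 0 ≠ e 2) (hprod : ∏ i, e i = A.det ^ 2) :
    ∃ T : Matrix (Fin 3) (Fin 3) F, Geom1 T ∧ T.charpoly = ∏ i, (X - C (e i)) ∧ CovNF 2 A T := by
  classical
  obtain ⟨f, hfA⟩ : ∃ f, A.charpoly = f := ⟨_, rfl⟩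
  have hf : f.Monic := hfA ▸ Matrix.charpoly_monic _
  have hd : f.natDegree = 3 := by rw [← hfA, Matrix.charpoly_natDegree_eq_dim, Fintype.card_fin]
  have hAs : Sim A (compMat f hf hd) := kry_sim_compMat hv f hf hd hfA
  have hdC : (compMat f hf hd).det = A.det := hAs.det_eq.symm
  have hdC0 : (compMat f hf hd).det ≠ 0 := hdC ▸ hA
  have hf0 : f.coeff 0 ≠ 0 := fun h0 => hdC0 (by rw [compMat_det, h0, mul_zero])
  obtain ⟨g, hgdef⟩ : ∃ g, (compMat f hf hd)⁻¹.charpoly = g := ⟨_, rfl⟩
  have hg : g.Monic := hgdef ▸ Matrix.charpoly_monic _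
  have hgd : g.natDegree = 3 := by rw [← hgdef, Matrix.charpoly_natDegree_eq_dim, Fintype.card_fin]
  have hdg : (compMat g hg hgd).det = A.det⁻¹ := by
    rw [Matrix.det_eq_sign_charpoly_coeff, compMat_charpoly, ← hgdef, ← Matrix.det_eq_sign_charpoly_coeff,
      det_nonsing_inv, Ring.inverse_eq_inv, hdC]
  have hg0 : g.coeff 0 ≠ 0 := by
    intro h0
    rw [compMat_det g hg hgd, h0, mul_zero] at hdg
    exact inv_ne_zero hA hdg.symm
  obtain ⟨κ, hκ, hinv⟩ := compMat_inv (by norm_num) f hf hd hf0 g hg hgd hgdef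
  obtain ⟨H, hH, hHs, hHc⟩ := exists_companion (by norm_num) g hg hgd hg0 1 one_ne_zero
  have hHd : H.det = A.det⁻¹ := by rw [hHs.det_eq one_ne_zero, hdg]
  have h10 : H 1 0 ≠ 0 := (hH 1 0).2 (by decide)
  have h21 : H 2 1 ≠ 0 := (hH 2 1).2 (by decide)
  -- the superdiagonal entry
  obtain ⟨u, hu, hbad⟩ : ∃ u : F, u ≠ 0 ∧ ∀ r : F, r * r = e 2 → u * (r * H 2 1) ≠ e 2 - e 1 := by
    by_cases hex : ∃ r0 : F, r0 * r0 = e 2
    · obtain ⟨r0, hr0⟩ := hex
      obtain ⟨u, -, hu⟩ := Finset.exists_mem_notMem_of_card_lt_card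
        (s := ({0, (e 2 - e 1) / (r0 * H 2 1), (e 2 - e 1) / (-r0 * H 2 1)} : Finset F))
        (t := Finset.univ) (lt_of_le_of_lt Finset.card_le_three (by rw [Finset.card_univ]; omega))
      simp only [Finset.mem_insert, Finset.mem_singleton, not_or] at hu
      refine ⟨u, hu.1, fun r hr h => ?_⟩
      have hr0' : r ≠ 0 := fun h0 => he 2 (by rw [← hr, h0, mul_zero])
      have hu' : u = (e 2 - e 1) / (r * H 2 1) := by rw [← h, mul_div_cancel_right₀ _ (mul_ne_zero hr0' h21)]
      rcases mul_self_eq_mul_self_iff.1 (hr.trans hr0.symm) with rfl | rfl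
      · exact hu.2.1 hu'
      · exact hu.2.2 hu'
    · push Not at hex
      exact ⟨1, one_ne_zero, fun r hr => absurd hr (hex r)⟩
  obtain ⟨T, hgeom, hch, ⟨t10, t11, t12, t20, t21, t22⟩, hTH⟩ := exists_twist_three hH e he hsimple u hu
    f hf hd (by rw [hdC, hprod, hHd, pow_two, mul_assoc, mul_inv_cancel₀ hA, mul_one])
  have hHu : IsUnit H.det := by rw [hHd]; exact isUnit_iff_ne_zero.2 (inv_ne_zero hA)
  refine ⟨T, hgeom, hch, [T * H, H⁻¹], rfl, ?_, ?_, fun c y hy => ?_⟩
  · intro X hX
    simp only [List.mem_cons, List.not_mem_nil, or_false] at hX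
    rcases hX with rfl | rfl
    · exact hTH.trans hAs.symm
    · exact (((hHs.inv one_ne_zero (by rw [hHd]; exact inv_ne_zero hA)).trans hinv).sim
        (by simpa using hκ)).trans hAs.symm
  · simp [Matrix.mul_assoc, mul_nonsing_inv _ hHu]
  · have hy1 : (T * H) *ᵥ y = c • y := hy _ (by simp)
    have hy2 : H⁻¹ *ᵥ y = c • y := hy _ (by simp)
    have hHy : y = c • (H *ᵥ y) := by
      have := congrArg (H *ᵥ ·) hy2
      simpa [mulVec_mulVec, mul_nonsing_inv _ hHu, mulVec_smul] using this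
    have hTy : T *ᵥ y = (c * c) • y := by
      conv_lhs => rw [hHy]
      rw [mulVec_smul, mulVec_mulVec, hy1, smul_smul]
    have h12 : H 1 2 = 0 := hHc 1 2 (by decide) (by decide)
    have h11 : H 1 1 = 0 := hHc 1 1 (by decide) (by decide)
    have h22 : H 2 2 = 0 := hHc 2 2 (by decide) (by decide)
    have h20 : H 2 0 = 0 := hHc 2 0 (by decide) (by decide)
    have e1 : y 1 = c * (H 1 0 * y 0) := by
      simpa [mulVec, dotProduct, Fin.sum_univ_three, h11, h12] using congrFun hHy 1
    have e2' : y 2 = c * (H 2 1 * y 1) := by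
      simpa [mulVec, dotProduct, Fin.sum_univ_three, h20, h22] using congrFun hHy 2
    have f1 : e 1 * y 1 + u * y 2 = c * c * y 1 := by
      simpa [mulVec, dotProduct, Fin.sum_univ_three, t10, t11, t12] using congrFun hTy 1
    have f2 : e 2 * y 2 = c * c * y 2 := by
      simpa [mulVec, dotProduct, Fin.sum_univ_three, t20, t21, t22] using congrFun hTy 2
    by_contra hne
    have hy1' : y 1 = 0 := by
      by_contra h
      have hc0 : c ≠ 0 := fun h0 => h (by rw [e1, h0, zero_mul])
      have hy2' : y 2 ≠ 0 := by rw [e2']; exact mul_ne_zero hc0 (mul_ne_zero h21 h)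
      have hc2 : c * c = e 2 := (mul_right_cancel₀ hy2' f2).symm
      refine hbad c hc2 (mul_right_cancel₀ h ?_)
      rw [e2', hc2] at f1
      linear_combination f1
    have hy2' : y 2 = 0 := by rw [e2', hy1']; simp
    have hy0 : y 0 = 0 := by
      have hc0 : c ≠ 0 := fun h0 => hne (by rw [hHy, h0, zero_smul])
      rw [hy1'] at e1
      rcases mul_eq_zero.1 e1.symm with h | h
      · exact absurd h hc0
      · exact (mul_eq_zero.1 h).resolve_left h10
    exact hne (funext fun i => by fin_cases i <;> assumption)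

/-- **Three conjugates in dimension three.** -/
theorem covNF_three [Fintype F] (hF : 4 ≤ Fintype.card F) {A : Matrix (Fin 3) (Fin 3) F}
    (hA : A.det ≠ 0) (hw : Wide A) {B : Matrix (Fin 3) (Fin 3) F} (hB : B.det = A.det ^ 3)
    (hns : ∀ c : F, B ≠ c • 1) : CovNF 3 A B := by
  classical
  obtain ⟨v, hv⟩ := exists_kry_of_wide hF hw
  obtain ⟨e, he, hsimple, hprod⟩ := exists_spectrum hF (k := 3) le_rfl (A.det ^ 2) (pow_ne_zero _ hA)
  have hs' : e 0 ≠ e 1 ∧ e 0 ≠ e 2 :=
    ⟨hsimple 0 1 rfl (by decide), hsimple 0 2 rfl (by decide)⟩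
  obtain ⟨T, hgeom, hch, hcov⟩ := exists_pair_three hF hA hv e he hs' hprod
  have hTd : T.det = A.det ^ 2 := hcov.cov.det_eq
  have hsp : T.charpoly.Splits := by rw [hch]; exact Splits.prod fun i _ => Splits.X_sub_C _
  -- it is enough to write a conjugate of `B` as a product of two matrices
  have key : ∀ T' X : Matrix (Fin 3) (Fin 3) F, Geom1 T' → T'.charpoly = T.charpoly → Sim X A →
      Sim B (T' * X) → CovNF 3 A B := by
    intro T' X hg' hc' hX hBX
    have hsim : Sim T T' := geom1_sim 3 T T' hgeom hg' hsp (by rw [hTd]; exact pow_ne_zero _ hA) hc'.symm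
    exact ((hcov.conj hsim.symm).add (Cov.single hX)).conj hBX
  rcases exists_kry hF hns with ⟨w, hw'⟩ | ⟨l, c, r, hc, hr, hBs⟩
  · obtain ⟨f, hfB⟩ : ∃ f, B.charpoly = f := ⟨_, rfl⟩
    have hf : f.Monic := hfB ▸ Matrix.charpoly_monic _
    have hd : f.natDegree = 3 := by rw [← hfB, Matrix.charpoly_natDegree_eq_dim, Fintype.card_fin]
    have hBc : Sim B (compMat f hf hd) := kry_sim_compMat hw' f hf hd hfB
    obtain ⟨g, hgA⟩ : ∃ g, A.charpoly = g := ⟨_, rfl⟩
    have hg : g.Monic := hgA ▸ Matrix.charpoly_monic _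
    have hgd : g.natDegree = 3 := by rw [← hgA, Matrix.charpoly_natDegree_eq_dim, Fintype.card_fin]
    have hAc : Sim A (compMat g hg hgd) := kry_sim_compMat hv g hg hgd hgA
    have hg0 : g.coeff 0 ≠ 0 := fun h0 => hA (by rw [hAc.det_eq, compMat_det, h0, mul_zero])
    obtain ⟨H, hH, hHs, -⟩ := exists_companion (by norm_num) g hg hgd hg0 1 one_ne_zero
    have hHA : Sim H A := (hHs.sim one_ne_zero).trans hAc.symm
    obtain ⟨T', hg', hc', -, hTH⟩ := exists_twist_three hH e he hs' 1 one_ne_zero f hf hd (by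
      rw [← hBc.det_eq, hB, hprod, hHA.det_eq, pow_succ])
    exact key T' H hg' (hc'.trans hch.symm) hHA (hBc.trans hTH.symm)
  · set σ := r 0 * c 0 + r 1 * c 1 + r 2 * c 2 with hσ
    set m := l + σ with hm
    set G : Matrix (Fin 3) (Fin 3) F := !![l, 0, 0; 0, l, 0; 1, 0, m] with hG
    have hBG : Sim B G := by
      refine hBs.trans ?_
      obtain ⟨P, hP, eP⟩ := Classical.SLThreeSquare.sim_rankOne l c r hr hc
      obtain ⟨Q, hQ, eQ⟩ := Classical.SLThreeSquare.sim_rankOne l ![0, 0, 1] ![1, 0, σ]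
        (by simp) (fun h => by simpa using congrFun h 2)
      have hG' : Classical.SLThreeSquare.rankOne l ![0, 0, 1] ![1, 0, σ] = G := by
        ext i j
        fin_cases i <;> fin_cases j <;> simp [Classical.SLThreeSquare.rankOne, hG, hm]
      rw [hG'] at eQ
      have eσ : (![1, 0, σ] : Fin 3 → F) 0 * (![0, 0, 1] : Fin 3 → F) 0 +
          (![1, 0, σ] : Fin 3 → F) 1 * (![0, 0, 1] : Fin 3 → F) 1 +
          (![1, 0, σ] : Fin 3 → F) 2 * (![0, 0, 1] : Fin 3 → F) 2 = σ := by simp
      rw [eσ] at eQ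
      exact (sim_of_mul_eq hP eP).trans (sim_of_mul_eq hQ eQ).symm
    have hGd : l * l * m = A.det ^ 3 := by
      rw [← hB, hBG.det_eq]; simp [hG, det_fin_three]
    have hl : l ≠ 0 := by
      rintro rfl
      exact pow_ne_zero _ hA (by rw [← hGd]; simp)
    have hm0 : m ≠ 0 := by
      intro h
      exact pow_ne_zero _ hA (by rw [← hGd, h, mul_zero])
    set x := (e 0)⁻¹ with hx
    set y := (e 1)⁻¹ with hy
    set z := (e 2)⁻¹ with hz
    set b := A.trace - x * l - y * l - z * m with hb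
    set a := ((x * l + b) * (y * l) + x * z * l * m + y * z * l * m - Classical.SLThreeSquare.e2 A) / l with ha
    have hal : a * l = (x * l + b) * (y * l) + x * z * l * m + y * z * l * m -
        Classical.SLThreeSquare.e2 A := by rw [ha, div_mul_cancel₀ _ hl]
    set U : Matrix (Fin 3) (Fin 3) F := !![x, a, b; 0, y, 1; 0, 0, z] with hU
    have hUd : U.det = x * y * z := by simp [hU, det_fin_three]
    have hxyz : x * y * z * A.det ^ 2 = 1 := by
      rw [← hprod, Fin.prod_univ_three, hx, hy, hz]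
      field_simp [he 0, he 1, he 2]
    have hU0 : U.det ≠ 0 := by
      rw [hUd]
      intro h
      rw [h, zero_mul] at hxyz
      exact zero_ne_one hxyz
    set M := U * G with hM
    have hMd : M.det = A.det := by
      rw [hM, det_mul, hUd, show G.det = l * l * m by simp [hG, det_fin_three], hGd]
      linear_combination A.det * hxyz
    have hMt : M.trace = A.trace := by
      simp [hM, hU, hG, trace_fin_three, Matrix.mul_apply, Fin.sum_univ_three, hb]
      ring
    have hMe : Classical.SLThreeSquare.e2 M = Classical.SLThreeSquare.e2 A := by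
      simp [Classical.SLThreeSquare.e2, hM, hU, hG, Matrix.mul_apply, Fin.sum_univ_three] at hal ⊢
      linear_combination -hal
    have hMv : (kry M ![1, 0, 0]).det ≠ 0 := by
      have : (kry M ![1, 0, 0]).det = -(y * z * l) := by
        simp [kry, hM, hU, hG, det_fin_three, mulVec, dotProduct, Fin.sum_univ_three, Matrix.mul_apply]
        ring
      rw [this]
      exact neg_ne_zero.2 (mul_ne_zero (mul_ne_zero (inv_ne_zero (he 1)) (inv_ne_zero (he 2))) hl)
    have hMA : Sim M A := by
      have h1 := kry_sim hMv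
      rw [hMd, hMt, hMe] at h1
      exact h1.trans (kry_sim hv).symm
    have hup : U.IsUpperTriangular := by
      intro i j hij
      have hij' : j.val < i.val := hij
      fin_cases i <;> fin_cases j <;> simp [hU] at hij' ⊢
    have hUg : Geom1 U := by
      refine geom1_upper hup (fun i j hi hij => ?_) (fun i j hi hij => ?_) (fun i j hi hj => ?_)
      · exfalso
        have := j.2
        omega
      · obtain ⟨rfl, rfl⟩ : i = 1 ∧ j = 2 := by
          have := i.2; have := j.2
          exact ⟨Fin.ext (by simp; omega), Fin.ext (by simp; omega)⟩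
        simp [hU]
      · rw [show i = 0 from Fin.ext hi]
        fin_cases j
        · simp at hj
        · simpa [hU, hx, hy] using hs'.1
        · simpa [hU, hx, hz] using hs'.2
    have hUc : U⁻¹.charpoly = T.charpoly := by
      have hd : U.charpoly = (diagonal fun i => (e i)⁻¹).charpoly := by
        rw [Matrix.charpoly_of_isUpperTriangular _ hup, Matrix.charpoly_diagonal]
        simp [Fin.prod_univ_three, hU, hx, hy, hz]
      rw [charpoly_inv_congr hU0 hd, hch]
      have hdi : (diagonal fun i => (e i)⁻¹)⁻¹ = diagonal e := by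
        refine Matrix.inv_eq_right_inv ?_
        rw [diagonal_mul_diagonal, ← diagonal_one]
        congr 1
        funext i
        exact inv_mul_cancel₀ (he i)
      rw [hdi, Matrix.charpoly_diagonal]
    refine key U⁻¹ M (hUg.inv hU0) hUc hMA ?_
    rwa [hM, ← Matrix.mul_assoc, nonsing_inv_mul _ (isUnit_iff_ne_zero.2 hU0), Matrix.one_mul]

end Cfsg.Agent.CoverPSL
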