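import Cfsg.Agent.Lib.CoverPSL.Sharp
import Cfsg.Agent.Lib.CoverPSL.Basic

/-!
# From matrices to the projective special linear group
-/

set_option autoImplicit false

namespace Cfsg.Agent.CoverPSL

open Matrix

variable {F : Type*} [Field F]

/-- A central element of the special linear group is a scalar matrix, and conversely. -/
theorem mem_center_scalar {n : ℕ} (G : Matrix.SpecialLinearGroup (Fin n) F) :
    G ∈ Subgroup.center (Matrix.SpecialLinearGroup (Fin n) F) ↔
      ∃ a : F, (G : Matrix (Fin n) (Fin n) F) = a • 1 := by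
  rw [Matrix.SpecialLinearGroup.mem_center_iff]
  constructor
  · rintro ⟨r, -, hr⟩
    exact ⟨r, by rw [← hr, smul_one_eq_diagonal]; rfl⟩
  · rintro ⟨a, ha⟩
    refine ⟨a, ?_, by rw [ha, smul_one_eq_diagonal]; rfl⟩
    have h := G.2
    rw [ha, det_smul, det_one, mul_one] at h
    exact h

/-- The covering half from the covering by matrices with conjugators of determinant one. -/
theorem psl_cover [Fintype F] {n : ℕ} (hn : 3 ≤ n)
    (H : ∀ A : Matrix (Fin n) (Fin n) F, A.det = 1 → (∀ a : F, A ≠ a • 1) →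
      (∀ B : Matrix (Fin n) (Fin n) F, B.det = 1 → (∀ a : F, B ≠ a • 1) → CovS n A B) ∧
        ∃ a : F, CovS n A (a • 1)) :
    ∀ x : Matrix.ProjectiveSpecialLinearGroup (Fin n) F, x ≠ 1 → ∀ g : Matrix.ProjectiveSpecialLinearGroup (Fin n) F, ∃ f : Fin n → Matrix.ProjectiveSpecialLinearGroup (Fin n) F, g = (List.ofFn fun i => f i * x * (f i)⁻¹).prod := by
  classical
  intro x hx g
  let π : Matrix.SpecialLinearGroup (Fin n) F →* ProjectiveSpecialLinearGroup (Fin n) F := QuotientGroup.mk' _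
  obtain ⟨A, rfl⟩ := QuotientGroup.mk'_surjective (Subgroup.center (Matrix.SpecialLinearGroup (Fin n) F)) x
  obtain ⟨G, rfl⟩ := QuotientGroup.mk'_surjective (Subgroup.center (Matrix.SpecialLinearGroup (Fin n) F)) g
  have hns : ∀ a : F, (A : Matrix (Fin n) (Fin n) F) ≠ a • 1 := fun a ha =>
    hx ((QuotientGroup.eq_one_iff A).2 ((mem_center_scalar A).2 ⟨a, ha⟩))
  obtain ⟨hB, a, ha⟩ := H A A.2 hns
  -- a matrix with the same image as `G`
  obtain ⟨B, hcov, hπ⟩ : ∃ B : Matrix.SpecialLinearGroup (Fin n) F,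
      CovS n (A : Matrix (Fin n) (Fin n) F) B ∧ π B = π G := by
    by_cases hG : ∀ c : F, (G : Matrix (Fin n) (Fin n) F) ≠ c • 1
    · exact ⟨G, hB G G.2 hG, rfl⟩
    · push Not at hG
      obtain ⟨c, hc⟩ := hG
      have had : (a • (1 : Matrix (Fin n) (Fin n) F)).det = 1 := by
        rw [ha.cov.det_eq, A.2, one_pow]
      let S : Matrix.SpecialLinearGroup (Fin n) F := ⟨a • 1, had⟩
      refine ⟨S, ha, ?_⟩
      show QuotientGroup.mk _ = QuotientGroup.mk _
      rw [(QuotientGroup.eq_one_iff S).2 ((mem_center_scalar S).2 ⟨a, rfl⟩),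
        (QuotientGroup.eq_one_iff _).2 ((mem_center_scalar G).2 ⟨c, hc⟩)]
  obtain ⟨l, hl, hX, hp⟩ := hcov
  have hQ : ∀ i : Fin n, ∃ Q : Matrix.SpecialLinearGroup (Fin n) F,
      l[i.val]'(by omega) = ((Q * A * Q⁻¹ : Matrix.SpecialLinearGroup (Fin n) F) : Matrix (Fin n) (Fin n) F) := by
    intro i
    obtain ⟨P, hP, e⟩ := hX _ (List.getElem_mem (show i.val < l.length by omega))
    refine ⟨⟨P, hP⟩, ?_⟩
    set Q : Matrix.SpecialLinearGroup (Fin n) F := ⟨P, hP⟩ with hQdef
    rw [Matrix.SpecialLinearGroup.coe_mul, Matrix.SpecialLinearGroup.coe_mul, ← e, Matrix.mul_assoc,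
      ← show ((Q : Matrix (Fin n) (Fin n) F)) = P from rfl, ← Matrix.SpecialLinearGroup.coe_mul, mul_inv_cancel,
      Matrix.SpecialLinearGroup.coe_one, Matrix.mul_one]
  choose Q hQe using hQ
  refine ⟨fun i => π (Q i), ?_⟩
  let co : Matrix.SpecialLinearGroup (Fin n) F →* Matrix (Fin n) (Fin n) F :=
    { toFun := fun g => (g : Matrix (Fin n) (Fin n) F), map_one' := rfl, map_mul' := fun _ _ => rfl }
  have hprod : (List.ofFn fun i => Q i * A * (Q i)⁻¹).prod = B := by
    apply Subtype.ext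
    show co _ = _
    rw [map_list_prod, List.map_ofFn, ← hp]
    congr 1
    refine List.ext_getElem (by simp [hl]) fun i h1 h2 => ?_
    rw [List.getElem_ofFn]
    exact (hQe ⟨i, by omega⟩).symm
  show π G = _
  rw [← hπ, ← hprod, map_list_prod, List.map_ofFn]
  refine congrArg List.prod (congrArg List.ofFn (funext fun i => ?_))
  simp [π]

/-- The sharpness half. -/
theorem psl_sharp [Fintype F] {n : ℕ} (hn : 3 ≤ n) :
    ∃ x : Matrix.ProjectiveSpecialLinearGroup (Fin n) F, x ≠ 1 ∧ ∃ g : Matrix.ProjectiveSpecialLinearGroup (Fin n) F, ∀ f : Fin (n - 1) → Matrix.ProjectiveSpecialLinearGroup (Fin n) F, g ≠ (List.ofFn fun i => f i * x * (f i)⁻¹).prod :=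
  sharp (by omega)

end Cfsg.Agent.CoverPSL
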